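import Mathlib
import Cfsg.Agent.H889.C7.Pure

/-!
Extraction of pure operators from slot-invariant subspaces of `End (T n)`.
-/

set_option autoImplicit false
set_option linter.unusedSectionVars false
set_option linter.unusedVariables false
set_option linter.unusedSimpArgs false

namespace Cfsg.Agent.H889.C7

open Module Cfsg.Agent.H889

variable {F : Type*} [Field F] {k : ℕ} {ω : LinearMap.BilinForm F (Fin k → F)}

/-- `c_w`. -/
def IsC (ω : LinearMap.BilinForm F (Fin k → F)) (x : Module.End F (Fin k → F)) : Prop :=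
  ∃ w : Fin k → F, w ≠ 0 ∧ x = rk ω w w

/-- An isotropic bivector. -/
def IsN (ω : LinearMap.BilinForm F (Fin k → F)) (x : Module.End F (Fin k → F)) : Prop :=
  ∃ w w' : Fin k → F, ω w w' = 0 ∧ w ≠ 0 ∧ (∀ c : F, w' ≠ c • w) ∧ x = rk ω w w' - rk ω w' w

/-- The image in slot `m` lies in a hyperplane. -/
def ImP (ω : LinearMap.BilinForm F (Fin k → F)) {n : ℕ} (m : Fin n) (s : Module.End F (T F k n)) : Prop :=
  ∃ y : Fin k → F, y ≠ 0 ∧ sE m (rk ω y y) * s = 0

section

variable (hω : Symp ω)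
include hω

theorem κT_sE_ne {n : ℕ} (i : Fin (n + 1)) (m : Fin n) (x : Module.End F (Fin k → F)) (w : Fin k → F)
    (v : T F k (n + 1)) : κT ω i w (sE (i.succAbove m) x v) = sE m x (κT ω i w v) := by
  have h : κT ω i w ∘ₗ sE (i.succAbove m) x = sE m x ∘ₗ κT ω i w := by
    refine tp_ext fun xs => ?_
    rw [LinearMap.comp_apply, LinearMap.comp_apply, sE_tp, κT_tp, κT_tp, map_smul, sE_tp,
      Function.update_of_ne (Fin.succAbove_ne _ _).symm]
    congr 2
    funext j
    rw [Fin.removeNth_apply]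
    by_cases h : j = m
    · subst h
      rw [Function.update_self, Function.update_self]; rfl
    · rw [Function.update_of_ne (fun h' => h (Fin.succAbove_right_injective h')), Function.update_of_ne h]
      rfl
  exact LinearMap.congr_fun h v

theorem map_slot_conj {n : ℕ} (i : Fin (n + 1)) (m : Fin n) (α : (Module.End F (Fin k → F))ˣ)
    (x : Module.End F (Fin k → F)) (r : Module.End F (T F k n)) :
    sE (i.succAbove m) α.1 * (DT hω i).map hω x r * sE (i.succAbove m) (α⁻¹).1 =
      (DT hω i).map hω x (sE m α.1 * r * sE m (α⁻¹).1) := by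
  rw [← map_one_sE hω, ← map_one_sE hω, TD.map_mul, TD.map_mul, one_mul, mul_one]

/-- Slices of invariant subspaces. -/
def slice (hω : Symp ω) {n : ℕ} (i : Fin (n + 1)) (T' : Submodule F (Module.End F (T F k (n + 1))))
    (x : Module.End F (Fin k → F)) : Submodule F (Module.End F (T F k n)) where
  carrier := {r | (DT hω i).map hω x r ∈ T'}
  zero_mem' := by
    have h : (DT hω i).map hω x 0 = 0 := by
      have := (DT hω i).map_smul_right hω 0 x 0
      rwa [zero_smul, zero_smul] at this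
    change (DT hω i).map hω x 0 ∈ T'
    rw [h]; exact T'.zero_mem
  add_mem' := by
    intro r r' hr hr'
    change (DT hω i).map hω x (r + r') ∈ T'
    rw [TD.map_add_right]; exact T'.add_mem hr hr'
  smul_mem' := by
    intro c r hr
    change (DT hω i).map hω x (c • r) ∈ T'
    rw [TD.map_smul_right]; exact T'.smul_mem c hr

theorem slice_inv {n : ℕ} {i : Fin (n + 1)} {T' : Submodule F (Module.End F (T F k (n + 1)))}
    (hT : SlotInv ω T') (x : Module.End F (Fin k → F)) : SlotInv ω (slice hω i T' x) := by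
  intro m α hα r hr
  change (DT hω i).map hω x _ ∈ T'
  rw [← map_slot_conj]
  exact hT _ _ hα _ hr

theorem map_inj {n : ℕ} (hk : 0 < k) (i : Fin (n + 1)) {s : Module.End F (T F k n)}
    (h : (DT hω i).map hω 1 s = 0) : s = 0 := by
  obtain ⟨a₀, ha₀⟩ := exists_ne_vec (F := F) hk
  refine LinearMap.ext fun b => ?_
  have h1 := LinearMap.congr_fun h ((DT hω i).ι a₀ b)
  rw [TD.map_ι, LinearMap.zero_apply, Module.End.one_apply] at h1
  exact (DT hω i).ι_inj hω ha₀ h1

theorem ImP.one_map {n : ℕ} (hk : 0 < k) {i : Fin (n + 1)} {m : Fin n} {s : Module.End F (T F k n)}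
    (h : ImP ω (i.succAbove m) ((DT hω i).map hω 1 s)) : ImP ω m s := by
  obtain ⟨y, hy, h⟩ := h
  refine ⟨y, hy, ?_⟩
  rw [← map_one_sE hω, TD.map_mul, one_mul] at h
  exact map_inj hω hk i h

theorem not_ImP_one {n : ℕ} (hk : 0 < k) {i : Fin (n + 1)} {s : Module.End F (T F k n)}
    (h : ImP ω i ((DT hω i).map hω 1 s)) : s = 0 := by
  obtain ⟨y, hy, h⟩ := h
  obtain ⟨y', hy'⟩ := hω.exists_pair hy
  refine LinearMap.ext fun b => ?_
  have h1 := LinearMap.congr_fun h ((DT hω i).ι y' b)
  rw [Module.End.mul_apply, TD.map_ι, DT_ι, sE_ιT_self, Module.End.one_apply, rk_apply, hy', one_smul,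
    LinearMap.zero_apply] at h1
  exact (DT hω i).ι_inj hω hy h1

/-- One extraction step. -/
theorem extract_step (hk : 4 ≤ k) {n : ℕ} (i : Fin (n + 1))
    {T' : Submodule F (Module.End F (T F k (n + 1)))} (hT : SlotInv ω T')
    {s : Module.End F (T F k (n + 1))} (hs : s ∈ T') (hne : ∃ u, s * (DT hω i).cs u 1 ≠ (DT hω i).cs u 1 * s) :
    ∃ x r, (IsC ω x ∨ IsN ω x) ∧ r ≠ 0 ∧ (DT hω i).map hω x r ∈ T' ∧
      ∀ m : Fin n, ImP ω (i.succAbove m) s → ImP ω m r := by
  -- a nonzero symbol
  obtain ⟨w, w', hww', hw, hw', hr₁⟩ : ∃ w w' : Fin k → F, ω w w' = 0 ∧ w ≠ 0 ∧ (∀ c : F, w' ≠ c • w) ∧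
      κT ω i w ∘ₗ s ∘ₗ ιT i w' ≠ 0 := by
    by_contra hcon
    push Not at hcon
    obtain ⟨u, hu⟩ := hne
    apply hu
    apply comm_of_stab _ hω
    intro a b
    by_cases ha : a = 0
    · exact ⟨0, by rw [ha]; simp⟩
    apply (DT hω i).exists_of_perp hω ha
    have key : ∀ m, ω a m = 0 → (∀ c : F, m ≠ c • a) → (DT hω i).κ m (s (ιT i a b)) = 0 := by
      intro m hm hma
      have hm0 : m ≠ 0 := by simpa using hma 0
      have h := hcon m a (by rw [hω.skew, hm, neg_zero]) hm0 (by
        intro c hc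
        have hc0 : c ≠ 0 := by
          rintro rfl
          rw [zero_smul] at hc
          exact ha hc
        exact hma c⁻¹ (by rw [hc, inv_smul_smul₀ hc0]))
      exact LinearMap.congr_fun h b
    intro n' hn'
    by_cases hna : ∃ c : F, n' = c • a
    · obtain ⟨c, rfl⟩ := hna
      obtain ⟨m, hm, hma⟩ := exists_perp_avoid hω ![a] a (by omega)
      have hm0 := hm 0
      simp only [Matrix.cons_val_zero, Matrix.cons_val_fin_one] at hm0
      have e1 := key m hm0 hma
      have e2 := key (m + c • a) (by rw [map_add, hm0, map_smul, hω.alt, smul_zero, add_zero]) (by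
        intro d hd
        apply hma (d - c)
        rw [sub_smul, ← hd]; abel)
      rw [map_add, LinearMap.add_apply, e1, zero_add] at e2
      exact e2
    · push Not at hna
      exact key n' hn' hna
  set r₁ := κT ω i w ∘ₗ s ∘ₗ ιT i w' with hr₁'
  set r₂ := κT ω i w' ∘ₗ s ∘ₗ ιT i w with hr₂'
  have hw'0 : w' ≠ 0 := by simpa using hw' 0
  have he : ιT i w ∘ₗ r₁ ∘ₗ κT ω i w' + ιT i w' ∘ₗ r₂ ∘ₗ κT ω i w ∈ T' := by
    have := inv_pair hω hT i hww' hs
    rwa [csc_eq hω, csc_eq hω] at this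
  have hI : ∀ m : Fin n, ImP ω (i.succAbove m) s → ∃ y : Fin k → F, y ≠ 0 ∧
      sE m (rk ω y y) * r₁ = 0 ∧ sE m (rk ω y y) * r₂ = 0 := by
    rintro m ⟨y, hy, h⟩
    refine ⟨y, hy, ?_, ?_⟩
    · refine LinearMap.ext fun b => ?_
      rw [Module.End.mul_apply, hr₁', LinearMap.comp_apply, LinearMap.comp_apply, ← κT_sE_ne hω,
        ← Module.End.mul_apply, h, LinearMap.zero_apply, map_zero, LinearMap.zero_apply]
    · refine LinearMap.ext fun b => ?_
      rw [Module.End.mul_apply, hr₂', LinearMap.comp_apply, LinearMap.comp_apply, ← κT_sE_ne hω,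
        ← Module.End.mul_apply, h, LinearMap.zero_apply, map_zero, LinearMap.zero_apply]
  by_cases hsum : r₁ + r₂ = 0
  · refine ⟨rk ω w w' - rk ω w' w, r₁, Or.inr ⟨w, w', hww', hw, hw', rfl⟩, hr₁, ?_, ?_⟩
    · have h2 : r₂ = -r₁ := eq_neg_of_add_eq_zero_right hsum
      have e : ∀ r : Module.End F (T F k n), (DT hω i).map hω (rk ω w w' - rk ω w' w) r =
          ιT i w ∘ₗ r ∘ₗ κT ω i w' + ιT i w' ∘ₗ (-r) ∘ₗ κT ω i w := by
        intro r
        refine (DT hω i).ext hω fun x b => ?_
        have k1 : ∀ u v b, κT ω i u (ιT i v b) = ω u v • b := fun u v b => (DT hω i).κι _ _ _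
        rw [TD.map_ι, DT_ι, LinearMap.add_apply, LinearMap.comp_apply, LinearMap.comp_apply, LinearMap.comp_apply,
          LinearMap.comp_apply, k1, k1, LinearMap.sub_apply, rk_apply, rk_apply, map_sub, LinearMap.sub_apply]
        simp only [map_smul, LinearMap.smul_apply, LinearMap.neg_apply, map_neg, smul_neg]
        rw [sub_eq_add_neg]
      rw [h2, ← e] at he
      exact he
    · intro m hm
      obtain ⟨y, hy, h1, _⟩ := hI m hm
      exact ⟨y, hy, h1⟩
  · refine ⟨rk ω w w, r₁ + r₂, Or.inl ⟨w, hw, rfl⟩, hsum, ?_, ?_⟩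
    · obtain ⟨γ, hγ, hγw, hγw'⟩ := exists_iso hω (a := w) (x := w') (y := w' + w) hww'
        (by rw [map_add, hww', hω.alt, add_zero]) hw' (by
          intro c hc
          apply hw' (c - 1)
          rw [sub_smul, one_smul, ← hc]; abel)
      have h1 := hT i γ hγ _ he
      rw [mul_add, add_mul, conj_cs_self hω i hγ, conj_cs_self hω i hγ, hγw, hγw'] at h1
      have h2 := T'.sub_mem h1 he
      have e : (DT hω i).map hω (rk ω w w) (r₁ + r₂) =
          ιT i w ∘ₗ r₁ ∘ₗ κT ω i (w' + w) + ιT i (w' + w) ∘ₗ r₂ ∘ₗ κT ω i w -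
            (ιT i w ∘ₗ r₁ ∘ₗ κT ω i w' + ιT i w' ∘ₗ r₂ ∘ₗ κT ω i w) := by
        rw [← TD.el_eq_map]
        refine LinearMap.ext fun v => ?_
        simp only [TD.el_apply, LinearMap.sub_apply, LinearMap.add_apply, LinearMap.comp_apply, map_add, DT_ι, DT_κ]
        abel
      rw [e]; exact h2
    · intro m hm
      obtain ⟨y, hy, h1, h2⟩ := hI m hm
      exact ⟨y, hy, by rw [mul_add, h1, h2, add_zero]⟩

/-- **Extraction.** -/
theorem extract (hk : 4 ≤ k) : ∀ (n : ℕ) (T' : Submodule F (Module.End F (T F k n))), SlotInv ω T' →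
    ∀ s ∈ T', s ≠ 0 → ∃ x : Fin n → Module.End F (Fin k → F), (∀ m, IsC ω (x m) ∨ IsN ω (x m) ∨ x m = 1) ∧
      (∀ m, ImP ω m s → x m ≠ 1) ∧ pm' x ∈ T' := by
  intro n
  induction n with
  | zero =>
    intro T' _ s hs hs0
    refine ⟨fun m => m.elim0, fun m => m.elim0, fun m => m.elim0, ?_⟩
    obtain ⟨τ, hτ⟩ := scalar_T0 s
    have h1 : pm' (fun m : Fin 0 => (m.elim0 : Module.End F (Fin k → F))) = 1 := by
      refine tp_ext fun xs => ?_
      rw [pm'_tp, Module.End.one_apply]
      congr 1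
      funext i
      exact i.elim0
    have hτ0 : τ ≠ 0 := by
      rintro rfl
      rw [zero_smul] at hτ
      exact hs0 hτ
    have h2 : (1 : Module.End F (T F k 0)) = τ⁻¹ • s := by
      rw [hτ, inv_smul_smul₀ hτ0]
    rw [h1, h2]
    exact T'.smul_mem _ hs
  | succ n ih =>
    intro T' hT s hs hs0
    have hone : ∀ x : Module.End F (Fin k → F), IsC ω x ∨ IsN ω x → x ≠ 1 := by
      rintro x hx rfl
      rcases hx with ⟨w, hw, h⟩ | ⟨w, w', hww', hw, hw', h⟩
      · have := congrArg (fun z : Module.End F (Fin k → F) => z w) h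
        simp only [Module.End.one_apply, rk_apply, hω.alt, zero_smul] at this
        exact hw this
      · have := congrArg (fun z : Module.End F (Fin k → F) => z w) h
        simp only [Module.End.one_apply, LinearMap.sub_apply, rk_apply, hω.alt, zero_smul] at this
        rw [hω.skew w' w, hww', neg_zero, zero_smul, sub_zero] at this
        exact hw this
    by_cases hcomm : ∃ u, s * (DT hω (0 : Fin (n + 1))).cs u 1 ≠ (DT hω (0 : Fin (n + 1))).cs u 1 * s
    · obtain ⟨x₀, r, hx₀, hr, hmem, hI⟩ := extract_step hω hk 0 hT hs hcomm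
      obtain ⟨x, h1, h2, h3⟩ := ih (slice hω 0 T' x₀) (slice_inv hω hT x₀) r hmem hr
      refine ⟨(0 : Fin (n + 1)).insertNth x₀ x, ?_, ?_, ?_⟩
      · intro m
        rcases Fin.eq_self_or_eq_succAbove (0 : Fin (n + 1)) m with rfl | ⟨m', rfl⟩
        · rw [Fin.insertNth_apply_same]
          rcases hx₀ with h | h
          · exact Or.inl h
          · exact Or.inr (Or.inl h)
        · rw [Fin.insertNth_apply_succAbove]
          exact h1 m'
      · intro m hm
        rcases Fin.eq_self_or_eq_succAbove (0 : Fin (n + 1)) m with rfl | ⟨m', rfl⟩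
        · rw [Fin.insertNth_apply_same]
          exact hone x₀ hx₀
        · rw [Fin.insertNth_apply_succAbove]
          exact h2 m' (hI m' hm)
      · rw [← map_pm' hω]
        exact h3
    · push Not at hcomm
      obtain ⟨a₀, ha₀⟩ := exists_ne_vec (F := F) (k := k) (by omega)
      obtain ⟨s', hs'⟩ := one_map_of_comm (DT hω (0 : Fin (n + 1))) hω ha₀ hcomm
      have hs'0 : s' ≠ 0 := by
        rintro rfl
        apply hs0
        rw [hs']
        have := (DT hω (0 : Fin (n + 1))).map_smul_right hω 0 1 0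
        rwa [zero_smul, zero_smul] at this
      rw [hs'] at hs
      obtain ⟨x, h1, h2, h3⟩ := ih (slice hω 0 T' 1) (slice_inv hω hT 1) s' hs hs'0
      refine ⟨(0 : Fin (n + 1)).insertNth 1 x, ?_, ?_, ?_⟩
      · intro m
        rcases Fin.eq_self_or_eq_succAbove (0 : Fin (n + 1)) m with rfl | ⟨m', rfl⟩
        · rw [Fin.insertNth_apply_same]
          exact Or.inr (Or.inr rfl)
        · rw [Fin.insertNth_apply_succAbove]
          exact h1 m'
      · intro m hm
        rcases Fin.eq_self_or_eq_succAbove (0 : Fin (n + 1)) m with rfl | ⟨m', rfl⟩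
        · exfalso
          rw [hs'] at hm
          exact hs'0 (not_ImP_one hω (by omega) hm)
        · rw [Fin.insertNth_apply_succAbove]
          rw [hs'] at hm
          exact h2 m' (ImP.one_map hω (by omega) hm)
      · rw [← map_pm' hω]
        exact h3

/-- A nonscalar element gives an element with property `ImP` at some slot. -/
theorem exists_ImP (hk : 4 ≤ k) {n : ℕ} {T' : Submodule F (Module.End F (T F k (n + 1)))} (hT : SlotInv ω T')
    {s : Module.End F (T F k (n + 1))} (hs : s ∈ T') (hns : ¬ ∃ τ : F, s = τ • 1) :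
    ∃ (m : Fin (n + 1)) (e : Module.End F (T F k (n + 1))), e ∈ T' ∧ e ≠ 0 ∧ ImP ω m e := by
  obtain ⟨m, u, hmu⟩ : ∃ (m : Fin (n + 1)) (u : Fin k → F), s * sE m (rk ω u u) ≠ sE m (rk ω u u) * s := by
    by_contra hcon
    push Not at hcon
    exact hns (schur hω (by omega) (n + 1) s hcon)
  rw [C_eq hω] at hmu
  obtain ⟨x, r, hx, hr, hmem, _⟩ := extract_step hω hk m hT hs ⟨u, hmu⟩
  refine ⟨m, _, hmem, ?_, ?_⟩
  · intro h0
    apply hr
    -- find a vector not killed by `x`
    obtain ⟨v, hv⟩ : ∃ v, x v ≠ 0 := by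
      rcases hx with ⟨w, hw, rfl⟩ | ⟨w, w', hww', hw, hw', rfl⟩
      · obtain ⟨v, hv⟩ := hω.exists_pair hw
        exact ⟨v, by rw [rk_apply, hv, one_smul]; exact hw⟩
      · obtain ⟨v, hv⟩ := hω.exists_pair hw
        refine ⟨v, fun h => ?_⟩
        rw [LinearMap.sub_apply, rk_apply, rk_apply, hv, one_smul, sub_eq_zero] at h
        exact hw' _ h.symm
    refine LinearMap.ext fun b => ?_
    have h1 := LinearMap.congr_fun h0 ((DT hω m).ι v b)
    rw [TD.map_ι, LinearMap.zero_apply] at h1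
    exact (DT hω m).ι_inj hω hv h1
  · rcases hx with ⟨w, hw, rfl⟩ | ⟨w, w', hww', hw, hw', rfl⟩
    · refine ⟨w, hw, ?_⟩
      rw [← map_sE hω, TD.map_mul]
      have : rk ω w w * rk ω w w = 0 := by
        refine LinearMap.ext fun v => ?_
        rw [Module.End.mul_apply, rk_apply, rk_apply, map_smul, hω.alt]; simp
      rw [this]
      have h0 := (DT hω m).map_smul_left hω 0 0 (1 * r)
      rwa [zero_smul, zero_smul] at h0
    · refine ⟨w, hw, ?_⟩
      rw [← map_sE hω, TD.map_mul]
      have : rk ω w w * (rk ω w w' - rk ω w' w) = 0 := by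
        refine LinearMap.ext fun v => ?_
        rw [Module.End.mul_apply, LinearMap.sub_apply, rk_apply, rk_apply, rk_apply, map_sub, map_smul, map_smul,
          hω.alt, hww']
        simp
      rw [this]
      have h0 := (DT hω m).map_smul_left hω 0 0 (1 * r)
      rwa [zero_smul, zero_smul] at h0

end

end Cfsg.Agent.H889.C7
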