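import Mathlib
import Cfsg.Agent.H889.C7.Extract

/-!
Enlarging the support of pure elements of `M`, `k ≥ 6`.
-/

set_option autoImplicit false
set_option linter.unusedSectionVars false
set_option linter.unusedVariables false
set_option linter.unusedSimpArgs false

namespace Cfsg.Agent.H889.C7

open Module Cfsg.Agent.H889

variable {F : Type*} [Field F] {k : ℕ} {ω : LinearMap.BilinForm F (Fin k → F)}

theorem rk_mul_rk (y x y' x' : Fin k → F) : rk ω y x * rk ω y' x' = ω x y' • rk ω y x' := by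
  refine LinearMap.ext fun v => ?_
  rw [Module.End.mul_apply, rk_apply, rk_apply, map_smul, LinearMap.smul_apply, rk_apply, smul_eq_mul, smul_smul,
    mul_comm]

theorem rk_conj {α : (Module.End F (Fin k → F))ˣ} (hα : IsoW ω α) (y x : Fin k → F) :
    α.1 * rk ω y x * (α⁻¹).1 = rk ω (α.1 y) (α.1 x) := by
  refine LinearMap.ext fun v => ?_
  rw [Module.End.mul_apply, Module.End.mul_apply, rk_apply, map_smul, rk_apply]
  congr 1
  conv_rhs => rw [← apply_inv α v]
  rw [hα]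

section Pairs

variable (hω : Symp ω)
include hω

theorem exists_iso_pair {w w' z z' : Fin k → F} (h : ω w w' = 0) (hw : w ≠ 0) (hw' : ∀ c : F, w' ≠ c • w)
    (h' : ω z z' = 0) (hz : z ≠ 0) (hz' : ∀ c : F, z' ≠ c • z) :
    ∃ α, IsoW ω α ∧ α.1 w = z ∧ α.1 w' = z' := by
  obtain ⟨α, hα, hαw⟩ := exists_iso_of_ne hω hw hz
  obtain ⟨β, hβ, hβz, hβw⟩ := exists_iso hω (a := z) (x := α.1 w') (y := z')
    (by rw [← hαw, hα, h]) h' (by
      intro c hc
      apply hw' c
      have e1 : α.1 (w' - c • w) = 0 := by rw [map_sub, map_smul, hc, hαw, sub_self]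
      have e2 := inv_apply α (w' - c • w)
      rw [e1, map_zero] at e2
      exact sub_eq_zero.1 e2.symm) hz'
  exact ⟨β * α, hβ.mul hα, by rw [mul_app, hαw, hβz], by rw [mul_app, hβw]⟩

/-- A conjugate with non-zero products and image in a hyperplane. -/
theorem slot_pair (hk : 4 ≤ k) {x : Module.End F (Fin k → F)} (hx : IsC ω x ∨ IsN ω x ∨ x = 1) :
    ∃ α : (Module.End F (Fin k → F))ˣ, IsoW ω α ∧ x * (α.1 * x * (α⁻¹).1) ≠ 0 ∧
      (x ≠ 1 → ∃ y : Fin k → F, y ≠ 0 ∧ rk ω y y * (x * (α.1 * x * (α⁻¹).1)) = 0 ∧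
        rk ω y y * ((α.1 * x * (α⁻¹).1) * x) = 0) := by
  rcases hx with ⟨w, hw, rfl⟩ | ⟨w, w', hww', hw, hw', rfl⟩ | rfl
  · obtain ⟨w₂, hw₂⟩ := hω.exists_pair hw
    have hw₂0 : w₂ ≠ 0 := by
      rintro rfl
      simp at hw₂
    obtain ⟨α, hα, hαw⟩ := exists_iso_of_ne hω hw hw₂0
    obtain ⟨y, hy, hy0⟩ := exists_perp_avoid hω ![w, w₂] 0 (by omega)
    have y0 := hy 0
    have y1 := hy 1
    simp only [Matrix.cons_val_zero, Matrix.cons_val_one, Matrix.cons_val_fin_one] at y0 y1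
    rw [hω.skew, neg_eq_zero] at y0 y1
    refine ⟨α, hα, ?_, fun _ => ⟨y, by simpa using hy0 0, ?_, ?_⟩⟩
    · rw [rk_conj hα, hαw, rk_mul_rk, hw₂, one_smul]
      intro h0
      have := LinearMap.congr_fun h0 w
      rw [rk_apply, hω.skew, hw₂, LinearMap.zero_apply, neg_one_smul, neg_eq_zero] at this
      exact hw this
    · rw [rk_conj hα, hαw, rk_mul_rk, mul_smul_comm, rk_mul_rk, y0, zero_smul, smul_zero]
    · rw [rk_conj hα, hαw, rk_mul_rk, mul_smul_comm, rk_mul_rk, y1, zero_smul, smul_zero]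
  · -- bivector
    obtain ⟨u', hu1, hu2⟩ := hω.exists_sep hw' trivial
    set u := -u' with hu
    have h1 : ω w' u = 1 := by rw [hu, map_neg, ← hω.skew, hu1]
    have h2 : ω w u = 0 := by rw [hu, map_neg, ← hω.skew, hu2]
    have h2' : ω u w = 0 := by rw [hω.skew, h2, neg_zero]
    have h3 : ω w' w = 0 := by rw [hω.skew, hww', neg_zero]
    have h4 : ω u w' = -1 := by rw [hω.skew, h1]
    have hu0 : u ≠ 0 := by
      intro h0
      rw [h0, map_zero] at h1
      exact zero_ne_one h1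
    obtain ⟨α, hα, hαw, hαw'⟩ := exists_iso_pair hω hww' hw hw' h2' hu0 (by
      intro c hc
      have h5 := h3
      rw [hc, map_smul, h1, smul_eq_mul, mul_one] at h5
      exact hw (by rw [hc, h5, zero_smul]))
    have e : α.1 * (rk ω w w' - rk ω w' w) * (α⁻¹).1 = rk ω u w - rk ω w u := by
      rw [mul_sub, sub_mul, rk_conj hα, rk_conj hα, hαw, hαw']
    have e1 : (rk ω w w' - rk ω w' w) * (rk ω u w - rk ω w u) = rk ω w w := by
      simp only [mul_sub, sub_mul, rk_mul_rk, h1, h2, h3, hω.alt, one_smul, zero_smul, sub_zero]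
    have e2 : (rk ω u w - rk ω w u) * (rk ω w w' - rk ω w' w) = (-1 : F) • rk ω w w := by
      simp only [mul_sub, sub_mul, rk_mul_rk, hww', h2', h4, hω.alt, zero_smul, sub_zero, zero_sub, neg_zero]
      exact neg_neg _
    refine ⟨α, hα, ?_, fun _ => ⟨w, hw, ?_, ?_⟩⟩
    · rw [e, e1]
      intro h0
      obtain ⟨v, hv⟩ := hω.exists_pair hw
      have := LinearMap.congr_fun h0 v
      rw [rk_apply, hv, one_smul, LinearMap.zero_apply] at this
      exact hw this
    · rw [e, e1, rk_mul_rk, hω.alt, zero_smul]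
    · rw [e, e2, mul_smul_comm, rk_mul_rk, hω.alt, zero_smul, smul_zero]
  · refine ⟨1, IsoW.one, ?_, fun h => absurd rfl h⟩
    rw [Units.val_one, inv_one, Units.val_one, mul_one, mul_one, mul_one]
    have : NeZero k := ⟨by omega⟩
    have : Nontrivial (Fin k → F) := by
      obtain ⟨a, ha⟩ := exists_ne_vec (F := F) (k := k) (by omega)
      exact ⟨⟨a, 0, ha⟩⟩
    exact one_ne_zero

/-- The special slot. -/
theorem slot_j (hk : 4 ≤ k) {x : Module.End F (Fin k → F)} (hx : IsC ω x ∨ IsN ω x) :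
    ∃ b : Fin k → F, b ≠ 0 ∧ (∃ v, (x * rk ω b b) v ≠ 0 ∧ (rk ω b b * x) v = 0) ∧
      ∃ y : Fin k → F, y ≠ 0 ∧ rk ω y y * (x * rk ω b b) = 0 ∧ rk ω y y * (rk ω b b * x) = 0 := by
  rcases hx with ⟨w, hw, rfl⟩ | ⟨w, w', hww', hw, hw', rfl⟩
  · obtain ⟨b, hb⟩ := hω.exists_pair hw
    have hb0 : b ≠ 0 := by
      rintro rfl
      simp at hb
    have hb' : ω b w = -1 := by rw [hω.skew, hb]
    obtain ⟨y, hy, hy0⟩ := exists_perp_avoid hω ![w, b] 0 (by omega)
    have y0 := hy 0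
    have y1 := hy 1
    simp only [Matrix.cons_val_zero, Matrix.cons_val_one, Matrix.cons_val_fin_one] at y0 y1
    rw [hω.skew, neg_eq_zero] at y0 y1
    refine ⟨b, hb0, ⟨w, ?_, ?_⟩, y, by simpa using hy0 0, ?_, ?_⟩
    · rw [rk_mul_rk, hb, one_smul, rk_apply, hb', neg_one_smul]
      exact neg_ne_zero.2 hw
    · rw [rk_mul_rk, LinearMap.smul_apply, rk_apply, hω.alt, zero_smul, smul_zero]
    · rw [rk_mul_rk, mul_smul_comm, rk_mul_rk, y0, zero_smul, smul_zero]
    · rw [rk_mul_rk, mul_smul_comm, rk_mul_rk, y1, zero_smul, smul_zero]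
  · obtain ⟨u', hu1, hu2⟩ := hω.exists_sep hw' trivial
    set b := -u' with hb
    have h1 : ω w' b = 1 := by rw [hb, map_neg, ← hω.skew, hu1]
    have h2 : ω w b = 0 := by rw [hb, map_neg, ← hω.skew, hu2]
    have h2' : ω b w = 0 := by rw [hω.skew, h2, neg_zero]
    have h4 : ω b w' = -1 := by rw [hω.skew, h1]
    have hb0 : b ≠ 0 := by
      intro h0
      rw [h0, map_zero] at h1
      exact zero_ne_one h1
    obtain ⟨y, hy, hy0⟩ := exists_perp_avoid hω ![w, b] 0 (by omega)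
    have y0 := hy 0
    have y1 := hy 1
    simp only [Matrix.cons_val_zero, Matrix.cons_val_one, Matrix.cons_val_fin_one] at y0 y1
    rw [hω.skew, neg_eq_zero] at y0 y1
    have e1 : (rk ω w w' - rk ω w' w) * rk ω b b = rk ω w b := by
      simp only [sub_mul, rk_mul_rk, h1, h2, one_smul, zero_smul, sub_zero]
    have e2 : rk ω b b * (rk ω w w' - rk ω w' w) = rk ω b w := by
      simp only [mul_sub, rk_mul_rk, h2', h4, zero_smul, zero_sub]
      rw [neg_one_smul_end]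
      exact neg_neg _
    refine ⟨b, hb0, ⟨w', ?_, ?_⟩, y, by simpa using hy0 0, ?_, ?_⟩
    · rw [e1, rk_apply, h4, neg_one_smul]
      exact neg_ne_zero.2 hw
    · rw [e2, rk_apply, hww', zero_smul]
    · rw [e1, rk_mul_rk, y0, zero_smul]
    · rw [e2, rk_mul_rk, y1, zero_smul]

/-- Image of a `c` or `n`. -/
theorem slot_im {x : Module.End F (Fin k → F)} (hx : IsC ω x ∨ IsN ω x) :
    ∃ y : Fin k → F, y ≠ 0 ∧ rk ω y y * x = 0 := by
  rcases hx with ⟨w, hw, rfl⟩ | ⟨w, w', hww', hw, hw', rfl⟩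
  · exact ⟨w, hw, by rw [rk_mul_rk, hω.alt, zero_smul]⟩
  · exact ⟨w, hw, by rw [mul_sub, rk_mul_rk, rk_mul_rk, hω.alt, hww', zero_smul, zero_smul, sub_zero]⟩

theorem slot_ne {x : Module.End F (Fin k → F)} (hx : IsC ω x ∨ IsN ω x) : x ≠ 0 ∧ x * x = 0 := by
  rcases hx with ⟨w, hw, rfl⟩ | ⟨w, w', hww', hw, hw', rfl⟩
  · obtain ⟨v, hv⟩ := hω.exists_pair hw
    refine ⟨fun h0 => ?_, by rw [rk_mul_rk, hω.alt, zero_smul]⟩
    have := LinearMap.congr_fun h0 v
    rw [rk_apply, hv, one_smul, LinearMap.zero_apply] at this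
    exact hw this
  · obtain ⟨v, hv⟩ := hω.exists_pair hw
    have h3 : ω w' w = 0 := by rw [hω.skew, hww', neg_zero]
    refine ⟨fun h0 => ?_, ?_⟩
    · have := LinearMap.congr_fun h0 v
      rw [LinearMap.sub_apply, rk_apply, rk_apply, hv, one_smul, LinearMap.zero_apply, sub_eq_zero] at this
      exact hw' _ this.symm
    · simp only [mul_sub, sub_mul, rk_mul_rk, hww', h3, hω.alt, zero_smul, sub_zero]

/-- Conjugates with rank one products, `k ≥ 6`. -/
theorem slot_jordan (hk : 6 ≤ k) {x : Module.End F (Fin k → F)} (hx : IsC ω x ∨ IsN ω x) :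
    ∃ (α : (Module.End F (Fin k → F))ˣ) (p r : Fin k → F), IsoW ω α ∧ p ≠ 0 ∧ (∀ c : F, r ≠ c • p) ∧
      x * (α.1 * x * (α⁻¹).1) = rk ω p r ∧ (α.1 * x * (α⁻¹).1) * x = -rk ω r p := by
  rcases hx with ⟨w, hw, rfl⟩ | ⟨w, w', hww', hw, hw', rfl⟩
  · obtain ⟨w₂, hw₂⟩ := hω.exists_pair hw
    have hw₂0 : w₂ ≠ 0 := by
      rintro rfl
      simp at hw₂
    have hw₂' : ω w₂ w = -1 := by rw [hω.skew, hw₂]
    obtain ⟨α, hα, hαw⟩ := exists_iso_of_ne hω hw hw₂0
    refine ⟨α, w, w₂, hα, hw, ?_, ?_, ?_⟩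
    · intro c hc
      rw [hc, map_smul, hω.alt, smul_zero] at hw₂
      exact zero_ne_one hw₂
    · rw [rk_conj hα, hαw, rk_mul_rk, hw₂, one_smul]
    · rw [rk_conj hα, hαw, rk_mul_rk, hw₂']
      exact neg_one_smul_end _
  · obtain ⟨u', hu1, hu2⟩ := hω.exists_sep hw' trivial
    set u := -u' with hu
    have h1 : ω w' u = 1 := by rw [hu, map_neg, ← hω.skew, hu1]
    have h2 : ω w u = 0 := by rw [hu, map_neg, ← hω.skew, hu2]
    have h2' : ω u w = 0 := by rw [hω.skew, h2, neg_zero]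
    have h3 : ω w' w = 0 := by rw [hω.skew, hww', neg_zero]
    have h4 : ω u w' = -1 := by rw [hω.skew, h1]
    have hu0 : u ≠ 0 := by
      intro h0
      rw [h0, map_zero] at h1
      exact zero_ne_one h1
    obtain ⟨w₂, hw₂, hw₂'⟩ := exists_perp_avoid hω ![w, w', u] w (by omega)
    have a0 := hw₂ 0
    have a1 := hw₂ 1
    have a2 := hw₂ 2
    simp only [Matrix.cons_val_zero, Matrix.cons_val_one, Matrix.cons_val_fin_one, Matrix.cons_val] at a0 a1 a2
    have b0 : ω w₂ w = 0 := by rw [hω.skew, a0, neg_zero]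
    have b1 : ω w₂ w' = 0 := by rw [hω.skew, a1, neg_zero]
    have b2 : ω w₂ u = 0 := by rw [hω.skew, a2, neg_zero]
    have hw₂0 : w₂ ≠ 0 := by
      intro h0
      exact hw₂' 0 (by rw [h0, zero_smul])
    obtain ⟨α, hα, hαw, hαw'⟩ := exists_iso_pair hω hww' hw hw' a2 hu0 (by
      intro c hc
      have h5 := a1
      rw [hc, map_smul, h1, smul_eq_mul, mul_one] at h5
      exact hw₂0 (by rw [hc, h5, zero_smul]))
    have e : α.1 * (rk ω w w' - rk ω w' w) * (α⁻¹).1 = rk ω u w₂ - rk ω w₂ u := by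
      rw [mul_sub, sub_mul, rk_conj hα, rk_conj hα, hαw, hαw']
    refine ⟨α, w, w₂, hα, hw, hw₂', ?_, ?_⟩
    · rw [e]
      simp only [mul_sub, sub_mul, rk_mul_rk, h1, h2, a0, a1, one_smul, zero_smul, sub_zero]
    · rw [e]
      simp only [mul_sub, sub_mul, rk_mul_rk, b0, b1, h2', h4, zero_smul, sub_zero, zero_sub]
      rw [neg_one_smul_end]
      exact neg_neg _

end Pairs

end Cfsg.Agent.H889.C7
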