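import Mathlib
import Cfsg.Agent.H889.C7.Enlarge

/-!
Case II in characteristic two, `k ≥ 6`: `M` contains a long root element of the orthogonal group.
-/

set_option autoImplicit false
set_option linter.unusedSectionVars false
set_option linter.unusedVariables false
set_option linter.unusedSimpArgs false

namespace Cfsg.Agent.H889.C7

open Module Cfsg.Agent.H889

variable {F : Type*} [Field F] {k : ℕ} {ω : LinearMap.BilinForm F (Fin k → F)}

/-- Groups containing the slot groups and the even slot permutations. -/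
structure SlotsM (ω : LinearMap.BilinForm F (Fin k → F)) {n : ℕ}
    (M : Subgroup (Module.End F (T F k (n + 1)))ˣ) : Prop where
  sp : ∀ (i : Fin (n + 1)) (α : (Module.End F (Fin k → F))ˣ), IsoW ω α → sU i α ∈ M
  al : ∀ π : Equiv.Perm (Fin (n + 1)), Equiv.Perm.sign π = 1 → pU π ∈ M

theorem unit_inv_val {R : Type*} [Ring R] {g : Rˣ} {N : R} (hg : g.1 = 1 + N) (h : N * N = 0) :
    (g⁻¹).1 = 1 - N := by
  have h1 : g = oneAdd N h := Units.ext hg
  rw [h1]; rfl

theorem unit_comm_val {R : Type*} [Ring R] {g h : Rˣ} {N N' : R} (hg : g.1 = 1 + N) (hh : h.1 = 1 + N')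
    (h1 : N * N = 0) (h2 : N' * N' = 0) (h3 : N * N' * N = 0) (h4 : N' * N * N' = 0) :
    (g * h * g⁻¹ * h⁻¹).1 = 1 + (N * N' - N' * N) := by
  rw [Units.val_mul, Units.val_mul, Units.val_mul, hg, hh, unit_inv_val hg h1, unit_inv_val hh h2]
  have e : (1 + N) * (1 + N') * (1 - N) * (1 - N') = 1 + (N * N' - N' * N) - N * N - N' * N'
      + N * N * N' + N' * N * N' - N * (N' * N') - N * N' * N + N * N' * N * N' := by
    noncomm_ring
  rw [e, h1, h2, h3, h4]
  simp only [zero_mul, mul_zero, sub_zero, add_zero]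

theorem ring_three {R : Type*} [Ring R] (A B C : R) (h1 : A * B = 0) (h2 : A * C = 0) (h3 : B * C = 0) :
    (1 + A) * (1 - B) * (1 - C) = 1 + A - B - C := by
  have : (1 + A) * (1 - B) * (1 - C) = 1 + A - B - C + B * C - A * B - A * C + A * B * C := by noncomm_ring
  rw [this, h1, h2, h3, zero_mul, add_zero, add_zero, sub_zero, sub_zero]

theorem map_zero_right' (hω : Symp ω) {n : ℕ} (i : Fin (n + 1)) (x : Module.End F (Fin k → F)) :
    (DT hω i).map hω x 0 = 0 := by
  have := (DT hω i).map_smul_right hω 0 x 0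
  rwa [zero_smul, zero_smul] at this

theorem map_zero_left' (hω : Symp ω) {n : ℕ} (i : Fin (n + 1)) (s : Module.End F (T F k n)) :
    (DT hω i).map hω 0 s = 0 := by
  have := (DT hω i).map_smul_left hω 0 0 s
  rwa [zero_smul, zero_smul] at this

theorem rk_smul_smul (d : F) (a : Fin k → F) : rk ω (d • a) (d • a) = (d * d) • rk ω a a := by
  refine LinearMap.ext fun v => ?_
  rw [LinearMap.smul_apply, rk_apply, rk_apply, map_smul, LinearMap.smul_apply, smul_eq_mul, smul_smul, smul_smul]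
  congr 1
  ring

theorem rk_zero : rk ω 0 0 = 0 := by
  refine LinearMap.ext fun v => ?_
  rw [rk_apply, smul_zero, LinearMap.zero_apply]

theorem rk_sq (hω : Symp ω) (a : Fin k → F) : rk ω a a * rk ω a a = 0 := by
  rw [rk_mul_rk, hω.alt, zero_smul]

section J

variable (hω : Symp ω) {n : ℕ} {M : Subgroup (Module.End F (T F k (n + 1)))ˣ}

/-- The operators `s` with `1 + c_a ⊗ s ∈ M` for all `a`. -/
def J (hω : Symp ω) {n : ℕ} (M : Subgroup (Module.End F (T F k (n + 1)))ˣ) (hsq : ∀ c : F, ∃ d, c = d * d)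
    (i : Fin (n + 1)) : Submodule F (Module.End F (T F k n)) where
  carrier := {s | ∀ a, ∃ g ∈ M, g.1 = 1 + (DT hω i).map hω (rk ω a a) s}
  zero_mem' := fun a => ⟨1, M.one_mem, by rw [map_zero_right', add_zero]; rfl⟩
  add_mem' := by
    intro s s' hs hs' a
    obtain ⟨g, hg, e⟩ := hs a
    obtain ⟨g', hg', e'⟩ := hs' a
    refine ⟨g * g', M.mul_mem hg hg', ?_⟩
    rw [Units.val_mul, e, e', TD.map_add_right]
    have : (DT hω i).map hω (rk ω a a) s * (DT hω i).map hω (rk ω a a) s' = 0 := by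
      rw [TD.map_mul, rk_sq hω, map_zero_left']
    rw [add_mul, mul_add, mul_add, this, add_zero, one_mul, one_mul, mul_one]
    abel
  smul_mem' := by
    intro c s hs a
    obtain ⟨d, hd⟩ := hsq c
    obtain ⟨g, hg, e⟩ := hs (d • a)
    refine ⟨g, hg, ?_⟩
    rw [e, rk_smul_smul, TD.map_smul_left, TD.map_smul_right, hd]

variable {hsq : ∀ c : F, ∃ d, c = d * d}

theorem mem_J {i : Fin (n + 1)} {s : Module.End F (T F k n)} :
    s ∈ J hω M hsq i ↔ ∀ a, ∃ g ∈ M, g.1 = 1 + (DT hω i).map hω (rk ω a a) s := Iff.rfl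

theorem mem_J_of (hM : SlotsM ω M) {i : Fin (n + 1)} {s : Module.End F (T F k n)} {a : Fin k → F} (ha : a ≠ 0)
    {g : (Module.End F (T F k (n + 1)))ˣ} (hg : g ∈ M) (h : g.1 = 1 + (DT hω i).map hω (rk ω a a) s) :
    s ∈ J hω M hsq i := by
  intro a'
  by_cases ha' : a' = 0
  · exact ⟨1, M.one_mem, by rw [ha', rk_zero, map_zero_left', add_zero]; rfl⟩
  obtain ⟨α, hα, hαa⟩ := exists_iso_of_ne hω ha ha'
  refine ⟨sU i α * g * (sU i α)⁻¹, M.mul_mem (M.mul_mem (hM.sp i α hα) hg) (M.inv_mem (hM.sp i α hα)), ?_⟩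
  have e1 : (sU i α : (Module.End F (T F k (n + 1)))ˣ).1 = (DT hω i).map hω α.1 1 := (map_sE hω i _).symm
  have e2 : ((sU i α : (Module.End F (T F k (n + 1)))ˣ)⁻¹).1 = (DT hω i).map hω (α⁻¹).1 1 := (map_sE hω i _).symm
  rw [Units.val_mul, Units.val_mul, h, mul_add, add_mul, mul_one, ← Units.val_mul, mul_inv_cancel, Units.val_one,
    e1, e2, TD.map_mul, TD.map_mul, one_mul, mul_one, rk_conj hα, hαa]

theorem J_inv (hM : SlotsM ω M) (i : Fin (n + 1)) : SlotInv ω (J hω M hsq i) := by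
  intro j α hα s hs a
  obtain ⟨g, hg, e⟩ := hs a
  have hU := hM.sp (i.succAbove j) α hα
  refine ⟨sU (i.succAbove j) α * g * (sU (i.succAbove j) α)⁻¹, M.mul_mem (M.mul_mem hU hg) (M.inv_mem hU), ?_⟩
  rw [Units.val_mul, Units.val_mul, e, mul_add, add_mul, mul_one, ← Units.val_mul, mul_inv_cancel, Units.val_one]
  congr 1
  exact map_slot_conj hω i j α _ _

/-- Closure under the Jordan product. -/
theorem J_jordan (hM : SlotsM ω M) (hk : 4 ≤ k) (i : Fin (n + 1)) {s s' : Module.End F (T F k n)}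
    (hs : s ∈ J hω M hsq i) (hs' : s' ∈ J hω M hsq i) : s * s' + s' * s ∈ J hω M hsq i := by
  obtain ⟨w, hw⟩ := exists_ne_vec (F := F) (k := k) (by omega)
  obtain ⟨w', hww'⟩ := hω.exists_pair hw
  obtain ⟨x, x', hxx', hwx, hwx', _, _⟩ := exists_two_pairs hω hk hww'
  have hxw : ω x w = 0 := by rw [hω.skew, hwx, neg_zero]
  have hx'w : ω x' w = 0 := by rw [hω.skew, hwx', neg_zero]
  have hx'x : ω x' x = -1 := by rw [hω.skew, hxx']
  -- sums of two isotropic directions
  have key : ∀ (s : Module.End F (T F k n)), s ∈ J hω M hsq i → ∀ u v : Fin k → F, ω u v = 0 →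
      ∃ g ∈ M, g.1 = 1 + (DT hω i).map hω (rk ω u v + rk ω v u) s := by
    intro s hs u v huv
    have hvu : ω v u = 0 := by rw [hω.skew, huv, neg_zero]
    obtain ⟨g₁, hg₁, e₁⟩ := hs (u + v)
    obtain ⟨g₂, hg₂, e₂⟩ := hs u
    obtain ⟨g₃, hg₃, e₃⟩ := hs v
    refine ⟨g₁ * g₂⁻¹ * g₃⁻¹, M.mul_mem (M.mul_mem hg₁ (M.inv_mem hg₂)) (M.inv_mem hg₃), ?_⟩
    have z : ∀ a b : Fin k → F, ω a b = 0 → (DT hω i).map hω (rk ω a a) s * (DT hω i).map hω (rk ω b b) s = 0 := by
      intro a b hab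
      rw [TD.map_mul, rk_mul_rk, hab, zero_smul, map_zero_left']
    have e : rk ω (u + v) (u + v) = rk ω u u + rk ω v v + (rk ω u v + rk ω v u) := by
      refine LinearMap.ext fun y => ?_
      simp only [LinearMap.add_apply, rk_apply, map_add, add_smul, smul_add]
      abel
    rw [Units.val_mul, Units.val_mul, unit_inv_val e₂ (z u u (hω.alt u)), unit_inv_val e₃ (z v v (hω.alt v)), e₁]
    have z1 := z (u + v) u (by rw [map_add, LinearMap.add_apply, hω.alt, hvu, add_zero])
    have z2 := z (u + v) v (by rw [map_add, LinearMap.add_apply, hω.alt, huv, add_zero])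
    have z3 := z u v huv
    have e' : (DT hω i).map hω (rk ω (u + v) (u + v)) s = (DT hω i).map hω (rk ω u u) s +
        (DT hω i).map hω (rk ω v v) s + (DT hω i).map hω (rk ω u v + rk ω v u) s := by
      rw [e, TD.map_add_left, TD.map_add_left]
    generalize (DT hω i).map hω (rk ω (u + v) (u + v)) s = A at *
    generalize (DT hω i).map hω (rk ω u u) s = B at *
    generalize (DT hω i).map hω (rk ω v v) s = C at *
    generalize (DT hω i).map hω (rk ω u v + rk ω v u) s = D at *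
    rw [ring_three A B C z1 z2 z3, e']
    abel
  obtain ⟨g, hg, e⟩ := key s hs w x hwx
  obtain ⟨g', hg', e'⟩ := key s' hs' x' w hx'w
  refine mem_J_of hω hM hw (M.mul_mem (M.mul_mem (M.mul_mem hg hg') (M.inv_mem hg)) (M.inv_mem hg')) ?_
  have m1 : (rk ω w x + rk ω x w) * (rk ω w x + rk ω x w) = 0 := by
    simp only [mul_add, add_mul, rk_mul_rk, hwx, hxw, hω.alt, zero_smul, add_zero]
  have m2 : (rk ω x' w + rk ω w x') * (rk ω x' w + rk ω w x') = 0 := by
    simp only [mul_add, add_mul, rk_mul_rk, hwx', hx'w, hω.alt, zero_smul, add_zero]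
  have m3 : (rk ω w x + rk ω x w) * (rk ω x' w + rk ω w x') = rk ω w w := by
    simp only [mul_add, add_mul, rk_mul_rk, hxx', hxw, hwx', hω.alt, zero_smul, add_zero, one_smul]
  have m4 : (rk ω x' w + rk ω w x') * (rk ω w x + rk ω x w) = (-1 : F) • rk ω w w := by
    simp only [mul_add, add_mul, rk_mul_rk, hx'x, hx'w, hwx, hω.alt, zero_smul, add_zero, zero_add]
  have m5 : rk ω w w * (rk ω w x + rk ω x w) = 0 := by
    simp only [mul_add, rk_mul_rk, hwx, hω.alt, zero_smul, add_zero]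
  have m6 : rk ω w w * (rk ω x' w + rk ω w x') = 0 := by
    simp only [mul_add, rk_mul_rk, hwx', hω.alt, zero_smul, add_zero]
  rw [unit_comm_val e e' (by rw [TD.map_mul, m1, map_zero_left']) (by rw [TD.map_mul, m2, map_zero_left'])
    (by rw [TD.map_mul, TD.map_mul, m3, m5, map_zero_left'])
    (by rw [TD.map_mul, TD.map_mul, m4, smul_mul_assoc, m6, smul_zero, map_zero_left']),
    TD.map_mul, TD.map_mul, m3, m4, TD.map_smul_left, neg_one_smul_end, TD.map_add_right]
  congr 1
  exact sub_neg_eq_add _ _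

end J

end Cfsg.Agent.H889.C7
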