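import Mathlib
import Cfsg.Agent.H889.C7.CaseII

/-!
Case II in characteristic two: full support and the long root element.
-/

set_option autoImplicit false
set_option linter.unusedSectionVars false
set_option linter.unusedVariables false
set_option linter.unusedSimpArgs false

namespace Cfsg.Agent.H889.C7

open Module Cfsg.Agent.H889

variable {F : Type*} [Field F] {k : ℕ} {ω : LinearMap.BilinForm F (Fin k → F)}

/-- Conjugate in all slots. -/
theorem conj_all {n : ℕ} (R : Set (Module.End F (T F k n)))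
    (hR : ∀ (j : Fin n) (α : (Module.End F (Fin k → F))ˣ), IsoW ω α → ∀ s ∈ R,
      sE j α.1 * s * sE j (α⁻¹).1 ∈ R) (x : Fin n → Module.End F (Fin k → F)) (hx : pm' x ∈ R)
    (α : Fin n → (Module.End F (Fin k → F))ˣ) (hα : ∀ m, IsoW ω (α m)) :
    pm' (fun m => (α m).1 * x m * ((α m)⁻¹).1) ∈ R := by
  classical
  have key : ∀ S : Finset (Fin n), pm' (fun m => if m ∈ S then (α m).1 * x m * ((α m)⁻¹).1 else x m) ∈ R := by
    intro S
    induction S using Finset.induction_on with
    | empty => simpa using hx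
    | insert m S hm ih =>
      have h := hR m (α m) (hα m) _ ih
      rw [pm'_conj, if_neg hm] at h
      convert h using 2
      funext m'
      by_cases h' : m' = m
      · subst h'
        rw [Function.update_self, if_pos (Finset.mem_insert_self _ _)]
      · rw [Function.update_of_ne h']
        simp only [Finset.mem_insert, h', false_or]
  simpa using key Finset.univ

theorem pm'_eq_zero {n : ℕ} {x : Fin n → Module.End F (Fin k → F)} {j : Fin n} (h : x j = 0) : pm' x = 0 := by
  refine tp_ext fun xs => ?_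
  rw [pm'_tp, LinearMap.zero_apply]
  exact tp_eq_zero (i := j) (by rw [h, LinearMap.zero_apply])

theorem pm'_add {n : ℕ} (x : Fin n → Module.End F (Fin k → F)) (j : Fin n)
    (y z : Module.End F (Fin k → F)) :
    pm' (Function.update x j (y + z)) = pm' (Function.update x j y) + pm' (Function.update x j z) := by
  refine tp_ext fun xs => ?_
  rw [LinearMap.add_apply, pm'_update_tp, pm'_update_tp, pm'_update_tp, LinearMap.add_apply, tp_update_add]

section Enl

variable (hω : Symp ω) {n : ℕ} {M : Subgroup (Module.End F (T F k (n + 1)))ˣ} {hsq : ∀ c : F, ∃ d, c = d * d}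
include hω

theorem enlarge (hM : SlotsM ω M) (hk : 4 ≤ k) (i : Fin (n + 1)) {x : Fin n → Module.End F (Fin k → F)}
    (hx : ∀ m, IsC ω (x m) ∨ IsN ω (x m) ∨ x m = 1) (hxJ : pm' x ∈ J hω M hsq i) {j l : Fin n}
    (hj : x j ≠ 1) (hl : x l = 1) :
    ∃ x' : Fin n → Module.End F (Fin k → F), (∀ m, IsC ω (x' m) ∨ IsN ω (x' m) ∨ x' m = 1) ∧
      pm' x' ∈ J hω M hsq i ∧ x' l ≠ 1 ∧ ∀ m, x m ≠ 1 → x' m ≠ 1 := by
  have hjl : j ≠ l := by
    rintro rfl
    exact hj hl
  have hxj : IsC ω (x j) ∨ IsN ω (x j) := by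
    rcases hx j with h | h | h
    · exact Or.inl h
    · exact Or.inr h
    · exact absurd h hj
  -- the special slot
  obtain ⟨b, hb, ⟨v, hv1, hv2⟩, yj, hyj, hyj1, hyj2⟩ := slot_j hω hk hxj
  -- the three-cycle
  set j' := i.succAbove j with hj'
  set l' := i.succAbove l with hl'
  have hij : i ≠ j' := (Fin.succAbove_ne i j).symm
  have hil : i ≠ l' := (Fin.succAbove_ne i l).symm
  have hjl' : j' ≠ l' := fun h => hjl (Fin.succAbove_right_injective h)
  set ρ : Equiv.Perm (Fin (n + 1)) := Equiv.swap i j' * Equiv.swap j' l' with hρ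
  have hsign : Equiv.Perm.sign ρ = 1 := by
    rw [hρ, Equiv.Perm.sign_mul, Equiv.Perm.sign_swap hij, Equiv.Perm.sign_swap hjl']
    decide
  have hρs : ρ.symm = Equiv.swap j' l' * Equiv.swap i j' := by
    have : ρ⁻¹ = Equiv.swap j' l' * Equiv.swap i j' := by
      rw [hρ, mul_inv_rev, Equiv.swap_inv, Equiv.swap_inv]
    exact this
  -- the conjugate of `g_b`
  set x₀ : Fin n → Module.End F (Fin k → F) := Function.update (Function.update x j (rk ω b b)) l (x j) with hx₀
  obtain ⟨g₀, hg₀, e₀⟩ := hxJ b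
  have hR0 : ∃ h ∈ M, h.1 = 1 + (DT hω i).map hω 1 (pm' x₀) := by
    refine ⟨pU ρ * g₀ * (pU ρ)⁻¹, M.mul_mem (M.mul_mem (hM.al ρ hsign) hg₀) (M.inv_mem (hM.al ρ hsign)), ?_⟩
    have e1 : (pU ρ * g₀ * (pU ρ)⁻¹).1 = cj (pU ρ) g₀.1 := rfl
    have e2 : cj (pU ρ) (1 : Module.End F (T F k (n + 1))) = 1 := by
      rw [cj_eq_iff, mul_one, one_mul]
    rw [e1, e₀, map_add, e2, map_pm' hω, map_pm' hω, pm'_perm]
    congr 2
    funext m
    rw [hρs, Equiv.Perm.mul_apply]
    rcases Fin.eq_self_or_eq_succAbove i m with rfl | ⟨m', rfl⟩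
    · rw [Equiv.swap_apply_left, Equiv.swap_apply_left, Fin.insertNth_apply_same, hl', Fin.insertNth_apply_succAbove, hl]
    · rw [Fin.insertNth_apply_succAbove]
      by_cases h1 : m' = j
      · subst h1
        rw [Equiv.swap_apply_right, Equiv.swap_apply_of_ne_of_ne hij hil, Fin.insertNth_apply_same, hx₀,
          Function.update_of_ne hjl, Function.update_self]
      · by_cases h2 : m' = l
        · subst h2
          rw [Equiv.swap_apply_of_ne_of_ne (Ne.symm hil) (Ne.symm hjl'), Equiv.swap_apply_right, hj',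
            Fin.insertNth_apply_succAbove, hx₀, Function.update_self]
        · have h3 : i.succAbove m' ≠ j' := fun h => h1 (Fin.succAbove_right_injective h)
          have h4 : i.succAbove m' ≠ l' := fun h => h2 (Fin.succAbove_right_injective h)
          rw [Equiv.swap_apply_of_ne_of_ne (Fin.succAbove_ne i m') h3, Equiv.swap_apply_of_ne_of_ne h3 h4,
            Fin.insertNth_apply_succAbove, hx₀, Function.update_of_ne h2, Function.update_of_ne h1]
  -- conjugate the other slots
  have hpair := fun m => slot_pair hω hk (hx m)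
  choose α hα hα1 hα2 using hpair
  set β : Fin n → (Module.End F (Fin k → F))ˣ := Function.update (Function.update α j 1) l 1 with hβ
  have hβiso : ∀ m, IsoW ω (β m) := by
    intro m
    rw [hβ]
    by_cases h2 : m = l
    · rw [h2, Function.update_self]; exact IsoW.one
    · rw [Function.update_of_ne h2]
      by_cases h1 : m = j
      · rw [h1, Function.update_self]; exact IsoW.one
      · rw [Function.update_of_ne h1]; exact hα m
  set y : Fin n → Module.End F (Fin k → F) := fun m => (β m).1 * x₀ m * ((β m)⁻¹).1 with hy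
  have hyR : ∃ h ∈ M, h.1 = 1 + (DT hω i).map hω 1 (pm' y) := by
    refine conj_all (ω := ω) {r | ∃ h ∈ M, h.1 = 1 + (DT hω i).map hω 1 r} ?_ x₀ hR0 β hβiso
    rintro m γ hγ s ⟨h, hh, e⟩
    have hU := hM.sp (i.succAbove m) γ hγ
    refine ⟨sU (i.succAbove m) γ * h * (sU (i.succAbove m) γ)⁻¹, M.mul_mem (M.mul_mem hU hh) (M.inv_mem hU), ?_⟩
    rw [Units.val_mul, Units.val_mul, e, mul_add, add_mul, mul_one, ← Units.val_mul, mul_inv_cancel, Units.val_one]
    congr 1
    exact map_slot_conj hω i m γ _ _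
  have hyj' : y j = rk ω b b := by
    rw [hy]
    simp only [hβ, hx₀, Function.update_of_ne hjl, Function.update_self, Units.val_one, inv_one, one_mul, mul_one]
  have hyl : y l = x j := by
    rw [hy]
    simp only [hβ, hx₀, Function.update_self, Units.val_one, inv_one, one_mul, mul_one]
  have hym : ∀ m, m ≠ j → m ≠ l → y m = (α m).1 * x m * ((α m)⁻¹).1 := by
    intro m h1 h2
    rw [hy]
    simp only [hβ, hx₀, Function.update_of_ne h2, Function.update_of_ne h1]
  obtain ⟨h, hh, eh⟩ := hyR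
  -- the commutator
  set s := pm' (fun m => x m * y m) - pm' (fun m => y m * x m) with hs
  have hxj2 := (slot_ne hω hxj)
  have hsJ : s ∈ J hω M hsq i := by
    intro a
    obtain ⟨g, hg, e⟩ := hxJ a
    refine ⟨g * h * g⁻¹ * h⁻¹, M.mul_mem (M.mul_mem (M.mul_mem hg hh) (M.inv_mem hg)) (M.inv_mem hh), ?_⟩
    have m1 : pm' y * pm' y = 0 := by
      rw [pm'_mul]
      exact pm'_eq_zero (j := j) (by rw [hyj', rk_sq hω])
    have m2 : pm' y * pm' x * pm' y = 0 := by
      rw [pm'_mul, pm'_mul]
      exact pm'_eq_zero (j := l) (by rw [hyl, hl, mul_one, hxj2.2])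
    rw [unit_comm_val e eh (by rw [TD.map_mul, rk_sq hω, map_zero_left'])
      (by rw [TD.map_mul, m1, map_zero_right'])
      (by rw [TD.map_mul, TD.map_mul, mul_one, rk_sq hω, map_zero_left'])
      (by rw [TD.map_mul, TD.map_mul, m2, map_zero_right']),
      TD.map_mul, TD.map_mul, mul_one, one_mul, pm'_mul, pm'_mul]
    congr 1
    have : s = pm' (fun m => x m * y m) + (-1 : F) • pm' (fun m => y m * x m) := by
      rw [neg_one_smul_end, hs, sub_eq_add_neg]
    rw [this, TD.map_add_right, TD.map_smul_right, neg_one_smul_end, sub_eq_add_neg]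
  -- it is non-zero
  have hs0 : s ≠ 0 := by
    intro h0
    have hz : ∀ m, m ≠ j → ∃ z, (x m * y m) z ≠ 0 := by
      intro m hm
      by_contra hcon
      push Not at hcon
      have hcon' : x m * y m = 0 := LinearMap.ext hcon
      by_cases h2 : m = l
      · rw [h2, hl, one_mul, hyl] at hcon'
        exact hxj2.1 hcon'
      · rw [hym m hm h2] at hcon'
        exact hα1 m hcon'
    have hz' : ∀ m, ∃ z, (x m * y m) z ≠ 0 ∧ (m = j → (y m * x m) z = 0) := by
      intro m
      by_cases hm : m = j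
      · subst hm
        rw [hyj']
        exact ⟨v, hv1, fun _ => hv2⟩
      · obtain ⟨z, hz⟩ := hz m hm
        exact ⟨z, hz, fun h => absurd h hm⟩
    choose z hz1 hz2 using hz'
    have h1 := LinearMap.congr_fun h0 (tp z)
    rw [hs, LinearMap.sub_apply, pm'_tp, pm'_tp, LinearMap.zero_apply,
      tp_eq_zero (xs := fun m => (y m * x m) (z m)) (i := j) (hz2 j rfl), sub_zero] at h1
    exact tp_ne_zero hz1 h1
  -- the images
  have hI : ∀ m, (x m ≠ 1 ∨ m = l) → ImP ω m s := by
    intro m hm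
    obtain ⟨u, hu, h1, h2⟩ : ∃ u : Fin k → F, u ≠ 0 ∧ rk ω u u * (x m * y m) = 0 ∧ rk ω u u * (y m * x m) = 0 := by
      by_cases h1 : m = j
      · subst h1
        rw [hyj']
        exact ⟨yj, hyj, hyj1, hyj2⟩
      · by_cases h2 : m = l
        · subst h2
          rw [hyl, hl, one_mul, mul_one]
          obtain ⟨u, hu, h⟩ := slot_im hω hxj
          exact ⟨u, hu, h, h⟩
        · rw [hym m h1 h2]
          exact hα2 m (hm.resolve_right h2)
    refine ⟨u, hu, ?_⟩
    rw [hs, mul_sub, sE_mul_pm', sE_mul_pm', pm'_eq_zero (j := m) (by rw [Function.update_self, h1]),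
      pm'_eq_zero (j := m) (by rw [Function.update_self, h2]), sub_zero]
  obtain ⟨x', h1, h2, h3⟩ := extract hω hk n (J hω M hsq i) (J_inv hω hM i) s hsJ hs0
  exact ⟨x', h1, h3, h2 l (hI l (Or.inr rfl)), fun m hm => h2 m (hI m (Or.inl hm))⟩

/-- Full support. -/
theorem full_supp (hM : SlotsM ω M) (hk : 4 ≤ k) (i : Fin (n + 1)) {x : Fin n → Module.End F (Fin k → F)}
    (hx : ∀ m, IsC ω (x m) ∨ IsN ω (x m) ∨ x m = 1) (hxJ : pm' x ∈ J hω M hsq i) {j : Fin n}
    (hj : x j ≠ 1) :
    ∃ x' : Fin n → Module.End F (Fin k → F), (∀ m, IsC ω (x' m) ∨ IsN ω (x' m)) ∧ pm' x' ∈ J hω M hsq i := by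
  classical
  have key : ∀ d : ℕ, ∃ x' : Fin n → Module.End F (Fin k → F), (∀ m, IsC ω (x' m) ∨ IsN ω (x' m) ∨ x' m = 1) ∧
      pm' x' ∈ J hω M hsq i ∧ x' j ≠ 1 ∧ ((∀ m, x' m ≠ 1) ∨ d ≤ (Finset.univ.filter fun m => x' m ≠ 1).card) := by
    intro d
    induction d with
    | zero => exact ⟨x, hx, hxJ, hj, Or.inr (Nat.zero_le _)⟩
    | succ d ih =>
      obtain ⟨x', h1, h2, h3, h4⟩ := ih
      rcases h4 with h4 | h4
      · exact ⟨x', h1, h2, h3, Or.inl h4⟩
      by_cases h5 : ∀ m, x' m ≠ 1
      · exact ⟨x', h1, h2, h3, Or.inl h5⟩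
      push Not at h5
      obtain ⟨l, hl⟩ := h5
      obtain ⟨x'', g1, g2, g3, g4⟩ := enlarge hω hM hk i h1 h2 h3 hl
      refine ⟨x'', g1, g2, g4 j h3, Or.inr ?_⟩
      refine lt_of_le_of_lt h4 (Finset.card_lt_card ?_)
      rw [Finset.ssubset_iff_of_subset]
      · exact ⟨l, by simpa using g3, by simpa using hl⟩
      · intro m hm
        rw [Finset.mem_filter] at hm ⊢
        exact ⟨hm.1, g4 m hm.2⟩
  obtain ⟨x', h1, h2, h3, h4⟩ := key n
  refine ⟨x', fun m => ?_, h2⟩
  have h5 : x' m ≠ 1 := by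
    rcases h4 with h4 | h4
    · exact h4 m
    · have h6 : (Finset.univ.filter fun m => x' m ≠ 1) = Finset.univ := by
        apply Finset.eq_univ_of_card
        rw [Fintype.card_fin]
        refine le_antisymm ?_ h4
        calc _ ≤ (Finset.univ : Finset (Fin n)).card := Finset.card_le_card (Finset.filter_subset _ _)
          _ = n := by rw [Finset.card_univ, Fintype.card_fin]
      have h7 : m ∈ (Finset.univ.filter fun m => x' m ≠ 1) := by rw [h6]; exact Finset.mem_univ m
      exact (Finset.mem_filter.1 h7).2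
  rcases h1 m with h | h | h
  · exact Or.inl h
  · exact Or.inr h
  · exact absurd h h5

/-- The sum of two rank one operators. -/
noncomputable def S2 (ω : LinearMap.BilinForm F (Fin k → F)) {n : ℕ} (p r : Fin n → (Fin k → F)) :
    Module.End F (T F k n) :=
  pm' (fun m => rk ω (p m) (r m)) + pm' (fun m => rk ω (r m) (p m))

/-- `S(p, r) ∈ J` for some `p`, `r` independent in each slot. -/
theorem exists_S2 (h2 : (2 : F) = 0) (hM : SlotsM ω M) (hk : 6 ≤ k) (i : Fin (n + 1))
    {x : Fin n → Module.End F (Fin k → F)} (hx : ∀ m, IsC ω (x m) ∨ IsN ω (x m)) (hxJ : pm' x ∈ J hω M hsq i) :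
    ∃ p r : Fin n → (Fin k → F), (∀ m, p m ≠ 0) ∧ (∀ m, ∀ c : F, r m ≠ c • p m) ∧ S2 ω p r ∈ J hω M hsq i := by
  have hpair := fun m => slot_jordan hω hk (hx m)
  choose α p r hα hp hr h3 h4 using hpair
  refine ⟨p, r, hp, hr, ?_⟩
  have hinv := J_inv (hsq := hsq) hω hM i
  have h5 := conj_all (ω := ω) {s | s ∈ J hω M hsq i} (fun j α hα s hs => hinv j α hα s hs) x hxJ α hα
  have h6 := J_jordan hω hM (by omega) i hxJ h5
  rw [pm'_mul, pm'_mul] at h6
  have e1 : (fun m => x m * ((α m).1 * x m * ((α m)⁻¹).1)) = fun m => rk ω (p m) (r m) := funext h3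
  have e2 : (fun m => (α m).1 * x m * ((α m)⁻¹).1 * x m) = fun m => rk ω (r m) (p m) := by
    funext m
    rw [h4, ← neg_one_smul_end]
    have : (-1 : F) = 1 := by linear_combination -h2
    rw [this, one_smul]
  rw [e1, e2] at h6
  exact h6

theorem exists_shift {p r : Fin k → F} (hp : p ≠ 0) (hr : ∀ c : F, r ≠ c • p) :
    ∃ (α : (Module.End F (Fin k → F))ˣ) (μ : F), IsoW ω α ∧ μ ≠ 0 ∧ α.1 p = p ∧ α.1 r = r + μ • p := by
  by_cases h : ω p r = 0
  · obtain ⟨α, h1, h2, h3⟩ := exists_iso hω (a := p) (x := r) (y := r + (1 : F) • p) h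
      (by rw [map_add, h, map_smul, hω.alt, smul_zero, add_zero]) hr (by
        intro c hc
        apply hr (c - 1)
        rw [sub_smul, ← hc]; abel)
    exact ⟨α, 1, h1, one_ne_zero, h2, h3⟩
  · refine ⟨tv hω 1 p, ω p r, isoW_tv hω 1 p, h, ?_, ?_⟩
    · rw [tv_apply, hω.alt, mul_zero, zero_smul, add_zero]
    · rw [tv_apply, one_mul]

theorem S2_step (hM : SlotsM ω M) (i : Fin (n + 1)) {p r : Fin n → (Fin k → F)} (h : S2 ω p r ∈ J hω M hsq i)
    (m : Fin n) (hp : p m ≠ 0) (hr : ∀ c : F, r m ≠ c • p m) :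
    S2 ω p (Function.update r m (p m)) ∈ J hω M hsq i := by
  obtain ⟨α, μ, hα, hμ, hαp, hαr⟩ := exists_shift hω hp hr
  have h1 := J_inv hω hM (hsq := hsq) i m α hα _ h
  have e1 : sE m α.1 * S2 ω p r * sE m (α⁻¹).1 =
      S2 ω p r + μ • S2 ω p (Function.update r m (p m)) := by
    rw [S2, mul_add, add_mul, pm'_conj, pm'_conj, rk_conj hα, rk_conj hα, hαp, hαr]
    have f1 : rk ω (p m) (r m + μ • p m) = rk ω (p m) (r m) + μ • rk ω (p m) (p m) := by
      refine LinearMap.ext fun v => ?_
      simp only [LinearMap.add_apply, LinearMap.smul_apply, rk_apply, map_add, map_smul, add_smul, smul_eq_mul,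
        mul_smul]
    have f2 : rk ω (r m + μ • p m) (p m) = rk ω (r m) (p m) + μ • rk ω (p m) (p m) := by
      refine LinearMap.ext fun v => ?_
      simp only [LinearMap.add_apply, LinearMap.smul_apply, rk_apply, smul_add]
      rw [smul_comm]
    rw [f1, f2, pm'_add, pm'_add, pm'_smul, pm'_smul]
    have g1 : Function.update (fun m => rk ω (p m) (r m)) m (rk ω (p m) (r m)) = fun m => rk ω (p m) (r m) :=
      Function.update_eq_self _ _
    have g2 : Function.update (fun m => rk ω (r m) (p m)) m (rk ω (r m) (p m)) = fun m => rk ω (r m) (p m) :=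
      Function.update_eq_self _ _
    have g3 : Function.update (fun m => rk ω (p m) (r m)) m (rk ω (p m) (p m)) =
        fun m' => rk ω (p m') (Function.update r m (p m) m') := by
      funext m'
      by_cases h' : m' = m
      · subst h'; rw [Function.update_self, Function.update_self]
      · rw [Function.update_of_ne h', Function.update_of_ne h']
    have g4 : Function.update (fun m => rk ω (r m) (p m)) m (rk ω (p m) (p m)) =
        fun m' => rk ω (Function.update r m (p m) m') (p m') := by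
      funext m'
      by_cases h' : m' = m
      · subst h'; rw [Function.update_self, Function.update_self]
      · rw [Function.update_of_ne h', Function.update_of_ne h']
    rw [g1, g2, g3, g4, S2, smul_add]
    abel
  rw [e1] at h1
  have h3 := (J hω M hsq i).sub_mem h1 h
  rw [add_sub_cancel_left] at h3
  have h4 := (J hω M hsq i).smul_mem μ⁻¹ h3
  rwa [smul_smul, inv_mul_cancel₀ hμ, one_smul] at h4

theorem S2_one (hM : SlotsM ω M) (i : Fin (n + 1)) {p r : Fin n → (Fin k → F)} (h : S2 ω p r ∈ J hω M hsq i)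
    (hp : ∀ m, p m ≠ 0) (hr : ∀ m, ∀ c : F, r m ≠ c • p m) (m₀ : Fin n) :
    S2 ω p (Function.update p m₀ (r m₀)) ∈ J hω M hsq i := by
  classical
  have key : ∀ S : Finset (Fin n), m₀ ∉ S → S2 ω p (fun m => if m ∈ S then p m else r m) ∈ J hω M hsq i := by
    intro S
    induction S using Finset.induction_on with
    | empty => intro _; simpa using h
    | insert m S hm ih =>
      intro hS
      rw [Finset.mem_insert, not_or] at hS
      have h1 := S2_step hω hM i (ih hS.2) m (hp m) (by rw [if_neg hm]; exact hr m)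
      convert h1 using 2
      funext m'
      by_cases h' : m' = m
      · subst h'
        rw [Function.update_self, if_pos (Finset.mem_insert_self _ _)]
      · rw [Function.update_of_ne h']
        simp only [Finset.mem_insert, h', false_or]
  have h1 := key (Finset.univ.erase m₀) (Finset.notMem_erase _ _)
  convert h1 using 2
  funext m
  by_cases h' : m = m₀
  · subst h'
    rw [Function.update_self, if_neg (Finset.notMem_erase _ _)]
  · rw [Function.update_of_ne h', if_pos (Finset.mem_erase.2 ⟨h', Finset.mem_univ _⟩)]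

end Enl

/-- The long root element attached to two pure vectors differing in one slot. -/
def HasLong (ω : LinearMap.BilinForm F (Fin k → F)) {n : ℕ} (M : Subgroup (Module.End F (T F k n))ˣ) : Prop :=
  ∃ (P : Fin n → (Fin k → F)) (j : Fin n) (u : Fin k → F), (∀ m, P m ≠ 0) ∧ (∀ c : F, u ≠ c • P j) ∧
    ∃ g ∈ M, g.1 = 1 + (R1 ω (tp P) (tp (Function.update P j u)) - R1 ω (tp (Function.update P j u)) (tp P))

/-- **Case II, characteristic two.** -/
theorem hasLong_of_caseII (hω : Symp ω) (h2 : (2 : F) = 0) (hsq : ∀ c : F, ∃ d, c = d * d) (hk : 6 ≤ k) {n : ℕ}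
    {M : Subgroup (Module.End F (T F k (n + 2)))ˣ} (hM : SlotsM ω M) {i : Fin (n + 2)} {a : Fin k → F}
    (ha : a ≠ 0) {s : Module.End F (T F k (n + 1))} {g : (Module.End F (T F k (n + 2)))ˣ} (hg : g ∈ M)
    (e : g.1 = 1 + (DT hω i).cs a s) (hs : ¬ ∃ τ : F, s = τ • 1) : HasLong ω M := by
  have hsJ : s ∈ J hω M hsq i := by
    refine mem_J_of hω hM ha hg ?_
    rw [e, TD.cs_eq_el, TD.el_eq_map _ hω]
  obtain ⟨m, e₁, he₁, he₁0, hI⟩ := exists_ImP hω (by omega) (J_inv hω hM i) hsJ hs
  obtain ⟨x, h3, h4, h5⟩ := extract hω (by omega) (n + 1) (J hω M hsq i) (J_inv hω hM i) e₁ he₁ he₁0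
  obtain ⟨x', h6, h7⟩ := full_supp hω hM (by omega) i h3 h5 (h4 m hI)
  obtain ⟨p, r, hp, hr, h8⟩ := exists_S2 hω h2 hM hk i h6 h7
  have h9 := S2_one hω hM i h8 hp hr 0
  obtain ⟨g', hg', e'⟩ := h9 a
  refine ⟨i.insertNth a p, i.succAbove 0, r 0, ?_, ?_, g', hg', ?_⟩
  · intro m
    rcases Fin.eq_self_or_eq_succAbove i m with rfl | ⟨m', rfl⟩
    · rw [Fin.insertNth_apply_same]; exact ha
    · rw [Fin.insertNth_apply_succAbove]; exact hp m'
  · intro c
    rw [Fin.insertNth_apply_succAbove]
    exact hr 0 c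
  · have e1 : Function.update (i.insertNth a p : Fin (n + 2) → (Fin k → F)) (i.succAbove 0) (r 0) =
        (i.insertNth a (Function.update p 0 (r 0)) : Fin (n + 2) → (Fin k → F)) := update_insertNth_ne _ _ _ _ _
    have e2 : ∀ p q : Fin (n + 1) → (Fin k → F), R1 ω (tp (i.insertNth a p : Fin (n + 2) → (Fin k → F)))
        (tp (i.insertNth a q : Fin (n + 2) → (Fin k → F))) =
        (DT hω i).map hω (rk ω a a) (pm' fun m => rk ω (p m) (q m)) := by
      intro p q
      rw [map_pm' hω, ← pm'_rk]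
      congr 1
      funext m
      rcases Fin.eq_self_or_eq_succAbove i m with rfl | ⟨m', rfl⟩
      · rw [Fin.insertNth_apply_same, Fin.insertNth_apply_same, Fin.insertNth_apply_same]
      · rw [Fin.insertNth_apply_succAbove, Fin.insertNth_apply_succAbove, Fin.insertNth_apply_succAbove]
    rw [e', e1, e2, e2, S2, TD.map_add_right]
    congr 1
    have h10 : ∀ z : Module.End F (T F k (n + 2)), -z = z := by
      intro z
      rw [← neg_one_smul_end]
      have : (-1 : F) = 1 := by linear_combination -h2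
      rw [this, one_smul]
    rw [sub_eq_add_neg, h10]

end Cfsg.Agent.H889.C7
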