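import Mathlib
import Cfsg.Agent.H889.C7.CaseIIb

/-!
Case II in odd characteristic, `k ≥ 4`: `M` contains a long root element of the orthogonal group.
-/

set_option autoImplicit false
set_option linter.unusedSectionVars false
set_option linter.unusedVariables false
set_option linter.unusedSimpArgs false

namespace Cfsg.Agent.H889.C7

open Module Cfsg.Agent.H889

variable {F : Type*} [Field F] {k : ℕ} {ω : LinearMap.BilinForm F (Fin k → F)}

section J

variable (hω : Symp ω) {n : ℕ} {M : Subgroup (Module.End F (T F k (n + 1)))ˣ}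

/-- The operators `s` with `1 + c_a ⊗ s ∈ M` for all `a`. -/
def J2 (hω : Symp ω) {n : ℕ} (M : Subgroup (Module.End F (T F k (n + 1)))ˣ) (hsq : ∀ c : F, ∃ d e, c = d * d + e * e)
    (i : Fin (n + 1)) : Submodule F (Module.End F (T F k n)) where
  carrier := {s | ∀ a, ∃ g ∈ M, g.1 = 1 + (DT hω i).map hω (rk ω a a) s}
  zero_mem' := fun a => ⟨1, M.one_mem, by rw [map_zero_right', add_zero]; rfl⟩
  add_mem' := by
    intro s s' hs hs' a
    obtain ⟨g, hg, e⟩ := hs a
    obtain ⟨g', hg', e'⟩ := hs' a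
    refine ⟨g * g', M.mul_mem hg hg', ?_⟩
    rw [Units.val_mul, e, e', TD.map_add_right]
    have : (DT hω i).map hω (rk ω a a) s * (DT hω i).map hω (rk ω a a) s' = 0 := by
      rw [TD.map_mul, rk_sq hω, map_zero_left']
    rw [add_mul, mul_add, mul_add, this, add_zero, one_mul, one_mul, mul_one]
    abel
  smul_mem' := by
    intro c s hs a
    obtain ⟨d, d', hd⟩ := hsq c
    obtain ⟨g, hg, e⟩ := hs (d • a)
    obtain ⟨g', hg', e'⟩ := hs (d' • a)
    refine ⟨g * g', M.mul_mem hg hg', ?_⟩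
    rw [Units.val_mul, e, e', rk_smul_smul, TD.map_smul_left, rk_smul_smul, TD.map_smul_left, TD.map_smul_right, hd]
    have : (d * d) • (DT hω i).map hω (rk ω a a) s * (d' * d') • (DT hω i).map hω (rk ω a a) s = 0 := by
      rw [smul_mul_assoc, mul_smul_comm, TD.map_mul, rk_sq hω, map_zero_left', smul_zero, smul_zero]
    rw [add_mul, mul_add, mul_add, this, add_zero, one_mul, one_mul, mul_one, add_smul]
    abel

variable {hsq : ∀ c : F, ∃ d e, c = d * d + e * e}

theorem mem_J2 {i : Fin (n + 1)} {s : Module.End F (T F k n)} :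
    s ∈ J2 hω M hsq i ↔ ∀ a, ∃ g ∈ M, g.1 = 1 + (DT hω i).map hω (rk ω a a) s := Iff.rfl

theorem mem_J2_of (hM : SlotsM ω M) {i : Fin (n + 1)} {s : Module.End F (T F k n)} {a : Fin k → F} (ha : a ≠ 0)
    {g : (Module.End F (T F k (n + 1)))ˣ} (hg : g ∈ M) (h : g.1 = 1 + (DT hω i).map hω (rk ω a a) s) :
    s ∈ J2 hω M hsq i := by
  intro a'
  by_cases ha' : a' = 0
  · exact ⟨1, M.one_mem, by rw [ha', rk_zero, map_zero_left', add_zero]; rfl⟩
  obtain ⟨α, hα, hαa⟩ := exists_iso_of_ne hω ha ha'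
  refine ⟨sU i α * g * (sU i α)⁻¹, M.mul_mem (M.mul_mem (hM.sp i α hα) hg) (M.inv_mem (hM.sp i α hα)), ?_⟩
  have e1 : (sU i α : (Module.End F (T F k (n + 1)))ˣ).1 = (DT hω i).map hω α.1 1 := (map_sE hω i _).symm
  have e2 : ((sU i α : (Module.End F (T F k (n + 1)))ˣ)⁻¹).1 = (DT hω i).map hω (α⁻¹).1 1 := (map_sE hω i _).symm
  rw [Units.val_mul, Units.val_mul, h, mul_add, add_mul, mul_one, ← Units.val_mul, mul_inv_cancel, Units.val_one,
    e1, e2, TD.map_mul, TD.map_mul, one_mul, mul_one, rk_conj hα, hαa]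

theorem J2_inv (hM : SlotsM ω M) (i : Fin (n + 1)) : SlotInv ω (J2 hω M hsq i) := by
  intro j α hα s hs a
  obtain ⟨g, hg, e⟩ := hs a
  have hU := hM.sp (i.succAbove j) α hα
  refine ⟨sU (i.succAbove j) α * g * (sU (i.succAbove j) α)⁻¹, M.mul_mem (M.mul_mem hU hg) (M.inv_mem hU), ?_⟩
  rw [Units.val_mul, Units.val_mul, e, mul_add, add_mul, mul_one, ← Units.val_mul, mul_inv_cancel, Units.val_one]
  congr 1
  exact map_slot_conj hω i j α _ _

/-- Closure under the Jordan product. -/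
theorem J2_jordan (hM : SlotsM ω M) (hk : 4 ≤ k) (i : Fin (n + 1)) {s s' : Module.End F (T F k n)}
    (hs : s ∈ J2 hω M hsq i) (hs' : s' ∈ J2 hω M hsq i) : s * s' + s' * s ∈ J2 hω M hsq i := by
  obtain ⟨w, hw⟩ := exists_ne_vec (F := F) (k := k) (by omega)
  obtain ⟨w', hww'⟩ := hω.exists_pair hw
  obtain ⟨x, x', hxx', hwx, hwx', _, _⟩ := exists_two_pairs hω hk hww'
  have hxw : ω x w = 0 := by rw [hω.skew, hwx, neg_zero]
  have hx'w : ω x' w = 0 := by rw [hω.skew, hwx', neg_zero]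
  have hx'x : ω x' x = -1 := by rw [hω.skew, hxx']
  -- sums of two isotropic directions
  have key : ∀ (s : Module.End F (T F k n)), s ∈ J2 hω M hsq i → ∀ u v : Fin k → F, ω u v = 0 →
      ∃ g ∈ M, g.1 = 1 + (DT hω i).map hω (rk ω u v + rk ω v u) s := by
    intro s hs u v huv
    have hvu : ω v u = 0 := by rw [hω.skew, huv, neg_zero]
    obtain ⟨g₁, hg₁, e₁⟩ := hs (u + v)
    obtain ⟨g₂, hg₂, e₂⟩ := hs u
    obtain ⟨g₃, hg₃, e₃⟩ := hs v
    refine ⟨g₁ * g₂⁻¹ * g₃⁻¹, M.mul_mem (M.mul_mem hg₁ (M.inv_mem hg₂)) (M.inv_mem hg₃), ?_⟩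
    have z : ∀ a b : Fin k → F, ω a b = 0 → (DT hω i).map hω (rk ω a a) s * (DT hω i).map hω (rk ω b b) s = 0 := by
      intro a b hab
      rw [TD.map_mul, rk_mul_rk, hab, zero_smul, map_zero_left']
    have e : rk ω (u + v) (u + v) = rk ω u u + rk ω v v + (rk ω u v + rk ω v u) := by
      refine LinearMap.ext fun y => ?_
      simp only [LinearMap.add_apply, rk_apply, map_add, add_smul, smul_add]
      abel
    rw [Units.val_mul, Units.val_mul, unit_inv_val e₂ (z u u (hω.alt u)), unit_inv_val e₃ (z v v (hω.alt v)), e₁]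
    have z1 := z (u + v) u (by rw [map_add, LinearMap.add_apply, hω.alt, hvu, add_zero])
    have z2 := z (u + v) v (by rw [map_add, LinearMap.add_apply, hω.alt, huv, add_zero])
    have z3 := z u v huv
    have e' : (DT hω i).map hω (rk ω (u + v) (u + v)) s = (DT hω i).map hω (rk ω u u) s +
        (DT hω i).map hω (rk ω v v) s + (DT hω i).map hω (rk ω u v + rk ω v u) s := by
      rw [e, TD.map_add_left, TD.map_add_left]
    generalize (DT hω i).map hω (rk ω (u + v) (u + v)) s = A at *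
    generalize (DT hω i).map hω (rk ω u u) s = B at *
    generalize (DT hω i).map hω (rk ω v v) s = C at *
    generalize (DT hω i).map hω (rk ω u v + rk ω v u) s = D at *
    rw [ring_three A B C z1 z2 z3, e']
    abel
  obtain ⟨g, hg, e⟩ := key s hs w x hwx
  obtain ⟨g', hg', e'⟩ := key s' hs' x' w hx'w
  refine mem_J2_of hω hM hw (M.mul_mem (M.mul_mem (M.mul_mem hg hg') (M.inv_mem hg)) (M.inv_mem hg')) ?_
  have m1 : (rk ω w x + rk ω x w) * (rk ω w x + rk ω x w) = 0 := by
    simp only [mul_add, add_mul, rk_mul_rk, hwx, hxw, hω.alt, zero_smul, add_zero]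
  have m2 : (rk ω x' w + rk ω w x') * (rk ω x' w + rk ω w x') = 0 := by
    simp only [mul_add, add_mul, rk_mul_rk, hwx', hx'w, hω.alt, zero_smul, add_zero]
  have m3 : (rk ω w x + rk ω x w) * (rk ω x' w + rk ω w x') = rk ω w w := by
    simp only [mul_add, add_mul, rk_mul_rk, hxx', hxw, hwx', hω.alt, zero_smul, add_zero, one_smul]
  have m4 : (rk ω x' w + rk ω w x') * (rk ω w x + rk ω x w) = (-1 : F) • rk ω w w := by
    simp only [mul_add, add_mul, rk_mul_rk, hx'x, hx'w, hwx, hω.alt, zero_smul, add_zero, zero_add]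
  have m5 : rk ω w w * (rk ω w x + rk ω x w) = 0 := by
    simp only [mul_add, rk_mul_rk, hwx, hω.alt, zero_smul, add_zero]
  have m6 : rk ω w w * (rk ω x' w + rk ω w x') = 0 := by
    simp only [mul_add, rk_mul_rk, hwx', hω.alt, zero_smul, add_zero]
  rw [unit_comm_val e e' (by rw [TD.map_mul, m1, map_zero_left']) (by rw [TD.map_mul, m2, map_zero_left'])
    (by rw [TD.map_mul, TD.map_mul, m3, m5, map_zero_left'])
    (by rw [TD.map_mul, TD.map_mul, m4, smul_mul_assoc, m6, smul_zero, map_zero_left']),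
    TD.map_mul, TD.map_mul, m3, m4, TD.map_smul_left, neg_one_smul_end, TD.map_add_right]
  congr 1
  exact sub_neg_eq_add _ _

end J

section Enl

variable (hω : Symp ω) {n : ℕ} {M : Subgroup (Module.End F (T F k (n + 1)))ˣ} {hsq : ∀ c : F, ∃ d e, c = d * d + e * e}
include hω

theorem enlarge2 (hM : SlotsM ω M) (hk : 4 ≤ k) (i : Fin (n + 1)) {x : Fin n → Module.End F (Fin k → F)}
    (hx : ∀ m, IsC ω (x m) ∨ IsN ω (x m) ∨ x m = 1) (hxJ : pm' x ∈ J2 hω M hsq i) {j l : Fin n}
    (hj : x j ≠ 1) (hl : x l = 1) :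
    ∃ x' : Fin n → Module.End F (Fin k → F), (∀ m, IsC ω (x' m) ∨ IsN ω (x' m) ∨ x' m = 1) ∧
      pm' x' ∈ J2 hω M hsq i ∧ x' l ≠ 1 ∧ ∀ m, x m ≠ 1 → x' m ≠ 1 := by
  have hjl : j ≠ l := by
    rintro rfl
    exact hj hl
  have hxj : IsC ω (x j) ∨ IsN ω (x j) := by
    rcases hx j with h | h | h
    · exact Or.inl h
    · exact Or.inr h
    · exact absurd h hj
  -- the special slot
  obtain ⟨b, hb, ⟨v, hv1, hv2⟩, yj, hyj, hyj1, hyj2⟩ := slot_j hω hk hxj
  -- the three-cycle
  set j' := i.succAbove j with hj'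
  set l' := i.succAbove l with hl'
  have hij : i ≠ j' := (Fin.succAbove_ne i j).symm
  have hil : i ≠ l' := (Fin.succAbove_ne i l).symm
  have hjl' : j' ≠ l' := fun h => hjl (Fin.succAbove_right_injective h)
  set ρ : Equiv.Perm (Fin (n + 1)) := Equiv.swap i j' * Equiv.swap j' l' with hρ
  have hsign : Equiv.Perm.sign ρ = 1 := by
    rw [hρ, Equiv.Perm.sign_mul, Equiv.Perm.sign_swap hij, Equiv.Perm.sign_swap hjl']
    decide
  have hρs : ρ.symm = Equiv.swap j' l' * Equiv.swap i j' := by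
    have : ρ⁻¹ = Equiv.swap j' l' * Equiv.swap i j' := by
      rw [hρ, mul_inv_rev, Equiv.swap_inv, Equiv.swap_inv]
    exact this
  -- the conjugate of `g_b`
  set x₀ : Fin n → Module.End F (Fin k → F) := Function.update (Function.update x j (rk ω b b)) l (x j) with hx₀
  obtain ⟨g₀, hg₀, e₀⟩ := hxJ b
  have hR0 : ∃ h ∈ M, h.1 = 1 + (DT hω i).map hω 1 (pm' x₀) := by
    refine ⟨pU ρ * g₀ * (pU ρ)⁻¹, M.mul_mem (M.mul_mem (hM.al ρ hsign) hg₀) (M.inv_mem (hM.al ρ hsign)), ?_⟩
    have e1 : (pU ρ * g₀ * (pU ρ)⁻¹).1 = cj (pU ρ) g₀.1 := rfl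
    have e2 : cj (pU ρ) (1 : Module.End F (T F k (n + 1))) = 1 := by
      rw [cj_eq_iff, mul_one, one_mul]
    rw [e1, e₀, map_add, e2, map_pm' hω, map_pm' hω, pm'_perm]
    congr 2
    funext m
    rw [hρs, Equiv.Perm.mul_apply]
    rcases Fin.eq_self_or_eq_succAbove i m with rfl | ⟨m', rfl⟩
    · rw [Equiv.swap_apply_left, Equiv.swap_apply_left, Fin.insertNth_apply_same, hl', Fin.insertNth_apply_succAbove, hl]
    · rw [Fin.insertNth_apply_succAbove]
      by_cases h1 : m' = j
      · subst h1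
        rw [Equiv.swap_apply_right, Equiv.swap_apply_of_ne_of_ne hij hil, Fin.insertNth_apply_same, hx₀,
          Function.update_of_ne hjl, Function.update_self]
      · by_cases h2 : m' = l
        · subst h2
          rw [Equiv.swap_apply_of_ne_of_ne (Ne.symm hil) (Ne.symm hjl'), Equiv.swap_apply_right, hj',
            Fin.insertNth_apply_succAbove, hx₀, Function.update_self]
        · have h3 : i.succAbove m' ≠ j' := fun h => h1 (Fin.succAbove_right_injective h)
          have h4 : i.succAbove m' ≠ l' := fun h => h2 (Fin.succAbove_right_injective h)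
          rw [Equiv.swap_apply_of_ne_of_ne (Fin.succAbove_ne i m') h3, Equiv.swap_apply_of_ne_of_ne h3 h4,
            Fin.insertNth_apply_succAbove, hx₀, Function.update_of_ne h2, Function.update_of_ne h1]
  -- conjugate the other slots
  have hpair := fun m => slot_pair hω hk (hx m)
  choose α hα hα1 hα2 using hpair
  set β : Fin n → (Module.End F (Fin k → F))ˣ := Function.update (Function.update α j 1) l 1 with hβ
  have hβiso : ∀ m, IsoW ω (β m) := by
    intro m
    rw [hβ]
    by_cases h2 : m = l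
    · rw [h2, Function.update_self]; exact IsoW.one
    · rw [Function.update_of_ne h2]
      by_cases h1 : m = j
      · rw [h1, Function.update_self]; exact IsoW.one
      · rw [Function.update_of_ne h1]; exact hα m
  set y : Fin n → Module.End F (Fin k → F) := fun m => (β m).1 * x₀ m * ((β m)⁻¹).1 with hy
  have hyR : ∃ h ∈ M, h.1 = 1 + (DT hω i).map hω 1 (pm' y) := by
    refine conj_all (ω := ω) {r | ∃ h ∈ M, h.1 = 1 + (DT hω i).map hω 1 r} ?_ x₀ hR0 β hβiso
    rintro m γ hγ s ⟨h, hh, e⟩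
    have hU := hM.sp (i.succAbove m) γ hγ
    refine ⟨sU (i.succAbove m) γ * h * (sU (i.succAbove m) γ)⁻¹, M.mul_mem (M.mul_mem hU hh) (M.inv_mem hU), ?_⟩
    rw [Units.val_mul, Units.val_mul, e, mul_add, add_mul, mul_one, ← Units.val_mul, mul_inv_cancel, Units.val_one]
    congr 1
    exact map_slot_conj hω i m γ _ _
  have hyj' : y j = rk ω b b := by
    rw [hy]
    simp only [hβ, hx₀, Function.update_of_ne hjl, Function.update_self, Units.val_one, inv_one, one_mul, mul_one]
  have hyl : y l = x j := by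
    rw [hy]
    simp only [hβ, hx₀, Function.update_self, Units.val_one, inv_one, one_mul, mul_one]
  have hym : ∀ m, m ≠ j → m ≠ l → y m = (α m).1 * x m * ((α m)⁻¹).1 := by
    intro m h1 h2
    rw [hy]
    simp only [hβ, hx₀, Function.update_of_ne h2, Function.update_of_ne h1]
  obtain ⟨h, hh, eh⟩ := hyR
  -- the commutator
  set s := pm' (fun m => x m * y m) - pm' (fun m => y m * x m) with hs
  have hxj2 := (slot_ne hω hxj)
  have hsJ : s ∈ J2 hω M hsq i := by
    intro a
    obtain ⟨g, hg, e⟩ := hxJ a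
    refine ⟨g * h * g⁻¹ * h⁻¹, M.mul_mem (M.mul_mem (M.mul_mem hg hh) (M.inv_mem hg)) (M.inv_mem hh), ?_⟩
    have m1 : pm' y * pm' y = 0 := by
      rw [pm'_mul]
      exact pm'_eq_zero (j := j) (by rw [hyj', rk_sq hω])
    have m2 : pm' y * pm' x * pm' y = 0 := by
      rw [pm'_mul, pm'_mul]
      exact pm'_eq_zero (j := l) (by rw [hyl, hl, mul_one, hxj2.2])
    rw [unit_comm_val e eh (by rw [TD.map_mul, rk_sq hω, map_zero_left'])
      (by rw [TD.map_mul, m1, map_zero_right'])
      (by rw [TD.map_mul, TD.map_mul, mul_one, rk_sq hω, map_zero_left'])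
      (by rw [TD.map_mul, TD.map_mul, m2, map_zero_right']),
      TD.map_mul, TD.map_mul, mul_one, one_mul, pm'_mul, pm'_mul]
    congr 1
    have : s = pm' (fun m => x m * y m) + (-1 : F) • pm' (fun m => y m * x m) := by
      rw [neg_one_smul_end, hs, sub_eq_add_neg]
    rw [this, TD.map_add_right, TD.map_smul_right, neg_one_smul_end, sub_eq_add_neg]
  -- it is non-zero
  have hs0 : s ≠ 0 := by
    intro h0
    have hz : ∀ m, m ≠ j → ∃ z, (x m * y m) z ≠ 0 := by
      intro m hm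
      by_contra hcon
      push Not at hcon
      have hcon' : x m * y m = 0 := LinearMap.ext hcon
      by_cases h2 : m = l
      · rw [h2, hl, one_mul, hyl] at hcon'
        exact hxj2.1 hcon'
      · rw [hym m hm h2] at hcon'
        exact hα1 m hcon'
    have hz' : ∀ m, ∃ z, (x m * y m) z ≠ 0 ∧ (m = j → (y m * x m) z = 0) := by
      intro m
      by_cases hm : m = j
      · subst hm
        rw [hyj']
        exact ⟨v, hv1, fun _ => hv2⟩
      · obtain ⟨z, hz⟩ := hz m hm
        exact ⟨z, hz, fun h => absurd h hm⟩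
    choose z hz1 hz2 using hz'
    have h1 := LinearMap.congr_fun h0 (tp z)
    rw [hs, LinearMap.sub_apply, pm'_tp, pm'_tp, LinearMap.zero_apply,
      tp_eq_zero (xs := fun m => (y m * x m) (z m)) (i := j) (hz2 j rfl), sub_zero] at h1
    exact tp_ne_zero hz1 h1
  -- the images
  have hI : ∀ m, (x m ≠ 1 ∨ m = l) → ImP ω m s := by
    intro m hm
    obtain ⟨u, hu, h1, h2⟩ : ∃ u : Fin k → F, u ≠ 0 ∧ rk ω u u * (x m * y m) = 0 ∧ rk ω u u * (y m * x m) = 0 := by
      by_cases h1 : m = j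
      · subst h1
        rw [hyj']
        exact ⟨yj, hyj, hyj1, hyj2⟩
      · by_cases h2 : m = l
        · subst h2
          rw [hyl, hl, one_mul, mul_one]
          obtain ⟨u, hu, h⟩ := slot_im hω hxj
          exact ⟨u, hu, h, h⟩
        · rw [hym m h1 h2]
          exact hα2 m (hm.resolve_right h2)
    refine ⟨u, hu, ?_⟩
    rw [hs, mul_sub, sE_mul_pm', sE_mul_pm', pm'_eq_zero (j := m) (by rw [Function.update_self, h1]),
      pm'_eq_zero (j := m) (by rw [Function.update_self, h2]), sub_zero]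
  obtain ⟨x', h1, h2, h3⟩ := extract hω hk n (J2 hω M hsq i) (J2_inv hω hM i) s hsJ hs0
  exact ⟨x', h1, h3, h2 l (hI l (Or.inr rfl)), fun m hm => h2 m (hI m (Or.inl hm))⟩

/-- Full support. -/
theorem full_supp2 (hM : SlotsM ω M) (hk : 4 ≤ k) (i : Fin (n + 1)) {x : Fin n → Module.End F (Fin k → F)}
    (hx : ∀ m, IsC ω (x m) ∨ IsN ω (x m) ∨ x m = 1) (hxJ : pm' x ∈ J2 hω M hsq i) {j : Fin n}
    (hj : x j ≠ 1) :
    ∃ x' : Fin n → Module.End F (Fin k → F), (∀ m, IsC ω (x' m) ∨ IsN ω (x' m)) ∧ pm' x' ∈ J2 hω M hsq i := by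
  classical
  have key : ∀ d : ℕ, ∃ x' : Fin n → Module.End F (Fin k → F), (∀ m, IsC ω (x' m) ∨ IsN ω (x' m) ∨ x' m = 1) ∧
      pm' x' ∈ J2 hω M hsq i ∧ x' j ≠ 1 ∧ ((∀ m, x' m ≠ 1) ∨ d ≤ (Finset.univ.filter fun m => x' m ≠ 1).card) := by
    intro d
    induction d with
    | zero => exact ⟨x, hx, hxJ, hj, Or.inr (Nat.zero_le _)⟩
    | succ d ih =>
      obtain ⟨x', h1, h2, h3, h4⟩ := ih
      rcases h4 with h4 | h4
      · exact ⟨x', h1, h2, h3, Or.inl h4⟩
      by_cases h5 : ∀ m, x' m ≠ 1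
      · exact ⟨x', h1, h2, h3, Or.inl h5⟩
      push Not at h5
      obtain ⟨l, hl⟩ := h5
      obtain ⟨x'', g1, g2, g3, g4⟩ := enlarge2 hω hM hk i h1 h2 h3 hl
      refine ⟨x'', g1, g2, g4 j h3, Or.inr ?_⟩
      refine lt_of_le_of_lt h4 (Finset.card_lt_card ?_)
      rw [Finset.ssubset_iff_of_subset]
      · exact ⟨l, by simpa using g3, by simpa using hl⟩
      · intro m hm
        rw [Finset.mem_filter] at hm ⊢
        exact ⟨hm.1, g4 m hm.2⟩
  obtain ⟨x', h1, h2, h3, h4⟩ := key n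
  refine ⟨x', fun m => ?_, h2⟩
  have h5 : x' m ≠ 1 := by
    rcases h4 with h4 | h4
    · exact h4 m
    · have h6 : (Finset.univ.filter fun m => x' m ≠ 1) = Finset.univ := by
        apply Finset.eq_univ_of_card
        rw [Fintype.card_fin]
        refine le_antisymm ?_ h4
        calc _ ≤ (Finset.univ : Finset (Fin n)).card := Finset.card_le_card (Finset.filter_subset _ _)
          _ = n := by rw [Finset.card_univ, Fintype.card_fin]
      have h7 : m ∈ (Finset.univ.filter fun m => x' m ≠ 1) := by rw [h6]; exact Finset.mem_univ m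
      exact (Finset.mem_filter.1 h7).2
  rcases h1 m with h | h | h
  · exact Or.inl h
  · exact Or.inr h
  · exact absurd h h5

end Enl

end Cfsg.Agent.H889.C7
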