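import Mathlib
import Cfsg.Agent.H889.C7.CaseOdd

/-!
Case II in odd characteristic, `k ≥ 4`: the long root element.
-/

set_option autoImplicit false
set_option linter.unusedSectionVars false
set_option linter.unusedVariables false
set_option linter.unusedSimpArgs false

namespace Cfsg.Agent.H889.C7

open Module Cfsg.Agent.H889

variable {F : Type*} [Field F] {k : ℕ} {ω : LinearMap.BilinForm F (Fin k → F)}

theorem pm'_smul_all {n : ℕ} (c : Fin n → F) (x : Fin n → Module.End F (Fin k → F)) :
    pm' (fun m => c m • x m) = (∏ m, c m) • pm' x := by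
  refine tp_ext fun xs => ?_
  rw [LinearMap.smul_apply, pm'_tp, pm'_tp]
  funext a
  rw [Pi.smul_apply, tp_apply, tp_apply, smul_eq_mul, ← Finset.prod_mul_distrib]
  exact Finset.prod_congr rfl fun i _ => rfl

/-- The difference of two rank one operators. -/
noncomputable def D2 (ω : LinearMap.BilinForm F (Fin k → F)) {n : ℕ} (p r : Fin n → (Fin k → F)) :
    Module.End F (T F k n) :=
  pm' (fun m => rk ω (p m) (r m)) - pm' (fun m => rk ω (r m) (p m))

theorem slot_c (hω : Symp ω) {w : Fin k → F} (hw : w ≠ 0) :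
    ∃ (α : (Module.End F (Fin k → F))ˣ) (w₂ : Fin k → F), IsoW ω α ∧ ω w w₂ = 1 ∧ (∀ c : F, w₂ ≠ c • w) ∧
      rk ω w w * (α.1 * rk ω w w * (α⁻¹).1) = rk ω w w₂ ∧
      (α.1 * rk ω w w * (α⁻¹).1) * rk ω w w = (-1 : F) • rk ω w₂ w := by
  obtain ⟨w₂, hw₂⟩ := hω.exists_pair hw
  have hw₂0 : w₂ ≠ 0 := by
    rintro rfl
    simp at hw₂
  have hw₂' : ω w₂ w = -1 := by rw [hω.skew, hw₂]
  obtain ⟨α, hα, hαw⟩ := exists_iso_of_ne hω hw hw₂0
  refine ⟨α, w₂, hα, hw₂, ?_, ?_, ?_⟩
  · intro c hc
    rw [hc, map_smul, hω.alt, smul_zero] at hw₂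
    exact zero_ne_one hw₂
  · rw [rk_conj hα, hαw, rk_mul_rk, hw₂, one_smul]
  · rw [rk_conj hα, hαw, rk_mul_rk, hw₂']

theorem slot_n (hω : Symp ω) {w w' : Fin k → F} (hww' : ω w w' = 0) (hw : w ≠ 0) (hw' : ∀ c : F, w' ≠ c • w) :
    ∃ (α : (Module.End F (Fin k → F))ˣ), IsoW ω α ∧
      (rk ω w w' - rk ω w' w) * (α.1 * (rk ω w w' - rk ω w' w) * (α⁻¹).1) = rk ω w w ∧
      (α.1 * (rk ω w w' - rk ω w' w) * (α⁻¹).1) * (rk ω w w' - rk ω w' w) = (-1 : F) • rk ω w w := by
  obtain ⟨u', hu1, hu2⟩ := hω.exists_sep hw' trivial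
  set u := -u' with hu
  have h1 : ω w' u = 1 := by rw [hu, map_neg, ← hω.skew, hu1]
  have h2 : ω w u = 0 := by rw [hu, map_neg, ← hω.skew, hu2]
  have h2' : ω u w = 0 := by rw [hω.skew, h2, neg_zero]
  have h3 : ω w' w = 0 := by rw [hω.skew, hww', neg_zero]
  have h4 : ω u w' = -1 := by rw [hω.skew, h1]
  have hu0 : u ≠ 0 := by
    intro h0
    rw [h0, map_zero] at h1
    exact zero_ne_one h1
  obtain ⟨α, hα, hαw, hαw'⟩ := exists_iso_pair hω hww' hw hw' h2' hu0 (by
    intro c hc
    have h5 := h3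
    rw [hc, map_smul, h1, smul_eq_mul, mul_one] at h5
    exact hw (by rw [hc, h5, zero_smul]))
  have e : α.1 * (rk ω w w' - rk ω w' w) * (α⁻¹).1 = rk ω u w - rk ω w u := by
    rw [mul_sub, sub_mul, rk_conj hα, rk_conj hα, hαw, hαw']
  refine ⟨α, hα, ?_, ?_⟩
  · rw [e]
    simp only [mul_sub, sub_mul, rk_mul_rk, h1, h2, h3, hω.alt, one_smul, zero_smul, sub_zero]
  · rw [e]
    simp only [mul_sub, sub_mul, rk_mul_rk, hww', h2', h4, hω.alt, zero_smul, sub_zero, zero_sub, neg_zero]
    exact neg_neg _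

/-- In dimension four the Jordan product of two opposite bivectors is `1`. -/
theorem slot_four (hω : Symp ω) (hk : k = 4) {w w' : Fin k → F} (hww' : ω w w' = 0) (hw : w ≠ 0)
    (hw' : ∀ c : F, w' ≠ c • w) :
    ∃ (α : (Module.End F (Fin k → F))ˣ), IsoW ω α ∧
      (rk ω w w' - rk ω w' w) * (α.1 * (rk ω w w' - rk ω w' w) * (α⁻¹).1) +
      (α.1 * (rk ω w w' - rk ω w' w) * (α⁻¹).1) * (rk ω w w' - rk ω w' w) = 1 := by
  have hw'0 : w' ≠ 0 := by simpa using hw' 0
  have hw'' : ∀ c : F, w ≠ c • w' := by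
    intro c hc
    have hc0 : c ≠ 0 := by
      rintro rfl
      rw [zero_smul] at hc
      exact hw hc
    exact hw' c⁻¹ (by rw [hc, smul_smul, inv_mul_cancel₀ hc0, one_smul])
  -- the dual basis
  obtain ⟨u₀, a1, a2⟩ := hω.exists_sep hw'' trivial
  obtain ⟨u₁, b1, b2⟩ := hω.exists_sep hw' trivial
  set u := -u₀ with hu
  have h1 : ω w u = 1 := by rw [hu, map_neg, ← hω.skew, a1]
  have h2 : ω w' u = 0 := by rw [hu, map_neg, ← hω.skew, a2]
  have hu' : ω u w = -1 := by rw [hω.skew, h1]
  have h2' : ω u w' = 0 := by rw [hω.skew, h2, neg_zero]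
  set v₁ := -u₁ with hv₁
  have h3 : ω w' v₁ = 1 := by rw [hv₁, map_neg, ← hω.skew, b1]
  have h4 : ω w v₁ = 0 := by rw [hv₁, map_neg, ← hω.skew, b2]
  -- make `u'` orthogonal to `u`
  set u' := v₁ + ω u v₁ • w with hu'd
  have h8 : ω w' w = 0 := by rw [hω.skew, hww', neg_zero]
  have h5 : ω w' u' = 1 := by
    rw [hu'd, map_add, h3, map_smul, h8, smul_zero, add_zero]
  have h6 : ω w u' = 0 := by rw [hu'd, map_add, h4, map_smul, hω.alt, smul_zero, add_zero]
  have h7 : ω u u' = 0 := by
    rw [hu'd, map_add, map_smul, hu', smul_eq_mul, mul_neg, mul_one, add_neg_cancel]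
  have h5' : ω u' w' = -1 := by rw [hω.skew, h5]
  have h6' : ω u' w = 0 := by rw [hω.skew, h6, neg_zero]
  have h7' : ω u' u = 0 := by rw [hω.skew, h7, neg_zero]
  have hu0 : u ≠ 0 := by
    intro h0
    rw [h0, map_zero] at h1
    exact zero_ne_one h1
  obtain ⟨α, hα, hαw, hαw'⟩ := exists_iso_pair hω hww' hw hw' h7 hu0 (by
    intro c hc
    have h9 := h5
    rw [hc, map_smul, h2, smul_zero] at h9
    exact zero_ne_one h9)
  have e : α.1 * (rk ω w w' - rk ω w' w) * (α⁻¹).1 = rk ω u u' - rk ω u' u := by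
    rw [mul_sub, sub_mul, rk_conj hα, rk_conj hα, hαw, hαw']
  refine ⟨α, hα, ?_⟩
  rw [e]
  -- the four functionals determine a vector
  let Φ : (Fin k → F) →ₗ[F] (Fin 4 → F) := LinearMap.pi ![ω w, ω w', ω u, ω u']
  have hΦ : ∀ v i, Φ v i = (![ω w, ω w', ω u, ω u'] i) v := fun v i => rfl
  have hsurj : Function.Surjective Φ := by
    intro c
    refine ⟨c 0 • u + c 1 • u' - c 2 • w - c 3 • w', ?_⟩
    funext i
    rw [hΦ]
    fin_cases i
    · change ω w _ = c 0
      simp only [map_add, map_sub, map_smul, smul_eq_mul, h1, h6, hω.alt, hww']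
      ring
    · change ω w' _ = c 1
      simp only [map_add, map_sub, map_smul, smul_eq_mul, h2, h5, hω.alt, h8]
      ring
    · change ω u _ = c 2
      simp only [map_add, map_sub, map_smul, smul_eq_mul, h7, hω.alt, hu', h2']
      ring
    · change ω u' _ = c 3
      simp only [map_add, map_sub, map_smul, smul_eq_mul, h7', hω.alt, h5', h6']
      ring
  have hfin : finrank F (Fin k → F) = finrank F (Fin 4 → F) := by
    rw [Module.finrank_fin_fun, Module.finrank_fin_fun, hk]
  have hinj : Function.Injective Φ := (LinearMap.injective_iff_surjective_of_finrank_eq_finrank hfin).2 hsurj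
  refine LinearMap.ext fun v => hinj ?_
  funext i
  rw [hΦ, hΦ, Module.End.one_apply, LinearMap.add_apply, Module.End.mul_apply, Module.End.mul_apply]
  simp only [LinearMap.sub_apply, rk_apply, map_sub, map_smul]
  simp only [h1, h2, h5, h6, h7, h5', h6', h7', h8, hu', h2', hww', hω.alt, smul_eq_mul, mul_zero, mul_one,
    sub_zero, zero_sub, smul_zero, LinearMap.sub_apply, LinearMap.smul_apply, map_sub, map_smul, neg_smul, sub_self]
  fin_cases i
  · change _ = ω w v
    simp [h1, h2, h5, h6, h7, h5', h6', h7', h8, hu', h2', hww', hω.alt]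
  · change _ = ω w' v
    simp [h1, h2, h5, h6, h7, h5', h6', h7', h8, hu', h2', hww', hω.alt]
  · change _ = ω u v
    simp [h1, h2, h5, h6, h7, h5', h6', h7', h8, hu', h2', hww', hω.alt]
  · change _ = ω u' v
    simp [h1, h2, h5, h6, h7, h5', h6', h7', h8, hu', h2', hww', hω.alt]

section Fin

variable (hω : Symp ω) {n : ℕ} {M : Subgroup (Module.End F (T F k (n + 1)))ˣ}
  {hsq : ∀ c : F, ∃ d e, c = d * d + e * e}
include hω

theorem core2 (hM : SlotsM ω M) (i : Fin (n + 1)) {x : Fin n → Module.End F (Fin k → F)}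
    (hxJ : pm' x ∈ J2 hω M hsq i) {j l : Fin n} (hjl : j ≠ l) (hl : x l = 1) (hxj : x j * x j = 0)
    (b : Fin k → F) (α : Fin n → (Module.End F (Fin k → F))ˣ) (hα : ∀ m, IsoW ω (α m)) :
    ∃ y : Fin n → Module.End F (Fin k → F), y j = rk ω b b ∧ y l = x j ∧
      (∀ m, m ≠ j → m ≠ l → y m = (α m).1 * x m * ((α m)⁻¹).1) ∧
      pm' (fun m => x m * y m) - pm' (fun m => y m * x m) ∈ J2 hω M hsq i := by
  -- the three-cycle
  set j' := i.succAbove j with hj'
  set l' := i.succAbove l with hl'
  have hij : i ≠ j' := (Fin.succAbove_ne i j).symm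
  have hil : i ≠ l' := (Fin.succAbove_ne i l).symm
  have hjl' : j' ≠ l' := fun h => hjl (Fin.succAbove_right_injective h)
  set ρ : Equiv.Perm (Fin (n + 1)) := Equiv.swap i j' * Equiv.swap j' l' with hρ
  have hsign : Equiv.Perm.sign ρ = 1 := by
    rw [hρ, Equiv.Perm.sign_mul, Equiv.Perm.sign_swap hij, Equiv.Perm.sign_swap hjl']
    decide
  have hρs : ρ.symm = Equiv.swap j' l' * Equiv.swap i j' := by
    have : ρ⁻¹ = Equiv.swap j' l' * Equiv.swap i j' := by
      rw [hρ, mul_inv_rev, Equiv.swap_inv, Equiv.swap_inv]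
    exact this
  -- the conjugate of `g_b`
  set x₀ : Fin n → Module.End F (Fin k → F) := Function.update (Function.update x j (rk ω b b)) l (x j) with hx₀
  obtain ⟨g₀, hg₀, e₀⟩ := hxJ b
  have hR0 : ∃ h ∈ M, h.1 = 1 + (DT hω i).map hω 1 (pm' x₀) := by
    refine ⟨pU ρ * g₀ * (pU ρ)⁻¹, M.mul_mem (M.mul_mem (hM.al ρ hsign) hg₀) (M.inv_mem (hM.al ρ hsign)), ?_⟩
    have e1 : (pU ρ * g₀ * (pU ρ)⁻¹).1 = cj (pU ρ) g₀.1 := rfl
    have e2 : cj (pU ρ) (1 : Module.End F (T F k (n + 1))) = 1 := by
      rw [cj_eq_iff, mul_one, one_mul]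
    rw [e1, e₀, map_add, e2, map_pm' hω, map_pm' hω, pm'_perm]
    congr 2
    funext m
    rw [hρs, Equiv.Perm.mul_apply]
    rcases Fin.eq_self_or_eq_succAbove i m with rfl | ⟨m', rfl⟩
    · rw [Equiv.swap_apply_left, Equiv.swap_apply_left, Fin.insertNth_apply_same, hl', Fin.insertNth_apply_succAbove, hl]
    · rw [Fin.insertNth_apply_succAbove]
      by_cases h1 : m' = j
      · subst h1
        rw [Equiv.swap_apply_right, Equiv.swap_apply_of_ne_of_ne hij hil, Fin.insertNth_apply_same, hx₀,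
          Function.update_of_ne hjl, Function.update_self]
      · by_cases h2 : m' = l
        · subst h2
          rw [Equiv.swap_apply_of_ne_of_ne (Ne.symm hil) (Ne.symm hjl'), Equiv.swap_apply_right, hj',
            Fin.insertNth_apply_succAbove, hx₀, Function.update_self]
        · have h3 : i.succAbove m' ≠ j' := fun h => h1 (Fin.succAbove_right_injective h)
          have h4 : i.succAbove m' ≠ l' := fun h => h2 (Fin.succAbove_right_injective h)
          rw [Equiv.swap_apply_of_ne_of_ne (Fin.succAbove_ne i m') h3, Equiv.swap_apply_of_ne_of_ne h3 h4,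
            Fin.insertNth_apply_succAbove, hx₀, Function.update_of_ne h2, Function.update_of_ne h1]
  -- conjugate the other slots
  set β : Fin n → (Module.End F (Fin k → F))ˣ := Function.update (Function.update α j 1) l 1 with hβ
  have hβiso : ∀ m, IsoW ω (β m) := by
    intro m
    rw [hβ]
    by_cases h2 : m = l
    · rw [h2, Function.update_self]; exact IsoW.one
    · rw [Function.update_of_ne h2]
      by_cases h1 : m = j
      · rw [h1, Function.update_self]; exact IsoW.one
      · rw [Function.update_of_ne h1]; exact hα m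
  set y : Fin n → Module.End F (Fin k → F) := fun m => (β m).1 * x₀ m * ((β m)⁻¹).1 with hy
  have hyR : ∃ h ∈ M, h.1 = 1 + (DT hω i).map hω 1 (pm' y) := by
    refine conj_all (ω := ω) {r | ∃ h ∈ M, h.1 = 1 + (DT hω i).map hω 1 r} ?_ x₀ hR0 β hβiso
    rintro m γ hγ s ⟨h, hh, e⟩
    have hU := hM.sp (i.succAbove m) γ hγ
    refine ⟨sU (i.succAbove m) γ * h * (sU (i.succAbove m) γ)⁻¹, M.mul_mem (M.mul_mem hU hh) (M.inv_mem hU), ?_⟩
    rw [Units.val_mul, Units.val_mul, e, mul_add, add_mul, mul_one, ← Units.val_mul, mul_inv_cancel, Units.val_one]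
    congr 1
    exact map_slot_conj hω i m γ _ _
  have hyj' : y j = rk ω b b := by
    rw [hy]
    simp only [hβ, hx₀, Function.update_of_ne hjl, Function.update_self, Units.val_one, inv_one, one_mul, mul_one]
  have hyl : y l = x j := by
    rw [hy]
    simp only [hβ, hx₀, Function.update_self, Units.val_one, inv_one, one_mul, mul_one]
  have hym : ∀ m, m ≠ j → m ≠ l → y m = (α m).1 * x m * ((α m)⁻¹).1 := by
    intro m h1 h2
    rw [hy]
    simp only [hβ, hx₀, Function.update_of_ne h2, Function.update_of_ne h1]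
  obtain ⟨h, hh, eh⟩ := hyR
  refine ⟨y, hyj', hyl, hym, ?_⟩
  -- the commutator
  set s := pm' (fun m => x m * y m) - pm' (fun m => y m * x m) with hs
  intro a
  obtain ⟨g, hg, e⟩ := hxJ a
  refine ⟨g * h * g⁻¹ * h⁻¹, M.mul_mem (M.mul_mem (M.mul_mem hg hh) (M.inv_mem hg)) (M.inv_mem hh), ?_⟩
  have m1 : pm' y * pm' y = 0 := by
    rw [pm'_mul]
    exact pm'_eq_zero (j := j) (by rw [hyj', rk_sq hω])
  have m2 : pm' y * pm' x * pm' y = 0 := by
    rw [pm'_mul, pm'_mul]
    exact pm'_eq_zero (j := l) (by rw [hyl, hl, mul_one, hxj])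
  rw [unit_comm_val e eh (by rw [TD.map_mul, rk_sq hω, map_zero_left'])
    (by rw [TD.map_mul, m1, map_zero_right'])
    (by rw [TD.map_mul, TD.map_mul, mul_one, rk_sq hω, map_zero_left'])
    (by rw [TD.map_mul, TD.map_mul, m2, map_zero_right']),
    TD.map_mul, TD.map_mul, mul_one, one_mul, pm'_mul, pm'_mul]
  congr 1
  have : s = pm' (fun m => x m * y m) + (-1 : F) • pm' (fun m => y m * x m) := by
    rw [neg_one_smul_end, hs, sub_eq_add_neg]
  rw [this, TD.map_add_right, TD.map_smul_right, neg_one_smul_end, sub_eq_add_neg]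

theorem D2_step (hM : SlotsM ω M) (i : Fin (n + 1)) {p r : Fin n → (Fin k → F)} (h : D2 ω p r ∈ J2 hω M hsq i)
    (m : Fin n) (hp : p m ≠ 0) (hr : ∀ c : F, r m ≠ c • p m) :
    D2 ω p (Function.update r m (p m)) ∈ J2 hω M hsq i := by
  obtain ⟨α, μ, hα, hμ, hαp, hαr⟩ := exists_shift hω hp hr
  have h1 := J2_inv hω hM (hsq := hsq) i m α hα _ h
  have e1 : sE m α.1 * D2 ω p r * sE m (α⁻¹).1 =
      D2 ω p r + μ • D2 ω p (Function.update r m (p m)) := by
    rw [D2, mul_sub, sub_mul, pm'_conj, pm'_conj, rk_conj hα, rk_conj hα, hαp, hαr]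
    have f1 : rk ω (p m) (r m + μ • p m) = rk ω (p m) (r m) + μ • rk ω (p m) (p m) := by
      refine LinearMap.ext fun v => ?_
      simp only [LinearMap.add_apply, LinearMap.smul_apply, rk_apply, map_add, map_smul, add_smul, smul_eq_mul,
        mul_smul]
    have f2 : rk ω (r m + μ • p m) (p m) = rk ω (r m) (p m) + μ • rk ω (p m) (p m) := by
      refine LinearMap.ext fun v => ?_
      simp only [LinearMap.add_apply, LinearMap.smul_apply, rk_apply, smul_add]
      rw [smul_comm]
    rw [f1, f2, pm'_add, pm'_add, pm'_smul, pm'_smul]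
    have g1 : Function.update (fun m => rk ω (p m) (r m)) m (rk ω (p m) (r m)) = fun m => rk ω (p m) (r m) :=
      Function.update_eq_self _ _
    have g2 : Function.update (fun m => rk ω (r m) (p m)) m (rk ω (r m) (p m)) = fun m => rk ω (r m) (p m) :=
      Function.update_eq_self _ _
    have g3 : Function.update (fun m => rk ω (p m) (r m)) m (rk ω (p m) (p m)) =
        fun m' => rk ω (p m') (Function.update r m (p m) m') := by
      funext m'
      by_cases h' : m' = m
      · subst h'; rw [Function.update_self, Function.update_self]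
      · rw [Function.update_of_ne h', Function.update_of_ne h']
    have g4 : Function.update (fun m => rk ω (r m) (p m)) m (rk ω (p m) (p m)) =
        fun m' => rk ω (Function.update r m (p m) m') (p m') := by
      funext m'
      by_cases h' : m' = m
      · subst h'; rw [Function.update_self, Function.update_self]
      · rw [Function.update_of_ne h', Function.update_of_ne h']
    rw [g1, g2, g3, g4, D2, smul_sub]
    abel
  rw [e1] at h1
  have h3 := (J2 hω M hsq i).sub_mem h1 h
  rw [add_sub_cancel_left] at h3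
  have h4 := (J2 hω M hsq i).smul_mem μ⁻¹ h3
  rwa [smul_smul, inv_mul_cancel₀ hμ, one_smul] at h4

theorem D2_one (hM : SlotsM ω M) (i : Fin (n + 1)) {p r : Fin n → (Fin k → F)} (h : D2 ω p r ∈ J2 hω M hsq i)
    (hp : ∀ m, p m ≠ 0) (m₀ : Fin n) (hr : ∀ m, m ≠ m₀ → (∀ c : F, r m ≠ c • p m) ∨ r m = p m) :
    D2 ω p (Function.update p m₀ (r m₀)) ∈ J2 hω M hsq i := by
  classical
  have key : ∀ S : Finset (Fin n), m₀ ∉ S → D2 ω p (fun m => if m ∈ S then p m else r m) ∈ J2 hω M hsq i := by
    intro S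
    induction S using Finset.induction_on with
    | empty => intro _; simpa using h
    | insert m S hm ih =>
      intro hS
      rw [Finset.mem_insert, not_or] at hS
      rcases hr m (Ne.symm hS.1) with h0 | h0
      · have h1 := D2_step hω hM i (ih hS.2) m (hp m) (by rw [if_neg hm]; exact h0)
        convert h1 using 2
        funext m'
        by_cases h' : m' = m
        · subst h'
          rw [Function.update_self, if_pos (Finset.mem_insert_self _ _)]
        · rw [Function.update_of_ne h']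
          simp only [Finset.mem_insert, h', false_or]
      · convert ih hS.2 using 2
        funext m'
        by_cases h' : m' = m
        · subst h'
          rw [if_pos (Finset.mem_insert_self _ _), if_neg hm, h0]
        · simp only [Finset.mem_insert, h', false_or]
  have h1 := key (Finset.univ.erase m₀) (Finset.notMem_erase _ _)
  convert h1 using 2
  funext m
  by_cases h' : m = m₀
  · subst h'
    rw [Function.update_self, if_neg (Finset.notMem_erase _ _)]
  · rw [Function.update_of_ne h', if_pos (Finset.mem_erase.2 ⟨h', Finset.mem_univ _⟩)]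

end Fin

theorem hasLong_of_D2 (hω : Symp ω) {n : ℕ} {M : Subgroup (Module.End F (T F k (n + 1)))ˣ}
    {hsq : ∀ c : F, ∃ d e, c = d * d + e * e} (hM : SlotsM ω M) (i : Fin (n + 1)) {p r : Fin n → (Fin k → F)}
    (h : D2 ω p r ∈ J2 hω M hsq i)
    (hp : ∀ m, p m ≠ 0) (m₀ : Fin n) (hm₀ : ∀ c : F, r m₀ ≠ c • p m₀)
    (hr : ∀ m, m ≠ m₀ → (∀ c : F, r m ≠ c • p m) ∨ r m = p m) : HasLong ω M := by
  have h9 := D2_one hω hM i h hp m₀ hr
  obtain ⟨a, ha⟩ : ∃ a : Fin k → F, a ≠ 0 := ⟨p m₀, hp m₀⟩
  obtain ⟨g', hg', e'⟩ := h9 a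
  refine ⟨i.insertNth a p, i.succAbove m₀, r m₀, ?_, ?_, g', hg', ?_⟩
  · intro m
    rcases Fin.eq_self_or_eq_succAbove i m with rfl | ⟨m', rfl⟩
    · rw [Fin.insertNth_apply_same]; exact ha
    · rw [Fin.insertNth_apply_succAbove]; exact hp m'
  · intro c
    rw [Fin.insertNth_apply_succAbove]
    exact hm₀ c
  · have e1 : Function.update (i.insertNth a p : Fin (n + 1) → (Fin k → F)) (i.succAbove m₀) (r m₀) =
        (i.insertNth a (Function.update p m₀ (r m₀)) : Fin (n + 1) → (Fin k → F)) := update_insertNth_ne _ _ _ _ _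
    have e2 : ∀ p q : Fin n → (Fin k → F), R1 ω (tp (i.insertNth a p : Fin (n + 1) → (Fin k → F)))
        (tp (i.insertNth a q : Fin (n + 1) → (Fin k → F))) =
        (DT hω i).map hω (rk ω a a) (pm' fun m => rk ω (p m) (q m)) := by
      intro p q
      rw [map_pm' hω, ← pm'_rk]
      congr 1
      funext m
      rcases Fin.eq_self_or_eq_succAbove i m with rfl | ⟨m', rfl⟩
      · rw [Fin.insertNth_apply_same, Fin.insertNth_apply_same, Fin.insertNth_apply_same]
      · rw [Fin.insertNth_apply_succAbove, Fin.insertNth_apply_succAbove, Fin.insertNth_apply_succAbove]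
    rw [e', e1, e2, e2, D2]
    congr 1
    have : pm' (fun m => rk ω (p m) (Function.update p m₀ (r m₀) m)) -
        pm' (fun m => rk ω (Function.update p m₀ (r m₀) m) (p m)) =
        pm' (fun m => rk ω (p m) (Function.update p m₀ (r m₀) m)) +
        (-1 : F) • pm' (fun m => rk ω (Function.update p m₀ (r m₀) m) (p m)) := by
      rw [neg_one_smul_end, sub_eq_add_neg]
    rw [this, TD.map_add_right, TD.map_smul_right, neg_one_smul_end, sub_eq_add_neg]

/-- From a pure element of full support with a `c` slot, or in dimension at least six. -/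
theorem hasLong_of_full (hω : Symp ω) {n : ℕ} (hn : Odd n) (hk : 4 ≤ k)
    {M : Subgroup (Module.End F (T F k (n + 1)))ˣ}
    {hsq : ∀ c : F, ∃ d e, c = d * d + e * e} (hM : SlotsM ω M) (i : Fin (n + 1))
    {x : Fin n → Module.End F (Fin k → F)} (hx : ∀ m, IsC ω (x m) ∨ IsN ω (x m)) (hxJ : pm' x ∈ J2 hω M hsq i)
    (hc : (∃ m, IsC ω (x m)) ∨ 6 ≤ k) : HasLong ω M := by
  obtain ⟨α, p, r, hα, hp, h3, h4, m₀, hm₀, hr⟩ : ∃ (α : Fin n → (Module.End F (Fin k → F))ˣ)
      (p r : Fin n → (Fin k → F)), (∀ m, IsoW ω (α m)) ∧ (∀ m, p m ≠ 0) ∧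
      (∀ m, x m * ((α m).1 * x m * ((α m)⁻¹).1) = rk ω (p m) (r m)) ∧
      (∀ m, ((α m).1 * x m * ((α m)⁻¹).1) * x m = (-1 : F) • rk ω (r m) (p m)) ∧
      ∃ m₀, (∀ c : F, r m₀ ≠ c • p m₀) ∧ ∀ m, m ≠ m₀ → (∀ c : F, r m ≠ c • p m) ∨ r m = p m := by
    rcases hc with ⟨m₀, hm₀⟩ | hk6
    · have hpair : ∀ m, ∃ (α : (Module.End F (Fin k → F))ˣ) (p r : Fin k → F), IsoW ω α ∧ p ≠ 0 ∧
          x m * (α.1 * x m * (α⁻¹).1) = rk ω p r ∧ (α.1 * x m * (α⁻¹).1) * x m = (-1 : F) • rk ω r p ∧
          (IsC ω (x m) → ∀ c : F, r ≠ c • p) ∧ ((∀ c : F, r ≠ c • p) ∨ r = p) := by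
        intro m
        by_cases hcm : IsC ω (x m)
        · obtain ⟨w, hw, e⟩ := hcm
          obtain ⟨α, w₂, hα, h1, h2, h3, h4⟩ := slot_c hω hw
          exact ⟨α, w, w₂, hα, hw, by rw [e, h3], by rw [e, h4], fun _ => h2, Or.inl h2⟩
        · rcases hx m with h | ⟨w, w', hww', hw, hw', e⟩
          · exact absurd h hcm
          obtain ⟨α, hα, h3, h4⟩ := slot_n hω hww' hw hw'
          exact ⟨α, w, w, hα, hw, by rw [e, h3], by rw [e, h4], fun h => absurd h hcm, Or.inr rfl⟩
      choose α p r hα hp h3 h4 h5 h6 using hpair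
      exact ⟨α, p, r, hα, hp, h3, h4, m₀, h5 m₀ hm₀, fun m _ => h6 m⟩
    · have hpair := fun m => slot_jordan hω hk6 (hx m)
      choose α p r hα hp hr h3 h4 using hpair
      refine ⟨α, p, r, hα, hp, h3, fun m => by rw [neg_one_smul_end]; exact h4 m, ⟨0, hn.pos⟩, hr _,
        fun m _ => Or.inl (hr m)⟩
  refine hasLong_of_D2 (hsq := hsq) hω hM i (p := p) (r := r) ?_ hp m₀ hm₀ hr
  have hinv := J2_inv (hsq := hsq) hω hM i
  have h5 := conj_all (ω := ω) {s | s ∈ J2 hω M hsq i} (fun j α hα s hs => hinv j α hα s hs) x hxJ α hα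
  have h6 := J2_jordan hω hM hk i hxJ h5
  rw [pm'_mul, pm'_mul] at h6
  have e1 : (fun m => x m * ((α m).1 * x m * ((α m)⁻¹).1)) = fun m => rk ω (p m) (r m) := funext h3
  have e2 : (fun m => (α m).1 * x m * ((α m)⁻¹).1 * x m) = fun m => (-1 : F) • rk ω (r m) (p m) := funext h4
  rw [e1, e2, pm'_smul_all, Finset.prod_const, Finset.card_univ, Fintype.card_fin, hn.neg_one_pow,
    neg_one_smul_end, ← sub_eq_add_neg] at h6
  exact h6

/-- **Case II, odd characteristic, `k ≥ 4`.** -/
theorem hasLong_of_caseII_odd (hω : Symp ω) (hsq : ∀ c : F, ∃ d e, c = d * d + e * e) (hk : 4 ≤ k)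
    (hke : Even k) {n : ℕ} (hn : Even n)
    {M : Subgroup (Module.End F (T F k (n + 2)))ˣ} (hM : SlotsM ω M) {i : Fin (n + 2)} {a : Fin k → F}
    (ha : a ≠ 0) {s : Module.End F (T F k (n + 1))} {g : (Module.End F (T F k (n + 2)))ˣ} (hg : g ∈ M)
    (e : g.1 = 1 + (DT hω i).cs a s) (hs : ¬ ∃ τ : F, s = τ • 1) : HasLong ω M := by
  have hn1 : Odd (n + 1) := hn.add_one
  have hsJ : s ∈ J2 hω M hsq i := by
    refine mem_J2_of hω hM ha hg ?_
    rw [e, TD.cs_eq_el, TD.el_eq_map _ hω]
  obtain ⟨m, e₁, he₁, he₁0, hI⟩ := exists_ImP hω (by omega) (J2_inv hω hM i) hsJ hs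
  obtain ⟨x, h3, h4, h5⟩ := extract hω (by omega) (n + 1) (J2 hω M hsq i) (J2_inv hω hM i) e₁ he₁ he₁0
  obtain ⟨x', h6, h7⟩ := full_supp2 hω hM (by omega) i h3 h5 (h4 m hI)
  by_cases hc : (∃ m, IsC ω (x' m)) ∨ 6 ≤ k
  · exact hasLong_of_full hω hn1 hk hM i h6 h7 hc
  push Not at hc
  obtain ⟨hc, hk6⟩ := hc
  have hk4 : k = 4 := by
    obtain ⟨r, hr⟩ := hke
    omega
  have hN : ∀ m, IsN ω (x' m) := fun m => (h6 m).resolve_left (hc m)
  choose w w' hww' hw hw' hx' using hN
  rcases Nat.eq_zero_or_pos n with rfl | hn0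
  · -- one slot
    refine hasLong_of_D2 (hsq := hsq) hω hM i (p := w) (r := w') ?_ hw 0 (hw' 0) (fun m hm => absurd (Subsingleton.elim m 0) hm)
    convert h7 using 1
    rw [D2]
    refine tp_ext fun xs => ?_
    rw [LinearMap.sub_apply, pm'_tp, pm'_tp, pm'_tp]
    funext b
    rw [Pi.sub_apply, tp_apply, tp_apply, tp_apply, Fin.prod_univ_succ, Fin.prod_univ_succ, Fin.prod_univ_succ,
      Fin.prod_univ_zero, Fin.prod_univ_zero, Fin.prod_univ_zero, mul_one, mul_one, mul_one, hx', LinearMap.sub_apply,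
      Pi.sub_apply]
  · -- at least three slots
    have h01 : (0 : Fin (n + 1)) ≠ Fin.last n := by
      intro h
      have := congrArg Fin.val h
      simp at this
      omega
    -- step 1: `c, …, c, 1`
    have hpair := fun m => slot_n hω (hww' m) (hw m) (hw' m)
    choose α hα h8 h9 using hpair
    obtain ⟨α₀, hα₀, h10⟩ := slot_four hω hk4 (hww' (Fin.last n)) (hw (Fin.last n)) (hw' (Fin.last n))
    set β : Fin (n + 1) → (Module.End F (Fin k → F))ˣ := Function.update α (Fin.last n) α₀ with hβ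
    have hβiso : ∀ m, IsoW ω (β m) := by
      intro m
      rw [hβ]
      by_cases h : m = Fin.last n
      · rw [h, Function.update_self]; exact hα₀
      · rw [Function.update_of_ne h]; exact hα m
    have hinv := J2_inv (hsq := hsq) hω hM i
    have h11 := conj_all (ω := ω) {s | s ∈ J2 hω M hsq i} (fun j α hα s hs => hinv j α hα s hs) x' h7 β hβiso
    have h12 := J2_jordan hω hM hk i h7 h11
    rw [pm'_mul, pm'_mul] at h12
    set x₁ : Fin (n + 1) → Module.End F (Fin k → F) :=
      Function.update (fun m => rk ω (w m) (w m)) (Fin.last n) 1 with hx₁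
    have h13 : pm' x₁ ∈ J2 hω M hsq i := by
      convert h12 using 1
      set A := x' (Fin.last n) * (α₀.1 * x' (Fin.last n) * (α₀⁻¹).1) with hA
      set B := (α₀.1 * x' (Fin.last n) * (α₀⁻¹).1) * x' (Fin.last n) with hB
      have hAB : A + B = 1 := by rw [hA, hB, hx', h10]
      have f1 : (fun m => x' m * ((β m).1 * x' m * ((β m)⁻¹).1)) =
          Function.update (fun m => rk ω (w m) (w m)) (Fin.last n) A := by
        funext m
        by_cases h : m = Fin.last n
        · rw [h, hβ, Function.update_self, Function.update_self]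
        · rw [hβ, Function.update_of_ne h, Function.update_of_ne h, hx', h8]
      have f2 : (fun m => ((β m).1 * x' m * ((β m)⁻¹).1) * x' m) =
          fun m => (Function.update (fun _ => (-1 : F)) (Fin.last n) 1 m) •
            Function.update (fun m => rk ω (w m) (w m)) (Fin.last n) B m := by
        funext m
        by_cases h : m = Fin.last n
        · rw [h, hβ, Function.update_self, Function.update_self, Function.update_self, one_smul]
        · rw [hβ, Function.update_of_ne h, Function.update_of_ne h, Function.update_of_ne h, hx', h9]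
      have f3 : ∏ m, Function.update (fun _ : Fin (n + 1) => (-1 : F)) (Fin.last n) 1 m = 1 := by
        rw [Finset.prod_update_of_mem (Finset.mem_univ _), one_mul, Finset.prod_const,
          Finset.card_sdiff_of_subset (Finset.subset_univ _), Finset.card_univ, Fintype.card_fin,
          Finset.card_singleton, Nat.add_sub_cancel, hn.neg_one_pow]
      rw [f1, f2, pm'_smul_all, f3, one_smul, ← pm'_add, hAB]
    -- step 2
    have hx₁j : x₁ 0 = rk ω (w 0) (w 0) := by rw [hx₁, Function.update_of_ne h01]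
    have hx₁l : x₁ (Fin.last n) = 1 := by rw [hx₁, Function.update_self]
    obtain ⟨b, hb⟩ := hω.exists_pair (hw 0)
    have hb' : ω b (w 0) = -1 := by rw [hω.skew, hb]
    have hpair := fun m => slot_c hω (hw m)
    choose γ w₂ hγ g1 g2 g3 g4 using hpair
    obtain ⟨y, hy1, hy2, hy3, hy4⟩ := core2 hω hM i h13 h01 hx₁l (by rw [hx₁j, rk_sq hω]) b γ hγ
    -- the data
    set r : Fin (n + 1) → (Fin k → F) := Function.update (Function.update w₂ 0 b) (Fin.last n) (w 0) with hr
    set p : Fin (n + 1) → (Fin k → F) := Function.update w (Fin.last n) (w 0) with hp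
    have hp0 : p 0 = w 0 := by rw [hp, Function.update_of_ne h01]
    have hr0 : r 0 = b := by rw [hr, Function.update_of_ne h01, Function.update_self]
    have q1 : (fun m => x₁ m * y m) = fun m => rk ω (p m) (r m) := by
      funext m
      by_cases h : m = Fin.last n
      · rw [h, hx₁l, hy2, one_mul, hx₁j, hp, hr, Function.update_self, Function.update_self]
      · by_cases h' : m = 0
        · rw [h', hx₁j, hy1, hp0, hr0, rk_mul_rk, hb, one_smul]
        · rw [hy3 m h' h, hx₁, Function.update_of_ne h, g3, hp, hr, Function.update_of_ne h,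
            Function.update_of_ne h, Function.update_of_ne h']
    have q2 : (fun m => y m * x₁ m) = fun m => (Function.update (fun _ => (-1 : F)) (Fin.last n) 1 m) •
        rk ω (r m) (p m) := by
      funext m
      by_cases h : m = Fin.last n
      · rw [h, hx₁l, hy2, mul_one, hx₁j, hp, hr, Function.update_self, Function.update_self, Function.update_self,
          one_smul]
      · by_cases h' : m = 0
        · rw [h', hx₁j, hy1, hp0, hr0, rk_mul_rk, hb', Function.update_of_ne h01]
        · rw [hy3 m h' h, hx₁, Function.update_of_ne h, g4, hp, hr, Function.update_of_ne h,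
            Function.update_of_ne h, Function.update_of_ne h, Function.update_of_ne h']
    have f3 : ∏ m, Function.update (fun _ : Fin (n + 1) => (-1 : F)) (Fin.last n) 1 m = 1 := by
      rw [Finset.prod_update_of_mem (Finset.mem_univ _), one_mul, Finset.prod_const,
        Finset.card_sdiff_of_subset (Finset.subset_univ _), Finset.card_univ, Fintype.card_fin,
        Finset.card_singleton, Nat.add_sub_cancel, hn.neg_one_pow]
    rw [q1, q2, pm'_smul_all, f3, one_smul] at hy4
    refine hasLong_of_D2 (hsq := hsq) hω hM i (p := p) (r := r) hy4 ?_ 0 ?_ ?_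
    · intro m
      by_cases h : m = Fin.last n
      · rw [h, hp, Function.update_self]; exact hw 0
      · rw [hp, Function.update_of_ne h]; exact hw m
    · rw [hp0, hr0]
      intro c hc
      rw [hc, map_smul, hω.alt, smul_zero] at hb
      exact zero_ne_one hb
    · intro m hm
      by_cases h : m = Fin.last n
      · right
        rw [h, hp, hr, Function.update_self, Function.update_self]
      · left
        rw [hp, hr, Function.update_of_ne h, Function.update_of_ne h, Function.update_of_ne hm]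
        exact g2 m

end Cfsg.Agent.H889.C7
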