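import Mathlib
import Cfsg.Agent.S0752
import Cfsg.Agent.H741.TransvGen
import Cfsg.Agent.H883.Root
import Cfsg.Agent.H889.C7.CaseIIb

/-!
The slot groups and the even slot permutations lie in `E Q`.
-/

set_option autoImplicit false
set_option linter.unusedSectionVars false
set_option linter.unusedVariables false
set_option linter.unusedSimpArgs false

namespace Cfsg.Agent.H889.C7

open Module Cfsg.Agent.H889 QuadraticMap
open Cfsg.Agent.LieClassical.OrthCore Cfsg.Agent.LieClassical.OrthTrans Cfsg.Agent.LieClassical.OrthFinite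

variable {F : Type*} [Field F] {k : ℕ} {ω : LinearMap.BilinForm F (Fin k → F)}

/-- Units of the endomorphism ring as linear automorphisms. -/
noncomputable def Θ (F : Type*) [Field F] (V : Type*) [AddCommGroup V] [Module F V] :
    (Module.End F V)ˣ ≃* (V ≃ₗ[F] V) :=
  LinearMap.GeneralLinearGroup.generalLinearEquiv F V

theorem Θ_apply {V : Type*} [AddCommGroup V] [Module F V] (g : (Module.End F V)ˣ) (v : V) :
    Θ F V g v = g.1 v := rfl

theorem Θ_symm_val {V : Type*} [AddCommGroup V] [Module F V] (g : V ≃ₗ[F] V) (v : V) :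
    ((Θ F V).symm g).1 v = g v := rfl

/-- Additive functions vanishing on all multiples of pure tensors vanish. -/
theorem add_zero_of_tp {n : ℕ} {A : Type*} [AddCommGroup A] (φ : T F k n →+ A)
    (h : ∀ (c : F) xs, φ (c • tp xs) = 0) (v : T F k n) : φ v = 0 := by
  have hv : v = ∑ a, v a • tp (fun i => Pi.single (a i) (1 : F)) := by
    funext b
    rw [Finset.sum_apply, Finset.sum_eq_single b]
    · rw [Pi.smul_apply, ← single_eq_tp, Pi.single_eq_same, smul_eq_mul, mul_one]
    · intro a _ hab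
      rw [Pi.smul_apply, ← single_eq_tp, Pi.single_eq_of_ne (Ne.symm hab), smul_zero]
    · intro h'; exact absurd (Finset.mem_univ _) h'
  rw [hv, map_sum]
  exact Finset.sum_eq_zero fun a _ => h _ _

/-- `Q` is the form of the tensor decomposition. -/
structure QForm (hω : Symp ω) {n : ℕ} (Q : QuadraticForm F (T F k n)) (c₀ : F) : Prop where
  ne : c₀ ≠ 0
  polar : ∀ x y, QuadraticMap.polar Q x y = c₀ * fT ω n x y
  pure : ∀ xs, Q (tp xs) = 0

section

variable {hω : Symp ω} {c₀ : F}

theorem fT_ιι (hω : Symp ω) {n : ℕ} (i : Fin (n + 1)) (w w' : Fin k → F) (b b' : T F k n) :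
    fT ω (n + 1) (ιT i w b) (ιT i w' b') = ω w w' * fT ω n b b' := (DT_forms hω i).ιι w w' b b'

theorem QForm.zero_ι {n : ℕ} {Q : QuadraticForm F (T F k (n + 1))} (h : QForm hω Q c₀) (i : Fin (n + 1))
    (w : Fin k → F) (b : T F k n) : Q (ιT i w b) = 0 := by
  let φ : T F k n →+ F :=
    { toFun := fun b => Q (ιT i w b)
      map_zero' := by rw [map_zero, QuadraticMap.map_zero]
      map_add' := fun b b' => by
        rw [map_add, QuadraticMap.map_add (⇑Q), h.polar, fT_ιι hω, hω.alt, zero_mul, mul_zero,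
          add_zero] }
  refine add_zero_of_tp φ (fun c xs => ?_) b
  change Q (ιT i w (c • tp xs)) = 0
  rw [map_smul, QuadraticMap.map_smul, ιT_tp, h.pure, smul_zero]

/-- A linear map preserving the form on pure tensors (polar form and values) preserves `Q`. -/
theorem QForm.preserve {n : ℕ} {Q : QuadraticForm F (T F k n)} (h : QForm hω Q c₀) {g : Module.End F (T F k n)}
    (h1 : ∀ xs ys, fT ω n (g (tp xs)) (g (tp ys)) = fT ω n (tp xs) (tp ys))
    (h2 : ∀ xs, ∃ ys, g (tp xs) = tp ys) (v : T F k n) : Q (g v) = Q v := by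
  have h3 : ∀ x y, fT ω n (g x) (g y) = fT ω n x y := by
    have : (fT ω n).compl₁₂ g g = fT ω n := bilin_ext fun xs ys => h1 xs ys
    intro x y
    exact LinearMap.congr_fun (LinearMap.congr_fun this x) y
  let φ : T F k n →+ F :=
    { toFun := fun v => Q (g v) - Q v
      map_zero' := by rw [map_zero, QuadraticMap.map_zero, sub_self]
      map_add' := fun b b' => by
        rw [map_add, QuadraticMap.map_add (⇑Q), QuadraticMap.map_add (⇑Q), h.polar, h.polar, h3]; ring }
  have h4 := add_zero_of_tp φ (fun c xs => ?_) v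
  · exact sub_eq_zero.1 h4
  · change Q (g (c • tp xs)) - Q (c • tp xs) = 0
    obtain ⟨ys, hys⟩ := h2 xs
    rw [map_smul, QuadraticMap.map_smul, QuadraticMap.map_smul, hys, h.pure, h.pure, sub_self]

theorem fT_pE {n : ℕ} (π : Equiv.Perm (Fin n)) (xs ys : Fin n → (Fin k → F)) :
    fT ω n (pE π (tp xs)) (pE π (tp ys)) = fT ω n (tp xs) (tp ys) := by
  rw [pE_tp, pE_tp, fT_tp, fT_tp]
  exact Equiv.prod_comp π.symm fun i => ω (xs i) (ys i)

theorem QForm.pU_mem_O {n : ℕ} {Q : QuadraticForm F (T F k n)} (h : QForm hω Q c₀) (π : Equiv.Perm (Fin n)) :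
    Θ F (T F k n) (pU π) ∈ O Q :=
  fun v => h.preserve (g := pE π) (fT_pE π) (fun xs => ⟨_, pE_tp π xs⟩) v

theorem alt_le_commutator {n : ℕ} {π : Equiv.Perm (Fin n)} (hπ : Equiv.Perm.sign π = 1) :
    π ∈ commutator (Equiv.Perm (Fin n)) := by
  have h1 : π ∈ alternatingGroup (Fin n) := by rwa [Equiv.Perm.mem_alternatingGroup]
  rw [← Equiv.Perm.closure_three_cycles_eq_alternating] at h1
  refine (Subgroup.closure_le _).2 ?_ h1
  intro g hg
  have hg3 : g.IsThreeCycle := hg
  have h2 : IsConj g (g ^ 2) := by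
    rw [Equiv.Perm.isConj_iff_cycleType_eq, hg3.cycleType, pow_two]
    have := hg3.isThreeCycle_sq
    exact this.cycleType.symm
  have h3 := mem_commutatorSet_of_isConj_sq _ h2
  rw [commutator_eq_closure]
  exact Subgroup.subset_closure h3

/-- The permutations as a homomorphism. -/
def pUhom (F : Type*) [Field F] (k n : ℕ) : Equiv.Perm (Fin n) →* (Module.End F (T F k n))ˣ where
  toFun := pU
  map_one' := Units.ext (LinearMap.ext fun v => rfl)
  map_mul' σ τ := Units.ext (LinearMap.ext fun v => rfl)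

theorem QForm.pU_mem_E {n : ℕ} {Q : QuadraticForm F (T F k n)} (h : QForm hω Q c₀) (hG : Good Q)
    {π : Equiv.Perm (Fin n)} (hπ : Equiv.Perm.sign π = 1) : Θ F (T F k n) (pU π) ∈ E Q := by
  rw [← hG.commutator_eq_E]
  have h1 := alt_le_commutator hπ
  let φ : Equiv.Perm (Fin n) →* (T F k n ≃ₗ[F] T F k n) := (Θ F (T F k n)).toMonoidHom.comp (pUhom F k n)
  have h2 : (commutator (Equiv.Perm (Fin n))).map φ ≤ ⁅O Q, O Q⁆ := by
    rw [commutator_def, Subgroup.map_commutator]
    apply Subgroup.commutator_mono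
    · rintro _ ⟨σ, -, rfl⟩
      exact h.pU_mem_O σ
    · rintro _ ⟨σ, -, rfl⟩
      exact h.pU_mem_O σ
  exact h2 ⟨π, h1, rfl⟩

/-! ### Slots -/

/-- `fT` is alternating when it is symmetric in characteristic two or `n` is odd. -/
theorem fT_alt (hω : Symp ω) {n : ℕ} (hn : Odd n ∨ (2 : F) = 0 ∧ 0 < n) : (fT ω n).IsAlt := by
  rcases hn with hn | ⟨h2, hn⟩
  · -- odd
    have hsk : ∀ x y, fT ω n x y = -fT ω n y x := fun x y => by
      rw [fT_symm hω, hn.neg_one_pow, neg_one_mul]
    intro v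
    let φ : T F k n →+ F :=
      { toFun := fun v => fT ω n v v
        map_zero' := by rw [map_zero]
        map_add' := fun b b' => by
          rw [map_add, map_add (fT ω n), LinearMap.add_apply, LinearMap.add_apply, hsk b' b]; ring }
    refine add_zero_of_tp φ (fun c xs => ?_) v
    change fT ω n (c • tp xs) (c • tp xs) = 0
    have h0 : ∏ i, ω (xs i) (xs i) = 0 := Finset.prod_eq_zero (Finset.mem_univ (⟨0, hn.pos⟩ : Fin n)) (hω.alt _)
    rw [map_smul, map_smul, LinearMap.smul_apply, fT_tp, h0, smul_zero, smul_zero]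
  · have h11 : (-1 : F) = 1 := by linear_combination -h2
    have hsk : ∀ x y, fT ω n x y = -fT ω n y x := fun x y => by
      rw [fT_symm hω, h11, one_pow, one_mul, ← neg_one_mul, h11, one_mul]
    intro v
    let φ : T F k n →+ F :=
      { toFun := fun v => fT ω n v v
        map_zero' := by rw [map_zero]
        map_add' := fun b b' => by
          rw [map_add, map_add (fT ω n), LinearMap.add_apply, LinearMap.add_apply, hsk b' b]; ring }
    refine add_zero_of_tp φ (fun c xs => ?_) v
    change fT ω n (c • tp xs) (c • tp xs) = 0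
    have h0 : ∏ i, ω (xs i) (xs i) = 0 := Finset.prod_eq_zero (Finset.mem_univ (⟨0, hn⟩ : Fin n)) (hω.alt _)
    rw [map_smul, map_smul, LinearMap.smul_apply, fT_tp, h0, smul_zero, smul_zero]

theorem QForm.tv_mem_E {n : ℕ} {Q : QuadraticForm F (T F k (n + 1))} (h : QForm hω Q c₀)
    (hn : Odd n ∨ (2 : F) = 0 ∧ 0 < n) (i : Fin (n + 1)) (c : F) (w : Fin k → F) :
    Θ F (T F k (n + 1)) (sU i (tv hω c w)) ∈ E Q := by
  classical
  obtain ⟨m, r, b, h1, h2, h3, h4⟩ := S0752.result (fT ω n) (fT_alt hω hn)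
  have hr : r = 0 := by
    by_contra hr
    have h5 := fT_ndl hω n _ (h4 ⟨0, Nat.pos_of_ne_zero hr⟩)
    exact b.ne_zero _ h5
  subst hr
  -- the expansion of a vector
  have hsk : ∀ x y, fT ω n x y = -fT ω n y x := by
    intro x y
    have h0 := fT_alt hω hn (x + y)
    rw [map_add, map_add (fT ω n), LinearMap.add_apply, LinearMap.add_apply, fT_alt hω hn x, fT_alt hω hn y, zero_add,
      add_zero] at h0
    exact eq_neg_of_add_eq_zero_right h0
  have hexp : ∀ x : T F k n, ∑ j : Fin m, (fT ω n (b (Sum.inl (Sum.inl j))) x • b (Sum.inl (Sum.inr j)) -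
      fT ω n (b (Sum.inl (Sum.inr j))) x • b (Sum.inl (Sum.inl j))) = x := by
    intro x
    rw [← sub_eq_zero]
    apply fT_ndr hω n
    intro y
    have : ∀ y, fT ω n y (∑ j : Fin m, (fT ω n (b (Sum.inl (Sum.inl j))) x • b (Sum.inl (Sum.inr j)) -
      fT ω n (b (Sum.inl (Sum.inr j))) x • b (Sum.inl (Sum.inl j))) - x) = 0 := by
      have hlin : (fT ω n).flip (∑ j : Fin m, (fT ω n (b (Sum.inl (Sum.inl j))) x • b (Sum.inl (Sum.inr j)) -
          fT ω n (b (Sum.inl (Sum.inr j))) x • b (Sum.inl (Sum.inl j))) - x) = 0 := by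
        refine b.ext fun s => ?_
        change fT ω n (b s) (_ - x) = 0
        rw [map_sub, map_sum]
        simp only [map_sub, map_smul, smul_eq_mul]
        rcases s with (s | s) | s
        · simp only [h1, h2, mul_zero, sub_zero, mul_ite, mul_one]
          rw [Finset.sum_ite_eq, if_pos (Finset.mem_univ _), sub_self]
        · have e1 : ∀ j, fT ω n (b (Sum.inl (Sum.inr s))) (b (Sum.inl (Sum.inl j))) = if j = s then -1 else 0 := by
            intro j
            rw [hsk, h1]
            split_ifs <;> simp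
          simp only [e1, h3, mul_zero, zero_sub, mul_ite, mul_neg, mul_one, Finset.sum_neg_distrib]
          rw [Finset.sum_ite_eq', if_pos (Finset.mem_univ _), neg_neg, sub_self]
        · exact s.elim0
      intro y
      exact LinearMap.congr_fun hlin y
    exact this y
  -- the elements `1 + ι s κ`
  have hadd : ∀ s s' : Module.End F (T F k n),
      (∃ g ∈ E Q, ∀ x, g x = x + ιT i w (s (κT ω i w x))) → (∃ g ∈ E Q, ∀ x, g x = x + ιT i w (s' (κT ω i w x))) →
      ∃ g ∈ E Q, ∀ x, g x = x + ιT i w ((s + s') (κT ω i w x)) := by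
    rintro s s' ⟨g, hg, e⟩ ⟨g', hg', e'⟩
    refine ⟨g * g', (E Q).mul_mem hg hg', fun x => ?_⟩
    have hκ : ∀ b, κT ω i w (ιT i w b) = 0 := fun b => by
      have := (DT hω i).κι w w b
      rwa [hω.alt, zero_smul] at this
    rw [LinearEquiv.mul_apply, e', e, map_add, hκ, add_zero, LinearMap.add_apply, map_add]
    abel
  have hroot : ∀ (d : F) (x y : T F k n), ∃ g ∈ E Q, ∀ v, g v = v + ιT i w
      ((d • (R1 ω y x - R1 ω x y)) (κT ω i w v)) := by
    intro d x y
    have hu : Q (ιT i w x) = 0 := h.zero_ι i w x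
    have hv : Q (ιT i w ((d * c₀⁻¹) • y)) = 0 := h.zero_ι i w _
    have huv : QuadraticMap.polar Q (ιT i w x) (ιT i w ((d * c₀⁻¹) • y)) = 0 := by
      rw [h.polar, fT_ιι hω, hω.alt, zero_mul, mul_zero]
    refine ⟨siegel Q _ _ hu huv, siegel_mem_E hu huv, fun v => ?_⟩
    rw [siegel_apply, hv, zero_mul, zero_smul, sub_zero, h.polar, h.polar, fT_adj, fT_adj]
    rw [LinearMap.smul_apply, LinearMap.sub_apply, R1_apply, R1_apply]
    have e1 : fT ω n ((d * c₀⁻¹) • y) (κT ω i w v) = (d * c₀⁻¹) * fT ω n y (κT ω i w v) := by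
      rw [map_smul, LinearMap.smul_apply, smul_eq_mul]
    have hc := h.ne
    have e2 : ∀ f : F, c₀ * f * (d * c₀⁻¹) = d * f := fun f => by field_simp
    have e3 : ∀ f : F, c₀ * (d * c₀⁻¹ * f) = d * f := fun f => by field_simp
    rw [e1]
    simp only [map_smul, map_sub, smul_sub, smul_smul, e2, e3]
    abel
  have hsum : ∀ S : Finset (Fin m), ∃ g ∈ E Q, ∀ v, g v = v + ιT i w
      ((∑ j ∈ S, c • (R1 ω (b (Sum.inl (Sum.inr j))) (b (Sum.inl (Sum.inl j))) -
        R1 ω (b (Sum.inl (Sum.inl j))) (b (Sum.inl (Sum.inr j))))) (κT ω i w v)) := by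
    intro S
    induction S using Finset.induction_on with
    | empty => exact ⟨1, (E Q).one_mem, fun v => by rw [Finset.sum_empty, LinearMap.zero_apply, map_zero, add_zero]; rfl⟩
    | insert j S hj ih =>
      rw [Finset.sum_insert hj]
      exact hadd _ _ (hroot _ _ _) ih
  obtain ⟨g, hg, e⟩ := hsum Finset.univ
  convert hg
  refine LinearEquiv.ext fun v => ?_
  rw [e]
  change sE i (tv hω c w).1 v = _
  rw [sE_tv_apply hω]
  congr 2
  rw [LinearMap.sum_apply]
  simp only [LinearMap.smul_apply, LinearMap.sub_apply, R1_apply]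
  rw [← Finset.smul_sum, hexp]

/-- The slot embedding as a homomorphism. -/
noncomputable def sUhom (F : Type*) [Field F] (k : ℕ) {n : ℕ} (i : Fin n) :
    (Module.End F (Fin k → F))ˣ →* (Module.End F (T F k n))ˣ where
  toFun := sU i
  map_one' := Units.ext (sE_one i)
  map_mul' x y := Units.ext (sE_mul i _ _)

theorem QForm.sU_mem_E {n : ℕ} {Q : QuadraticForm F (T F k (n + 1))} (h : QForm hω Q c₀)
    (hn : Odd n ∨ (2 : F) = 0 ∧ 0 < n) (i : Fin (n + 1)) {α : (Module.End F (Fin k → F))ˣ} (hα : IsoW ω α) :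
    Θ F (T F k (n + 1)) (sU i α) ∈ E Q := by
  have hA : LinearMap.BilinForm.IsAlt ω := hω.alt
  have hnd : LinearMap.BilinForm.Nondegenerate ω := by
    constructor
    · intro x hx
      exact hω.nd x hx
    · intro x hx
      exact hω.nd x fun y => by rw [hω.skew, hx, neg_zero]
  let φ : ((Fin k → F) ≃ₗ[F] (Fin k → F)) →* (T F k (n + 1) ≃ₗ[F] T F k (n + 1)) :=
    ((Θ F (T F k (n + 1))).toMonoidHom.comp (sUhom F k i)).comp (Θ F (Fin k → F)).symm.toMonoidHom
  have h1 : Θ F (Fin k → F) α ∈ (E Q).comap φ := by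
    refine H741.sp_le hA hnd ((E Q).comap φ) ?_ (fun x y => hα x y)
    intro a c
    rw [Subgroup.mem_comap]
    have e : (Θ F (Fin k → F)).symm (H741.stv hA a c) = tv hω (-c) a := by
      apply Units.ext
      refine LinearMap.ext fun x => ?_
      rw [Θ_symm_val, H741.stv_apply, tv_apply, hω.skew a x, neg_mul_neg]
    change Θ F (T F k (n + 1)) (sU i ((Θ F (Fin k → F)).symm (H741.stv hA a c))) ∈ E Q
    rw [e]
    exact h.tv_mem_E hn i _ _
  rw [Subgroup.mem_comap] at h1
  change Θ F (T F k (n + 1)) (sU i ((Θ F (Fin k → F)).symm (Θ F (Fin k → F) α))) ∈ E Q at h1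
  rwa [MulEquiv.symm_apply_apply] at h1

end

end Cfsg.Agent.H889.C7
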