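import Mathlib
import Cfsg.Agent.H874.Recog
import Cfsg.Agent.H889.C7.Contain
import Cfsg.Agent.H889.C7.CaseOddB

/-!
Assembly: maximality of the tensor wreath subgroup in standard coordinates.
-/

set_option autoImplicit false
set_option linter.unusedSectionVars false
set_option linter.unusedVariables false
set_option linter.unusedSimpArgs false

namespace Cfsg.Agent.H889.C7

open Module Cfsg.Agent.H889 QuadraticMap Cfsg.Geo
open Cfsg.Agent.LieClassical.OrthCore Cfsg.Agent.LieClassical.OrthTrans Cfsg.Agent.LieClassical.OrthFinite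
open scoped MatrixGroups Matrix

variable {F : Type*} [Field F] {k : ℕ} {ω : LinearMap.BilinForm F (Fin k → F)}

/-- `GL` as units of the endomorphism ring. -/
noncomputable def Φ (F : Type*) [Field F] (k n : ℕ) :
    Matrix.GeneralLinearGroup (Fin n → Fin k) F ≃* (Module.End F (T F k n))ˣ :=
  (glEquiv (Fin n → Fin k) F).trans (Θ F (T F k n)).symm

theorem Φ_apply {n : ℕ} (g : Matrix.GeneralLinearGroup (Fin n → Fin k) F) (v : T F k n) :
    (Φ F k n g).1 v = g.val *ᵥ v := rfl

theorem Φ_symm_mulVec {n : ℕ} (u : (Module.End F (T F k n))ˣ) (v : T F k n) :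
    ((Φ F k n).symm u).val *ᵥ v = u.1 v := by
  rw [← Φ_apply, MulEquiv.apply_symm_apply]

theorem Θ_Φ {n : ℕ} (g : Matrix.GeneralLinearGroup (Fin n → Fin k) F) :
    Θ F (T F k n) (Φ F k n g) = glEquiv (Fin n → Fin k) F g := rfl

/-- Slot elements are in the tensor wreath group. -/
theorem sU_mem_wreath {n : ℕ} (i : Fin n) (α : (Module.End F (Fin k → F))ˣ) :
    (Φ F k n).symm (sU i α) ∈ tensorWreathStandard k n F := by
  classical
  let A : Matrix.GeneralLinearGroup (Fin k) F := (glEquiv (Fin k) F).symm (Θ F (Fin k → F) α)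
  have hA : ∀ v, A.val *ᵥ v = α.1 v := by
    intro v
    have h1 : glEquiv (Fin k) F A v = Θ F (Fin k → F) α v := by
      rw [show A = (glEquiv (Fin k) F).symm (Θ F (Fin k → F) α) from rfl, MulEquiv.apply_symm_apply]
    exact h1
  have e : (Φ F k n).symm (sU i α) = pmGL (Function.update (fun _ => 1) i A) := by
    apply Units.ext
    refine matrix_ext_tp fun xs => ?_
    rw [Φ_symm_mulVec, coe_pmGL, pm_mulVec]
    change sE i α.1 (tp xs) = _
    rw [sE_tp]
    congr 1
    funext j
    by_cases h : j = i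
    · subst h
      rw [Function.update_self, Function.update_self, hA]
    · rw [Function.update_of_ne h, Function.update_of_ne h, Units.val_one, Matrix.one_mulVec]
  rw [e]
  exact pmGL_mem _

theorem pU_mem_wreath {n : ℕ} (π : Equiv.Perm (Fin n)) :
    (Φ F k n).symm (pU π) ∈ tensorWreathStandard k n F := by
  obtain ⟨g, hg, h⟩ := H874.exists_perm_mem (F := F) (k := k) π.symm
  have e : (Φ F k n).symm (pU π) = g := by
    apply Units.ext
    refine matrix_ext_tp fun xs => ?_
    rw [Φ_symm_mulVec, h]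
    exact pE_tp π xs
  rw [e]; exact hg

theorem two_common (hω : Symp ω) (u v : Fin k → F) (hu : u ≠ 0) (hv : v ≠ 0) : ∃ x, ω u x ≠ 0 ∧ ω v x ≠ 0 := by
  obtain ⟨z, h1, h2⟩ := exists_mid hω hu hv
  exact ⟨z, h1, by rw [hω.skew]; exact neg_ne_zero.2 h2⟩

/-- Recognition in terms of `Φ`. -/
theorem mem_wreath_of_roots (hω : Symp ω) (hk : 0 < k) {n : ℕ} (hn : 0 < n)
    (g : Matrix.GeneralLinearGroup (Fin n → Fin k) F)
    (h : ∀ (i : Fin n) (w : Fin k → F), w ≠ 0 → ∃ (j : Fin n) (u : Fin k → F) (c : F),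
      cj (Φ F k n g) (sE i (rk ω w w)) = c • sE j (rk ω u u)) : g ∈ tensorWreathStandard k n F := by
  have : NeZero k := ⟨hk.ne'⟩
  refine H874.recog_mem (ω := ω) hω.alt hω.nd (fun u v hu hv => two_common hω u v hu hv) hn g fun i w hw => ?_
  obtain ⟨j, u, c, e⟩ := h i w hw
  refine ⟨j, u, c, matrix_ext_tp fun xs => ?_⟩
  have hs : ∀ (j : Fin n) (u : Fin k → F) (v : T F k n), slot j (H874.eM ω u u) *ᵥ v = sE j (rk ω u u) v := by
    intro j u v
    rw [sE, Matrix.toLin'_apply]
    congr 2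
    apply H874.mat_ext
    intro x
    rw [H874.eM_mulVec, ← Matrix.toLin'_apply, Matrix.toLin'_toMatrix', rk_apply]
  have h1 := LinearMap.congr_fun e (tp xs)
  rw [Matrix.smul_mulVec, hs, ← Matrix.mulVec_mulVec, ← Matrix.mulVec_mulVec, hs, ← LinearMap.smul_apply, ← h1]
  rw [cj_apply, Module.End.mul_apply, Module.End.mul_apply, Φ_apply, ← map_inv, Φ_apply]

/-- The tensor power structure forces a proper subgroup. -/
theorem proper_std (hω : Symp ω) {n : ℕ} {c₀ : F} {Q : QuadraticForm F (T F k (n + 2))} (hQ : QForm hω Q c₀)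
    (hG : Good Q) (hk4 : 4 ≤ k ∨ 1 ≤ n) (hk : 0 < k) :
    ∃ g : Matrix.GeneralLinearGroup (Fin (n + 2) → Fin k) F, g ∈ omegaGL (⇑Q) ∧
      g ∉ tensorWreathStandard k (n + 2) F := by
  classical
  -- vectors
  obtain ⟨a, ha⟩ := exists_ne_vec (F := F) (k := k) hk
  obtain ⟨b, hb0, hb, hab⟩ : ∃ b : Fin k → F, b ≠ 0 ∧ (∀ c : F, b ≠ c • a) ∧ (ω a b = 0 ∨ 1 ≤ n) := by
    rcases hk4 with hk4 | hn
    · obtain ⟨b, h1, h2⟩ := exists_perp_avoid hω ![a] a (by omega)
      have h3 := h1 0
      simp only [Matrix.cons_val_zero, Matrix.cons_val_fin_one] at h3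
      exact ⟨b, fun h => h2 0 (by rw [h, zero_smul]), h2, Or.inl h3⟩
    · obtain ⟨b, hb⟩ := hω.exists_pair ha
      refine ⟨b, ?_, ?_, Or.inr hn⟩
      · rintro rfl
        simp at hb
      · intro c hc
        rw [hc, map_smul, hω.alt, smul_zero] at hb
        exact zero_ne_one hb
  have ha' : ∀ c : F, a ≠ c • b := by
    intro c hc
    have hc0 : c ≠ 0 := by
      rintro rfl
      rw [zero_smul] at hc
      exact ha hc
    exact hb c⁻¹ (by rw [hc, smul_smul, inv_mul_cancel₀ hc0, one_smul])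
  obtain ⟨φa, h1, h2⟩ := hω.exists_sep ha' trivial
  obtain ⟨φb, h3, h4⟩ := hω.exists_sep hb trivial
  -- the slots `0`, `1`
  have h01 : (0 : Fin (n + 2)) ≠ 1 := by simp
  -- pure vectors
  set X : Fin (n + 2) → (Fin k → F) := fun _ => a with hX
  set Y : Fin (n + 2) → (Fin k → F) := fun m => if m = 0 ∨ m = 1 then b else a with hY
  set U : Fin (n + 2) → (Fin k → F) := fun _ => φa with hU
  have e1 : fT ω (n + 2) (tp U) (tp X) = 1 := by
    rw [fT_tp]
    exact Finset.prod_eq_one fun m _ => h1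
  have e2 : fT ω (n + 2) (tp U) (tp Y) = 0 := by
    rw [fT_tp]
    refine Finset.prod_eq_zero (Finset.mem_univ 0) ?_
    rw [hU, hY]
    simp only [true_or, if_true]
    exact h2
  have e3 : fT ω (n + 2) (tp X) (tp Y) = 0 := by
    rw [fT_tp]
    rcases hab with h | h
    · refine Finset.prod_eq_zero (Finset.mem_univ 0) ?_
      rw [hX, hY]
      simp only [true_or, if_true]
      exact h
    · refine Finset.prod_eq_zero (Finset.mem_univ (Fin.last (n + 1))) ?_
      have hl0 : Fin.last (n + 1) ≠ 0 := by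
        intro h'
        have := congrArg Fin.val h'
        simp at this
      have hl1 : Fin.last (n + 1) ≠ 1 := by
        intro h'
        have := congrArg Fin.val h'
        simp at this
        omega
      rw [hX, hY]
      simp only [hl0, hl1, or_false, if_false]
      exact hω.alt a
  -- the root element
  have hu : Q (tp U) = 0 := hQ.pure _
  have hv : Q (c₀⁻¹ • tp Y) = 0 := by rw [QuadraticMap.map_smul, hQ.pure, smul_zero]
  have huv : QuadraticMap.polar Q (tp U) (c₀⁻¹ • tp Y) = 0 := by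
    rw [hQ.polar, map_smul, e2, smul_zero, mul_zero]
  refine ⟨(glEquiv _ F).symm (siegel Q _ _ hu huv), ?_, ?_⟩
  · rw [Cfsg.Agent.H883.Bridge.mem_omegaGL_iff hG, MulEquiv.apply_symm_apply]
    exact siegel_mem_E hu huv
  · intro hmem
    obtain ⟨gs, σ, hmon⟩ := exists_isMonomialOn hmem
    have h5 := hmon X
    have h6 : ((glEquiv (Fin (n + 2) → Fin k) F).symm (siegel Q _ _ hu huv)).val *ᵥ tp X = tp X + tp Y := by
      have : ((glEquiv (Fin (n + 2) → Fin k) F).symm (siegel Q _ _ hu huv)).val *ᵥ tp X =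
          siegel Q _ _ hu huv (tp X) := by
        rw [← glEquiv_apply, MulEquiv.apply_symm_apply]
      rw [this, siegel_apply, hQ.polar, hQ.polar, e1, hv, zero_mul, zero_smul, sub_zero, mul_one, smul_smul,
        mul_inv_cancel₀ hQ.ne, one_smul]
      have e4 : fT ω (n + 2) (c₀⁻¹ • tp Y) (tp X) = 0 := by
        rw [map_smul, LinearMap.smul_apply, fT_symm hω, e3, mul_zero, smul_zero]
      rw [e4, mul_zero, zero_smul, sub_zero]
    rw [h6] at h5
    set ys := fun i => (gs i).val *ᵥ X (σ i) with hys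
    have h5' : ∃ zs : Fin (n + 2) → (Fin k → F), tp X + tp Y = tp zs := ⟨_, h5⟩
    obtain ⟨zs, hzs⟩ := h5'
    -- contractions
    let S : (Fin k → F) → (Fin k → F) → (Fin (n + 2) → (Fin k → F)) := fun s s' =>
      Function.update (Function.update (fun _ => φa) 0 s) 1 s'
    have hS0 : ∀ s s', S s s' 0 = s := fun s s' => by
      change Function.update (Function.update (fun _ => φa) 0 s) 1 s' 0 = s
      rw [Function.update_of_ne h01, Function.update_self]
    have hS1 : ∀ s s', S s s' 1 = s' := fun s s' => by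
      change Function.update (Function.update (fun _ => φa) 0 s) 1 s' 1 = s'
      rw [Function.update_self]
    have hSm : ∀ s s' m, m ≠ 0 → m ≠ 1 → S s s' m = φa := fun s s' m h h' => by
      change Function.update (Function.update (fun _ => φa) 0 s) 1 s' m = φa
      rw [Function.update_of_ne h', Function.update_of_ne h]
    have hprod : ∀ s s' (Z : Fin (n + 2) → (Fin k → F)), fT ω (n + 2) (tp (S s s')) (tp Z) =
        ω s (Z 0) * ω s' (Z 1) * ∏ m : Fin n, ω φa (Z m.succ.succ) := by
      intro s s' Z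
      rw [fT_tp, Fin.prod_univ_succ, Fin.prod_univ_succ]
      have g1 : (Fin.succ 0 : Fin (n + 2)) = 1 := rfl
      have g2 : ∏ m : Fin n, ω (S s s' m.succ.succ) (Z m.succ.succ) = ∏ m : Fin n, ω φa (Z m.succ.succ) := by
        refine Finset.prod_congr rfl fun m _ => ?_
        rw [hSm]
        · exact Fin.succ_ne_zero _
        · intro h
          have := congrArg Fin.val h
          simp at this
      rw [g1, hS0, hS1, g2, mul_assoc]
    have hXY : ∀ s s', fT ω (n + 2) (tp (S s s')) (tp X + tp Y) = ω s a * ω s' a + ω s b * ω s' b := by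
      intro s s'
      rw [map_add, hprod, hprod]
      have g2 : ∀ m : Fin n, Y m.succ.succ = a := by
        intro m
        rw [hY]
        have g3 : ¬ (m.succ.succ = 0 ∨ m.succ.succ = (1 : Fin (n + 2))) := by
          rintro (h | h)
          · exact Fin.succ_ne_zero _ h
          · have := congrArg Fin.val h
            simp at this
        simp only [if_neg g3]
      have g4 : Y 0 = b := by rw [hY]; simp
      have g5 : Y 1 = b := by rw [hY]; simp
      simp only [g2, g4, g5, hX, h1, Finset.prod_const_one, mul_one]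
    have k1 := hXY φa φa
    have k2 := hXY φb φb
    have k3 := hXY φa φb
    rw [hzs, hprod] at k1 k2 k3
    rw [h1, h2, mul_one, mul_zero, add_zero] at k1
    rw [h3, h4, mul_one, mul_zero, zero_add] at k2
    rw [h1, h2, h4, mul_zero, zero_mul, add_zero] at k3
    set p := ∏ m : Fin n, ω φa (zs m.succ.succ)
    have k4 : (ω φa (zs 0) * ω φb (zs 1) * p) * (ω φb (zs 0) * ω φa (zs 1) * p) =
        (ω φa (zs 0) * ω φa (zs 1) * p) * (ω φb (zs 0) * ω φb (zs 1) * p) := by ring
    rw [k3, k1, k2, zero_mul, mul_one] at k4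
    exact zero_ne_one k4

/-- **Maximality in standard coordinates**, given the generation lemma and the case `k = 2`. -/
theorem maximal_std [Fintype F] (hω : Symp ω) {n : ℕ} {c₀ : F} {Q : QuadraticForm F (T F k (n + 2))}
    (hQ : QForm hω Q c₀) (hG : Good Q) (hK : KOK F k) (hke : Even k) (hk4 : 4 ≤ k ∨ 2 ≤ n)
    (hodd : (2 : F) ≠ 0 → Even n)
    (hgen : ∀ M' : Subgroup (Module.End F (T F k (n + 2)))ˣ, SlotsM ω M' → HasLong ω M' →
      E Q ≤ M'.map (LinearMap.GeneralLinearGroup.generalLinearEquiv F (T F k (n + 2))).toMonoidHom)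
    (htwo : k = 2 → (2 : F) ≠ 0 → ∀ M' : Subgroup (Module.End F (T F k (n + 2)))ˣ, SlotsM ω M' →
      (∀ g ∈ M', ∀ v w, fT ω (n + 2) (g.1 v) (g.1 w) = fT ω (n + 2) v w) →
      (∀ i : Fin (n + 2), ∀ a, a ≠ 0 → ∀ s : Module.End F (T F k (n + 1)), ∀ g ∈ M',
        g.1 = 1 + (DT hω i).cs a s → ∃ τ : F, s = τ • 1) ∨ HasLong ω M') :
    IsMaximalIn (omegaGL (⇑Q)) (tensorWreathStandard k (n + 2) F ⊓ omegaGL (⇑Q)) := by
  have hk0 := hK.pos
  have hn1 : Odd (n + 1) ∨ (2 : F) = 0 ∧ 0 < n + 1 := by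
    by_cases h2 : (2 : F) = 0
    · exact Or.inr ⟨h2, Nat.succ_pos n⟩
    · exact Or.inl (hodd h2).add_one
  refine ⟨?_, ?_⟩
  · obtain ⟨g, hg, hgW⟩ := proper_std hω hQ hG (by omega) hk0
    refine lt_of_le_of_ne inf_le_right fun h => hgW ?_
    rw [← h] at hg
    exact hg.1
  intro M hM1 hM2
  set M' : Subgroup (Module.End F (T F k (n + 2)))ˣ := M.map (Φ F k (n + 2)).toMonoidHom with hM'
  have hmem : ∀ u : (Module.End F (T F k (n + 2)))ˣ, Θ F _ u ∈ E Q →
      (Φ F k (n + 2)).symm u ∈ tensorWreathStandard k (n + 2) F → u ∈ M' := by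
    intro u h1 h2
    refine ⟨(Φ F k (n + 2)).symm u, hM1 ⟨h2, ?_⟩, (Φ F k (n + 2)).apply_symm_apply u⟩
    change (Φ F k (n + 2)).symm u ∈ omegaGL (⇑Q)
    rw [Cfsg.Agent.H883.Bridge.mem_omegaGL_iff hG, ← Θ_Φ, MulEquiv.apply_symm_apply]
    exact h1
  have hS : SlotsM ω M' := by
    constructor
    · intro i α hα
      exact hmem _ (hQ.sU_mem_E hn1 i hα) (sU_mem_wreath i α)
    · intro π hπ
      exact hmem _ (hQ.pU_mem_E hG hπ) (pU_mem_wreath π)
  have hiso : ∀ g ∈ M', ∀ v w, fT ω (n + 2) (g.1 v) (g.1 w) = fT ω (n + 2) v w := by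
    rintro _ ⟨g, hg, rfl⟩ v w
    have h1 : glEquiv _ F g ∈ O Q := E_le_O ((Cfsg.Agent.H883.Bridge.mem_omegaGL_iff hG g).1 (hM2 hg))
    have h2 : QuadraticMap.polar Q (g.val *ᵥ v) (g.val *ᵥ w) = QuadraticMap.polar Q v w := polar_map h1 v w
    rw [hQ.polar, hQ.polar] at h2
    exact mul_left_cancel₀ hQ.ne h2
  have hdich : (∀ i : Fin (n + 2), ∀ a, a ≠ 0 → ∀ s : Module.End F (T F k (n + 1)), ∀ g ∈ M',
        g.1 = 1 + (DT hω i).cs a s → ∃ τ : F, s = τ • 1) ∨ HasLong ω M' := by
    by_cases hI : ∀ i : Fin (n + 2), ∀ a, a ≠ 0 → ∀ s : Module.End F (T F k (n + 1)), ∀ g ∈ M',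
        g.1 = 1 + (DT hω i).cs a s → ∃ τ : F, s = τ • 1
    · exact Or.inl hI
    push Not at hI
    obtain ⟨i, a, ha, s, g, hg, e, hs⟩ := hI
    have hs' : ¬ ∃ τ : F, s = τ • 1 := fun ⟨τ, hτ⟩ => hs τ hτ
    by_cases h2 : (2 : F) = 0
    · right
      have hk6 : 6 ≤ k := by
        rcases hK with ⟨_, h, _⟩ | ⟨_, h⟩ | h
        · exact absurd h2 h
        · exact absurd h2 h
        · exact h
      have hsq : ∀ c : F, ∃ d, c = d * d := by
        intro c
        have hchar : CharP F 2 := by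
          have := CharTwo.of_one_ne_zero_of_two_eq_zero (one_ne_zero (α := F)) h2
          exact this
        obtain ⟨d, hd⟩ := FiniteField.isSquare_of_char_two (F := F) (ringChar.eq F 2) c
        exact ⟨d, hd⟩
      exact hasLong_of_caseII hω h2 hsq hk6 hS ha hg e hs'
    · by_cases hk2 : k = 2
      · exact htwo hk2 h2 M' hS hiso
      · right
        have hk4' : 4 ≤ k := by
          obtain ⟨r, hr⟩ := hke
          omega
        have hsq : ∀ c : F, ∃ d e, c = d * d + e * e := by
          intro c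
          obtain ⟨a, b, hab⟩ := FiniteField.exists_root_sum_quadratic (R := F) (f := Polynomial.X ^ 2)
            (g := Polynomial.X ^ 2 - Polynomial.C c)
            (Polynomial.degree_X_pow 2) (by rw [Polynomial.degree_X_pow_sub_C (by norm_num)]; rfl) (by
              have h3 : ringChar F ≠ 2 := by
                intro h3
                apply h2
                have := ringChar.Nat.cast_ringChar (R := F)
                rw [h3] at this
                exact_mod_cast this
              exact FiniteField.odd_card_of_char_ne_two h3)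
          refine ⟨a, b, ?_⟩
          rw [Polynomial.eval_pow, Polynomial.eval_X, Polynomial.eval_sub, Polynomial.eval_pow, Polynomial.eval_X,
            Polynomial.eval_C] at hab
          linear_combination -hab
        exact hasLong_of_caseII_odd hω hsq hk4' hke (hodd h2) hS ha hg e hs'
  rcases hdich with hI | hL
  · left
    refine le_antisymm (fun g hg => ⟨?_, hM2 hg⟩) hM1
    have hGood : GoodT hω (n + 1) M' := ⟨hiso, hS.sp, hI⟩
    refine mem_wreath_of_roots hω hk0 (Nat.succ_pos _) g fun i w hw => ?_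
    obtain ⟨j, u, c, _, _, h⟩ := norm_root hK hGood hS.al (g := Φ F k (n + 2) g) ⟨g, hg, rfl⟩ i hw
    exact ⟨j, u, c, h⟩
  · right
    refine le_antisymm hM2 fun g hg => ?_
    have h1 : glEquiv _ F g ∈ E Q := (Cfsg.Agent.H883.Bridge.mem_omegaGL_iff hG g).1 hg
    obtain ⟨_, ⟨g', hg', rfl⟩, h⟩ := hgen M' hS hL h1
    have h2 : Θ F _ (Φ F k (n + 2) g') = Θ F _ (Φ F k (n + 2) g) := h
    have h3 : g' = g := (Φ F k (n + 2)).injective ((Θ F _).injective h2)
    rw [← h3]
    exact hg'

end Cfsg.Agent.H889.C7
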