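import Mathlib
import Cfsg.Agent.H889.C7.Contain

/-!
Generation of `E Q` by the slot groups, the even permutations and one long root element.
-/

set_option autoImplicit false
set_option linter.unusedSectionVars false
set_option linter.unusedVariables false
set_option linter.unusedSimpArgs false

namespace Cfsg.Agent.H889.C7

open Module Cfsg.Agent.H889 QuadraticMap
open Cfsg.Agent.LieClassical.OrthCore Cfsg.Agent.LieClassical.OrthTrans Cfsg.Agent.LieClassical.OrthFinite
open Cfsg.Agent.H883.Root

variable {F : Type*} [Field F] {k : ℕ} {ω : LinearMap.BilinForm F (Fin k → F)}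

section Abs

variable {V : Type*} [AddCommGroup V] [Module F V] {Q : QuadraticForm F V} {H : Subgroup (V ≃ₗ[F] V)}

/-- All multiples. -/
def HasS (Q : QuadraticForm F V) (H : Subgroup (V ≃ₗ[F] V)) (x y : V) : Prop := ∀ c : F, Has Q H x (c • y)

/-- The submodule of second vectors. -/
def SS {x : V} (hx : Q x = 0) (H : Subgroup (V ≃ₗ[F] V)) : Submodule F V where
  carrier := {y | HasS Q H x y}
  zero_mem' := fun c => by rw [smul_zero]; exact has_zero hx
  add_mem' := fun h h' c => by rw [smul_add]; exact (h c).add (h' c)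
  smul_mem' := fun c y h c' => by rw [smul_smul]; exact h _

theorem mem_SS {x y : V} (hx : Q x = 0) : y ∈ SS hx H ↔ HasS Q H x y := Iff.rfl

/-- The commutator step. -/
theorem HasS.comm {x y z z'' : V} (h : HasS Q H x z) (h' : Has Q H y z'') (hz'' : Q z'' = 0)
    (hxz : QuadraticMap.polar Q z'' x = 0) (hxy : QuadraticMap.polar Q y x = 0)
    (hyz : QuadraticMap.polar Q y z = 0) (hne : QuadraticMap.polar Q z'' z ≠ 0) : HasS Q H x y := by
  intro c
  have h1 := h'.swap hz''
  have h2 := h (-(c * (QuadraticMap.polar Q z'' z)⁻¹))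
  have h3 := h1.comm' h2 hxz (by rw [polar_neg_left, hxy, neg_zero]) (by rw [QuadraticMap.map_neg, h'.sing])
    (by rw [polar_neg_left, polar_smul_right, hyz, smul_zero, neg_zero])
  rw [polar_smul_right, smul_eq_mul, neg_mul, mul_assoc, inv_mul_cancel₀ hne, mul_one, smul_neg, neg_smul,
    neg_neg] at h3
  exact h3

end Abs

section Iso

variable (hω : Symp ω)
include hω

/-- Transitivity on pairs of independent vectors with given product. -/
theorem exists_iso_pair' {w w' z z' : Fin k → F} (h : ω w w' = ω z z') (hw : w ≠ 0) (hw' : ∀ c : F, w' ≠ c • w)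
    (hz : z ≠ 0) (hz' : ∀ c : F, z' ≠ c • z) :
    ∃ α, IsoW ω α ∧ α.1 w = z ∧ α.1 w' = z' := by
  by_cases h0 : ω z z' = 0
  · exact exists_iso_pair hω (h.trans h0) hw hw' h0 hz hz'
  obtain ⟨α, hα, hαw⟩ := exists_iso_of_ne hω hw hz
  have e1 : ω z (α.1 w') = ω z z' := by rw [← hαw, hα, h, hαw]
  -- an isometry fixing `z` and mapping `α w'` to `z'`
  obtain ⟨β, hβ, hβz, hβw⟩ : ∃ β, IsoW ω β ∧ β.1 z = z ∧ β.1 (α.1 w') = z' := by
    by_cases h1 : ω (α.1 w') z' = 0
    · have h2 : ω (α.1 w') (α.1 w' + z) ≠ 0 := by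
        rw [map_add, hω.alt, zero_add, hω.skew, e1]
        exact neg_ne_zero.2 h0
      have h3 : ω (α.1 w' + z) z' ≠ 0 := by
        rw [map_add, LinearMap.add_apply, h1, zero_add]
        exact h0
      obtain ⟨β₁, b1, b2, b3⟩ := exists_tv hω h2
      obtain ⟨β₂, c1, c2, c3⟩ := exists_tv hω h3
      refine ⟨β₂ * β₁, c1.mul b1, ?_, ?_⟩
      · rw [mul_app, b3 z (by rw [map_add, hω.alt, add_zero]), c3 z (by rw [map_add, hω.alt, add_zero, e1])]
      · rw [mul_app, b2, c2]
    · obtain ⟨β, b1, b2, b3⟩ := exists_tv hω h1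
      exact ⟨β, b1, b3 z e1, b2⟩
  exact ⟨β * α, hβ.mul hα, by rw [mul_app, hαw, hβz], by rw [mul_app, hβw]⟩

theorem span_nonperp {a : Fin k → F} (ha : a ≠ 0) : Submodule.span F {y | ω a y ≠ 0} = ⊤ := by
  rw [eq_top_iff]
  intro y _
  obtain ⟨b, hb⟩ := hω.exists_pair ha
  have hb' : b ∈ {y | ω a y ≠ 0} := by
    change ω a b ≠ 0
    rw [hb]; exact one_ne_zero
  by_cases hy : ω a y = 0
  · have h1 : y + b ∈ {y | ω a y ≠ 0} := by
      change ω a (y + b) ≠ 0
      rw [map_add, hy, hb, zero_add]; exact one_ne_zero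
    have h2 := Submodule.sub_mem _ (Submodule.subset_span (R := F) h1) (Submodule.subset_span (R := F) hb')
    rwa [add_sub_cancel_right] at h2
  · exact Submodule.subset_span hy

end Iso

/-- Spanning by pure tensors. -/
theorem tp_span {n : ℕ} (N : Submodule F (T F k n)) (G : Fin n → Set (Fin k → F))
    (h : ∀ Y : Fin n → (Fin k → F), (∀ i, Y i ∈ G i) → tp Y ∈ N) (Y : Fin n → (Fin k → F))
    (hY : ∀ i, Y i ∈ Submodule.span F (G i)) : tp Y ∈ N := by
  classical
  have key : ∀ S : Finset (Fin n), ∀ Y : Fin n → (Fin k → F), (∀ i ∈ S, Y i ∈ Submodule.span F (G i)) →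
      (∀ i, i ∉ S → Y i ∈ G i) → tp Y ∈ N := by
    intro S
    induction S using Finset.induction_on with
    | empty => exact fun Y _ h2 => h Y fun i => h2 i (Finset.notMem_empty i)
    | insert i S hi ih =>
      intro Y h1 h2
      have h3 : ∀ y ∈ Submodule.span F (G i), tp (Function.update Y i y) ∈ N := by
        intro y hy
        induction hy using Submodule.span_induction with
        | mem y hy =>
          apply ih
          · intro i' hi'
            have hne : i' ≠ i := by
              rintro rfl
              exact hi hi'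
            rw [Function.update_of_ne hne]
            exact h1 i' (Finset.mem_insert_of_mem hi')
          · intro i' hi'
            by_cases h' : i' = i
            · subst h'; rw [Function.update_self]; exact hy
            · rw [Function.update_of_ne h']
              exact h2 i' (by rw [Finset.mem_insert, not_or]; exact ⟨h', hi'⟩)
        | zero =>
          have : tp (Function.update Y i (0 : Fin k → F)) = 0 := tp_eq_zero (i := i) (by rw [Function.update_self])
          rw [this]; exact N.zero_mem
        | add x y _ _ hx hy => rw [tp_update_add]; exact N.add_mem hx hy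
        | smul c x _ hx => rw [tp_update_smul]; exact N.smul_mem c hx
      have := h3 (Y i) (h1 i (Finset.mem_insert_self _ _))
      rwa [Function.update_eq_self] at this
  exact key Finset.univ Y (fun i _ => hY i) fun i hi => absurd (Finset.mem_univ i) hi

section Gen

variable {hω : Symp ω} {c₀ : F} {n : ℕ} {Q : QuadraticForm F (T F k n)} {H : Subgroup (T F k n ≃ₗ[F] T F k n)}

theorem QForm.polar_tp (hQ : QForm hω Q c₀) (X Y : Fin n → (Fin k → F)) :
    QuadraticMap.polar Q (tp X) (tp Y) = c₀ * ∏ i, ω (X i) (Y i) := by rw [hQ.polar, fT_tp]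

theorem QForm.polar_zero (hQ : QForm hω Q c₀) {X Y : Fin n → (Fin k → F)} (i : Fin n) (h : ω (X i) (Y i) = 0) :
    QuadraticMap.polar Q (tp X) (tp Y) = 0 := by
  rw [hQ.polar_tp, Finset.prod_eq_zero (Finset.mem_univ i) h, mul_zero]

theorem QForm.polar_ne (hQ : QForm hω Q c₀) {X Y : Fin n → (Fin k → F)} (h : ∀ i, ω (X i) (Y i) ≠ 0) :
    QuadraticMap.polar Q (tp X) (tp Y) ≠ 0 := by
  rw [hQ.polar_tp]
  exact mul_ne_zero hQ.ne (Finset.prod_ne_zero_iff.2 fun i _ => h i)

/-- Full at `tp X` once all `Y` with `Y m ⊥ X m` for some `m` are there. -/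
theorem full_of_perp (hQ : QForm hω Q c₀) {X : Fin n → (Fin k → F)} (hX : ∀ i, X i ≠ 0)
    (h : ∀ (m : Fin n) (Y : Fin n → (Fin k → F)), ω (X m) (Y m) = 0 → HasS Q H (tp X) (tp Y)) :
    Full Q H (tp X) := by
  classical
  have hx := hQ.pure X
  have hf : ∀ i, ∃ f, ω (X i) f = 1 := fun i => hω.exists_pair (hX i)
  choose f hf using hf
  set N := SS hx H with hN
  -- pure vectors
  have h1 : ∀ Y : Fin n → (Fin k → F), tp Y - (∏ i, ω (X i) (Y i)) • tp f ∈ N := by
    intro Y
    have key : ∀ S : Finset (Fin n), tp Y - (∏ i ∈ S, ω (X i) (Y i)) • tp (fun i => if i ∈ S then f i else Y i) ∈ N := by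
      intro S
      induction S using Finset.induction_on with
      | empty => simp
      | insert i S hi ih =>
        have h2 : ω (X i) (Y i - ω (X i) (Y i) • f i) = 0 := by
          rw [map_sub, map_smul, hf, smul_eq_mul, mul_one, sub_self]
        set Z : Fin n → (Fin k → F) := fun i => if i ∈ S then f i else Y i with hZ
        have hZi : Z i = Y i := by rw [hZ]; simp only [if_neg hi]
        have h3 : tp (Function.update Z i (Y i - ω (X i) (Y i) • f i)) ∈ N :=
          h i _ (by rw [Function.update_self]; exact h2)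
        have h4 : tp (Function.update Z i (Y i - ω (X i) (Y i) • f i)) =
            tp Z - ω (X i) (Y i) • tp (Function.update Z i (f i)) := by
          have e : Y i - ω (X i) (Y i) • f i = Y i + (-ω (X i) (Y i)) • f i := by rw [neg_smul, sub_eq_add_neg]
          rw [e, tp_update_add, tp_update_smul, neg_smul, ← sub_eq_add_neg]
          congr 2
          rw [← hZi, Function.update_eq_self]
        have h5 : Function.update Z i (f i) = fun i' => if i' ∈ insert i S then f i' else Y i' := by
          funext i'
          by_cases h' : i' = i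
          · subst h'
            rw [Function.update_self, if_pos (Finset.mem_insert_self _ _)]
          · rw [Function.update_of_ne h', hZ]
            simp only [Finset.mem_insert, h', false_or]
        rw [h4, h5] at h3
        rw [Finset.prod_insert hi]
        have h6 := N.add_mem ih (N.smul_mem (∏ i ∈ S, ω (X i) (Y i)) h3)
        have e : tp Y - (ω (X i) (Y i) * ∏ i ∈ S, ω (X i) (Y i)) • tp (fun i' => if i' ∈ insert i S then f i' else Y i') =
            tp Y - (∏ i ∈ S, ω (X i) (Y i)) • tp Z + (∏ i ∈ S, ω (X i) (Y i)) •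
              (tp Z - ω (X i) (Y i) • tp (fun i' => if i' ∈ insert i S then f i' else Y i')) := by
          rw [smul_sub, smul_smul, mul_comm (ω (X i) (Y i))]
          abel
        rw [e]
        exact h6
    have h2 := key Finset.univ
    simpa using h2
  have h2 : N.mkQ ∘ₗ (LinearMap.id - (fT ω n (tp X)).smulRight (tp f)) = 0 := by
    refine tp_ext fun Y => ?_
    rw [LinearMap.comp_apply, LinearMap.zero_apply, Submodule.mkQ_apply, Submodule.Quotient.mk_eq_zero]
    have := h1 Y
    rw [← fT_tp] at this
    exact this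
  refine ⟨hx, fun w hw => ?_⟩
  have h3 := LinearMap.congr_fun h2 w
  rw [LinearMap.comp_apply, LinearMap.zero_apply, Submodule.mkQ_apply, Submodule.Quotient.mk_eq_zero] at h3
  have h4 : fT ω n (tp X) w = 0 := by
    have := hQ.polar (tp X) w
    rw [hw] at this
    exact (mul_eq_zero.1 this.symm).resolve_left hQ.ne
  have h5 : (LinearMap.id - (fT ω n (tp X)).smulRight (tp f) : T F k n →ₗ[F] T F k n) w = w := by
    rw [LinearMap.sub_apply, LinearMap.smulRight_apply, h4, zero_smul, sub_zero]; rfl
  rw [h5] at h3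
  have h6 : Has Q H (tp X) ((1 : F) • w) := h3 1
  rwa [one_smul] at h6

end Gen

end Cfsg.Agent.H889.C7
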