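import Mathlib
import Cfsg.Agent.H889.C7.Gen

/-!
Generation of `E Q`: the main argument.
-/

set_option autoImplicit false
set_option linter.unusedSectionVars false
set_option linter.unusedVariables false
set_option linter.unusedSimpArgs false

namespace Cfsg.Agent.H889.C7

open Module Cfsg.Agent.H889 QuadraticMap
open Cfsg.Agent.LieClassical.OrthCore Cfsg.Agent.LieClassical.OrthTrans Cfsg.Agent.LieClassical.OrthFinite
open Cfsg.Agent.H883.Root

variable {F : Type*} [Field F] {k : ℕ} {ω : LinearMap.BilinForm F (Fin k → F)}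

section

variable {hω : Symp ω} {c₀ : F} {n : ℕ} {Q : QuadraticForm F (T F k (n + 1))}
  {M : Subgroup (Module.End F (T F k (n + 1)))ˣ}

/-- The image of `M`. -/
noncomputable abbrev Im (M : Subgroup (Module.End F (T F k (n + 1)))ˣ) : Subgroup (T F k (n + 1) ≃ₗ[F] T F k (n + 1)) :=
  M.map (LinearMap.GeneralLinearGroup.generalLinearEquiv F (T F k (n + 1))).toMonoidHom

theorem slot_map (hQ : QForm hω Q c₀) (hM : SlotsM ω M) {X Y : Fin (n + 1) → (Fin k → F)}
    (h : Has Q (Im M) (tp X) (tp Y)) (i : Fin (n + 1)) {α : (Module.End F (Fin k → F))ˣ} (hα : IsoW ω α) :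
    Has Q (Im M) (tp (Function.update X i (α.1 (X i)))) (tp (Function.update Y i (α.1 (Y i)))) := by
  have hO : Θ F (T F k (n + 1)) (sU i α) ∈ O Q := by
    refine fun v => hQ.preserve (g := sE i α.1) ?_ (fun xs => ⟨_, sE_tp i _ xs⟩) v
    intro xs ys
    rw [sE_tp, sE_tp, fT_tp, fT_tp]
    refine Finset.prod_congr rfl fun m _ => ?_
    by_cases h' : m = i
    · subst h'
      rw [Function.update_self, Function.update_self, hα]
    · rw [Function.update_of_ne h', Function.update_of_ne h']
  have h1 := h.map hO ⟨sU i α, hM.sp i α hα, rfl⟩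
  have e : ∀ Z : Fin (n + 1) → (Fin k → F), Θ F (T F k (n + 1)) (sU i α) (tp Z) =
      tp (Function.update Z i (α.1 (Z i))) := fun Z => sE_tp i _ Z
  rwa [e, e] at h1

theorem slots_map (hQ : QForm hω Q c₀) (hM : SlotsM ω M) {X Y : Fin (n + 1) → (Fin k → F)}
    (h : Has Q (Im M) (tp X) (tp Y)) {α : Fin (n + 1) → (Module.End F (Fin k → F))ˣ} (hα : ∀ i, IsoW ω (α i)) :
    Has Q (Im M) (tp fun i => (α i).1 (X i)) (tp fun i => (α i).1 (Y i)) := by
  classical
  have key : ∀ S : Finset (Fin (n + 1)), Has Q (Im M) (tp fun i => if i ∈ S then (α i).1 (X i) else X i)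
      (tp fun i => if i ∈ S then (α i).1 (Y i) else Y i) := by
    intro S
    induction S using Finset.induction_on with
    | empty => simpa using h
    | insert i S hi ih =>
      have h1 := slot_map hQ hM ih i (hα i)
      have e : ∀ Z : Fin (n + 1) → (Fin k → F), Function.update (fun i => if i ∈ S then (α i).1 (Z i) else Z i) i
          ((α i).1 ((fun i => if i ∈ S then (α i).1 (Z i) else Z i) i)) =
          fun i' => if i' ∈ insert i S then (α i').1 (Z i') else Z i' := by
        intro Z
        funext i'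
        by_cases h' : i' = i
        · subst h'
          rw [Function.update_self, if_pos (Finset.mem_insert_self _ _)]
          simp only [if_neg hi]
        · rw [Function.update_of_ne h']
          simp only [Finset.mem_insert, h', false_or]
      rw [e, e] at h1
      exact h1
  simpa using key Finset.univ

theorem perm_map (hQ : QForm hω Q c₀) (hM : SlotsM ω M) {X Y : Fin (n + 1) → (Fin k → F)} {c : F}
    (h : Has Q (Im M) (tp X) (c • tp Y)) {π : Equiv.Perm (Fin (n + 1))} (hπ : Equiv.Perm.sign π = 1) :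
    Has Q (Im M) (tp fun i => X (π.symm i)) (c • tp fun i => Y (π.symm i)) := by
  have h1 := h.map (hQ.pU_mem_O π) ⟨pU π, hM.al π hπ, rfl⟩
  have e : ∀ Z : Fin (n + 1) → (Fin k → F), Θ F (T F k (n + 1)) (pU π) (tp Z) = tp fun i => Z (π.symm i) :=
    fun Z => pE_tp π Z
  rwa [map_smul, e, e] at h1

/-- All adjacent pairs in slot `i`. -/
def Adj (ω : LinearMap.BilinForm F (Fin k → F)) (Q : QuadraticForm F (T F k (n + 1)))
    (H : Subgroup (T F k (n + 1) ≃ₗ[F] T F k (n + 1))) (i : Fin (n + 1)) : Prop :=
  ∀ X : Fin (n + 1) → (Fin k → F), (∀ m, X m ≠ 0) → ∀ v, HasS Q H (tp X) (tp (Function.update X i v))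

/-- All isotropic adjacent pairs in slot `i`. -/
def Adj0 (ω : LinearMap.BilinForm F (Fin k → F)) (Q : QuadraticForm F (T F k (n + 1)))
    (H : Subgroup (T F k (n + 1) ≃ₗ[F] T F k (n + 1))) (i : Fin (n + 1)) : Prop :=
  ∀ X : Fin (n + 1) → (Fin k → F), (∀ m, X m ≠ 0) → ∀ v, ω (X i) v = 0 → HasS Q H (tp X) (tp (Function.update X i v))

/-- From the long root element. -/
theorem exists_adj (hQ : QForm hω Q c₀) (hn : 0 < n) (hsq : ∀ c : F, ∃ d e, c = d * d + e * e)
    (hM : SlotsM ω M) (hL : HasLong ω M) : ∃ j, Adj0 ω Q (Im M) j ∧ (k = 2 → Adj ω Q (Im M) j) := by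
  classical
  obtain ⟨P, j, u₀, hP, hu₀, g, hg, e⟩ := hL
  refine ⟨j, ?_⟩
  set u := (-c₀⁻¹) • u₀ with hu
  have hc : -c₀⁻¹ ≠ 0 := neg_ne_zero.2 (inv_ne_zero hQ.ne)
  have hu' : ∀ c : F, u ≠ c • P j := by
    intro c hc'
    apply hu₀ ((-c₀⁻¹)⁻¹ * c)
    rw [mul_smul, ← hc', hu, inv_smul_smul₀ hc]
  obtain ⟨l, hlj⟩ : ∃ l : Fin (n + 1), l ≠ j := by
    by_cases h : j = 0
    · refine ⟨Fin.last n, fun h' => ?_⟩
      rw [h] at h'
      have := congrArg Fin.val h'
      simp at this
      omega
    · exact ⟨0, Ne.symm h⟩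
  have hpure := hQ.pure
  -- the first pair
  have h0 : Has Q (Im M) (tp P) (tp (Function.update P j u)) := by
    have hp : QuadraticMap.polar Q (tp P) (tp (Function.update P j u)) = 0 := by
      refine hQ.polar_zero l ?_
      rw [Function.update_of_ne hlj, hω.alt]
    refine ⟨hpure _, hp, ⟨g, hg, ?_⟩⟩
    refine LinearEquiv.ext fun v => ?_
    rw [siegel_apply, hpure, zero_mul, zero_smul, sub_zero, hQ.polar, hQ.polar, hu, tp_update_smul]
    change g.1 v = _
    rw [e, LinearMap.add_apply, Module.End.one_apply, LinearMap.sub_apply, R1_apply, R1_apply, map_smul,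
      LinearMap.smul_apply, smul_smul, smul_eq_mul]
    have e1 : ∀ f : F, c₀ * f * -c₀⁻¹ = -f := fun f => by
      have := hQ.ne
      field_simp
    have e2 : ∀ f : F, c₀ * (-c₀⁻¹ * f) = -f := fun f => by
      have := hQ.ne
      field_simp
    rw [e1, e2, neg_smul, neg_smul]
    abel
  set d := ω (P j) u with hd
  -- all pairs with the same product
  have hA0 : ∀ X : Fin (n + 1) → (Fin k → F), (∀ m, X m ≠ 0) → ∀ v, ω (X j) v = d → (∀ c : F, v ≠ c • X j) →
      Has Q (Im M) (tp X) (tp (Function.update X j v)) := by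
    intro X hX v hv hv'
    obtain ⟨β, hβ, hβP, hβu⟩ := exists_iso_pair' hω (hd.symm.trans hv.symm) (hP j) hu' (hX j) hv'
    have hm : ∀ m, ∃ α : (Module.End F (Fin k → F))ˣ, IsoW ω α ∧ α.1 (P m) = X m := fun m =>
      exists_iso_of_ne hω (hP m) (hX m)
    choose α hα hαP using hm
    set γ : Fin (n + 1) → (Module.End F (Fin k → F))ˣ := Function.update α j β with hγ
    have hγi : ∀ m, IsoW ω (γ m) := by
      intro m
      by_cases h : m = j
      · rw [h, hγ, Function.update_self]; exact hβ
      · rw [hγ, Function.update_of_ne h]; exact hα m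
    have h1 := slots_map hQ hM h0 hγi
    have e1 : (fun i => (γ i).1 (P i)) = X := by
      funext m
      by_cases h : m = j
      · rw [h, hγ, Function.update_self]; exact hβP
      · rw [hγ, Function.update_of_ne h]; exact hαP m
    have e2 : (fun i => (γ i).1 (Function.update P j u i)) = Function.update X j v := by
      funext m
      by_cases h : m = j
      · rw [h, hγ, Function.update_self, Function.update_self, Function.update_self]; exact hβu
      · rw [hγ, Function.update_of_ne h, Function.update_of_ne h, Function.update_of_ne h]; exact hαP m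
    rwa [e1, e2] at h1
  have hself : ∀ X : Fin (n + 1) → (Fin k → F), ∀ c : F, Has Q (Im M) (tp X) (tp (Function.update X j (c • X j))) := by
    intro X c
    rw [tp_update_smul, Function.update_eq_self]
    exact has_self (hpure X) c
  -- isotropic pairs
  have hiso : ∀ X : Fin (n + 1) → (Fin k → F), (∀ m, X m ≠ 0) → ∀ v, ω (X j) v = 0 →
      Has Q (Im M) (tp X) (tp (Function.update X j v)) := by
    intro X hX v hv
    by_cases hv' : ∃ c : F, v = c • X j
    · obtain ⟨c, rfl⟩ := hv'
      exact hself X c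
    push Not at hv'
    by_cases hd0 : d = 0
    · exact hA0 X hX v (hv.trans hd0.symm) hv'
    · obtain ⟨b, hb⟩ := hω.exists_pair (hX j)
      have hb1 : ω (X j) (d • b) = d := by rw [map_smul, hb, smul_eq_mul, mul_one]
      have hne : ∀ y, ω (X j) y = d → ∀ c : F, y ≠ c • X j := by
        intro y hy c hc'
        rw [hc', map_smul, hω.alt, smul_zero] at hy
        exact hd0 hy.symm
      have h1 := hA0 X hX _ hb1 (hne _ hb1)
      have hb2 : ω (X j) (v + d • b) = d := by rw [map_add, hv, hb1, zero_add]
      have h2 := hA0 X hX _ hb2 (hne _ hb2)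
      rw [tp_update_add] at h2
      exact h2.of_add_right h1
  have hisoS : Adj0 ω Q (Im M) j := by
    intro X hX v hv c
    rw [← tp_update_smul]
    exact hiso X hX _ (by rw [map_smul, hv, smul_zero])
  refine ⟨hisoS, fun hk => ?_⟩
  have hd0 : d ≠ 0 := by
    intro h
    obtain ⟨c, hc'⟩ := perp_two hω hk (hP j) h
    exact hu' c hc'
  have hne : ∀ X : Fin (n + 1) → (Fin k → F), ∀ y, ω (X j) y = d → ∀ c : F, y ≠ c • X j := by
    intro X y hy c hc'
    rw [hc', map_smul, hω.alt, smul_zero] at hy
    exact hd0 hy.symm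
  -- squares
  have hsqr : ∀ X : Fin (n + 1) → (Fin k → F), (∀ m, X m ≠ 0) → ∀ v, ω (X j) v = d → ∀ a : F,
      Has Q (Im M) (tp X) ((a * a) • tp (Function.update X j v)) := by
    intro X hX v hv a
    by_cases ha : a = 0
    · rw [ha, mul_zero, zero_smul]
      exact has_zero (hpure X)
    have h1 := hA0 (Function.update X l (a • X l)) (fun m => by
      by_cases h : m = l
      · rw [h, Function.update_self]; exact smul_ne_zero ha (hX l)
      · rw [Function.update_of_ne h]; exact hX m) v (by rw [Function.update_of_ne (Ne.symm hlj)]; exact hv)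
      (by rw [Function.update_of_ne (Ne.symm hlj)]; exact hne X v hv)
    rw [Function.update_comm hlj, tp_update_smul, tp_update_smul, Function.update_eq_self] at h1
    have e2 : Function.update (Function.update X j v) l (X l) = Function.update X j v := by
      rw [← Function.update_of_ne hlj v X, Function.update_eq_self]
    rw [e2] at h1
    have hp : QuadraticMap.polar Q (tp X) (a • tp (Function.update X j v)) = 0 := by
      rw [polar_smul_right, hQ.polar_zero l (by rw [Function.update_of_ne hlj, hω.alt]), smul_zero]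
    have h3 := h1.smul_right (hpure X) hp
    rwa [smul_smul] at h3
  intro X hX v c
  obtain ⟨b, hb⟩ := hω.exists_pair (hX j)
  have hb1 : ω (X j) (d • b) = d := by rw [map_smul, hb, smul_eq_mul, mul_one]
  set f := ω (X j) v * d⁻¹ with hf
  have hy : ω (X j) (v - f • (d • b)) = 0 := by
    rw [map_sub, map_smul, hb1, smul_eq_mul, hf, inv_mul_cancel_right₀ hd0, sub_self]
  obtain ⟨s, t, hst⟩ := hsq (c * f)
  have h1 := (hsqr X hX _ hb1 s).add (hsqr X hX _ hb1 t)
  rw [← add_smul, ← hst] at h1
  have h2 := hisoS X hX _ hy c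
  have h3 := h1.add h2
  have e3 : (c * f) • tp (Function.update X j (d • b)) + c • tp (Function.update X j (v - f • (d • b))) =
      c • tp (Function.update X j v) := by
    have e4 : v = (v - f • (d • b)) + f • (d • b) := by abel
    conv_rhs => rw [e4, tp_update_add, tp_update_smul X j f (d • b)]
    rw [smul_add, mul_smul c f]
    exact add_comm _ _
  rwa [e3] at h3

/-- `Y j = X j` (`k ≥ 4`). -/
theorem stepA (hQ : QForm hω Q c₀) (hk : 4 ≤ k) (hn : 0 < n) {j : Fin (n + 1)} (hA : Adj0 ω Q (Im M) j)
    {X : Fin (n + 1) → (Fin k → F)} (hX : ∀ m, X m ≠ 0) {Y : Fin (n + 1) → (Fin k → F)} (hY : Y j = X j) :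
    HasS Q (Im M) (tp X) (tp Y) := by
  classical
  have hpure := hQ.pure
  obtain ⟨l, hlj⟩ : ∃ l : Fin (n + 1), l ≠ j := by
    by_cases h : j = 0
    · refine ⟨Fin.last n, fun h' => ?_⟩
      rw [h] at h'
      have := congrArg Fin.val h'
      simp at this
      omega
    · exact ⟨0, Ne.symm h⟩
  obtain ⟨z, hz, hz'⟩ := exists_perp_avoid hω ![X j] (X j) (by omega)
  have hz0 := hz 0
  simp only [Matrix.cons_val_zero, Matrix.cons_val_fin_one] at hz0
  obtain ⟨z', h1, h2⟩ := hω.exists_sep hz' trivial
  have h2' : ω (X j) z' = 0 := by rw [hω.skew, h2, neg_zero]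
  have main : ∀ Y : Fin (n + 1) → (Fin k → F), (∀ i, Y i ∈ (Function.update (fun i => {y | ω (X i) y ≠ 0}) j {X j} : Fin (n + 1) → Set (Fin k → F)) i) →
      tp Y ∈ SS (hpure X) (Im M) := by
    intro Y hY
    have hYj : Y j = X j := by
      have := hY j
      rw [Function.update_self] at this
      exact this
    have hYi : ∀ i, i ≠ j → ω (X i) (Y i) ≠ 0 := by
      intro i hi
      have := hY i
      rw [Function.update_of_ne hi] at this
      exact this
    have hYne : ∀ i, Y i ≠ 0 := by
      intro i h
      by_cases hi : i = j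
      · rw [hi, hYj] at h; exact hX j h
      · exact hYi i hi (by rw [h, map_zero])
    rw [mem_SS]
    have b1 := hA X hX z hz0
    have b2 := hA Y hYne z' (by rw [hYj]; exact h2') 1
    rw [one_smul] at b2
    refine HasS.comm b1 b2 (hpure _) ?_ ?_ ?_ ?_
    · refine hQ.polar_zero j ?_
      rw [Function.update_self]; exact h2
    · refine hQ.polar_zero j ?_
      rw [hYj, hω.alt]
    · refine hQ.polar_zero j ?_
      rw [hYj, Function.update_self, hz0]
    · refine hQ.polar_ne fun i => ?_
      by_cases hi : i = j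
      · rw [hi, Function.update_self, Function.update_self, h1]; exact one_ne_zero
      · rw [Function.update_of_ne hi, Function.update_of_ne hi, hω.skew]
        exact neg_ne_zero.2 (hYi i hi)
  refine tp_span (SS (hpure X) (Im M)) _ main Y fun i => ?_
  by_cases hi : i = j
  · rw [hi, Function.update_self, hY]
    exact Submodule.subset_span rfl
  · rw [Function.update_of_ne hi, span_nonperp hω (hX i)]
    trivial

theorem stepB (hQ : QForm hω Q c₀) (hk : 4 ≤ k) (hA : ∀ j, Adj ω Q (Im M) j)
    {X : Fin (n + 1) → (Fin k → F)} (hX : ∀ m, X m ≠ 0) (j : Fin (n + 1)) {Y : Fin (n + 1) → (Fin k → F)}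
    (hY : ω (X j) (Y j) = 0) : HasS Q (Im M) (tp X) (tp Y) := by
  classical
  have hpure := hQ.pure
  have main : ∀ Y : Fin (n + 1) → (Fin k → F), (∀ i, Y i ∈ (Function.update (fun i => {y | ω (X i) y ≠ 0}) j
      {y | ω (X j) y = 0} : Fin (n + 1) → Set (Fin k → F)) i) → tp Y ∈ SS (hpure X) (Im M) := by
    intro Y hY
    have hYj : ω (X j) (Y j) = 0 := by
      have := hY j
      rw [Function.update_self] at this
      exact this
    have hYi : ∀ i, i ≠ j → ω (X i) (Y i) ≠ 0 := by
      intro i hi
      have := hY i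
      rw [Function.update_of_ne hi] at this
      exact this
    by_cases hYj0 : Y j = 0
    · rw [tp_eq_zero hYj0]; exact Submodule.zero_mem _
    have hYne : ∀ i, Y i ≠ 0 := by
      intro i h
      by_cases hi : i = j
      · rw [hi] at h; exact hYj0 h
      · exact hYi i hi (by rw [h, map_zero])
    -- `z ⊥ Y j`, `z' ⊥ X j`, `ω z' z ≠ 0`
    obtain ⟨z, hz, hz'⟩ := exists_perp_avoid hω ![Y j] (X j) (by omega)
    have hz0 := hz 0
    simp only [Matrix.cons_val_zero, Matrix.cons_val_fin_one] at hz0
    obtain ⟨z', h1, h2⟩ := hω.exists_sep hz' trivial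
    rw [mem_SS]
    have b1 := hA j X hX z
    have b2 := hA j Y hYne z' 1
    rw [one_smul] at b2
    refine HasS.comm b1 b2 (hpure _) ?_ ?_ ?_ ?_
    · refine hQ.polar_zero j ?_
      rw [Function.update_self]; exact h2
    · refine hQ.polar_zero j ?_
      rw [hω.skew, hYj, neg_zero]
    · refine hQ.polar_zero j ?_
      rw [Function.update_self, hz0]
    · refine hQ.polar_ne fun i => ?_
      by_cases hi : i = j
      · rw [hi, Function.update_self, Function.update_self, h1]; exact one_ne_zero
      · rw [Function.update_of_ne hi, Function.update_of_ne hi, hω.skew]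
        exact neg_ne_zero.2 (hYi i hi)
  refine tp_span (SS (hpure X) (Im M)) _ main Y fun i => ?_
  by_cases hi : i = j
  · rw [hi, Function.update_self]
    exact Submodule.subset_span hY
  · rw [Function.update_of_ne hi, span_nonperp hω (hX i)]
    trivial

/-- `Y m = X m`, `Y b = X b`. -/
theorem stepA2 (hQ : QForm hω Q c₀) (hA : ∀ j, Adj ω Q (Im M) j)
    {X : Fin (n + 1) → (Fin k → F)} (hX : ∀ m, X m ≠ 0) {m b : Fin (n + 1)} (hmb : m ≠ b)
    {Y : Fin (n + 1) → (Fin k → F)} (hYm : Y m = X m) (hYb : Y b = X b) :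
    HasS Q (Im M) (tp X) (tp Y) := by
  classical
  have hpure := hQ.pure
  obtain ⟨z, hz⟩ := hω.exists_pair (hX m)
  obtain ⟨z', hz'⟩ := hω.exists_pair (hX b)
  have main : ∀ Y : Fin (n + 1) → (Fin k → F), (∀ i, Y i ∈ (Function.update (Function.update
      (fun i => {y | ω (X i) y ≠ 0}) m {X m}) b {X b} : Fin (n + 1) → Set (Fin k → F)) i) →
      tp Y ∈ SS (hpure X) (Im M) := by
    intro Y hY
    have hYb : Y b = X b := by
      have := hY b
      rw [Function.update_self] at this
      exact this
    have hYm : Y m = X m := by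
      have := hY m
      rw [Function.update_of_ne hmb, Function.update_self] at this
      exact this
    have hYi : ∀ i, i ≠ m → i ≠ b → ω (X i) (Y i) ≠ 0 := by
      intro i hi hi'
      have := hY i
      rw [Function.update_of_ne hi', Function.update_of_ne hi] at this
      exact this
    have hYne : ∀ i, Y i ≠ 0 := by
      intro i h
      by_cases hi : i = m
      · rw [hi, hYm] at h; exact hX m h
      · by_cases hi' : i = b
        · rw [hi', hYb] at h; exact hX b h
        · exact hYi i hi hi' (by rw [h, map_zero])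
    rw [mem_SS]
    have b1 := hA m X hX z
    have b2 := hA b Y hYne z' 1
    rw [one_smul] at b2
    refine HasS.comm b1 b2 (hpure _) ?_ ?_ ?_ ?_
    · refine hQ.polar_zero m ?_
      rw [Function.update_of_ne hmb, hYm, hω.alt]
    · refine hQ.polar_zero m ?_
      rw [hYm, hω.alt]
    · refine hQ.polar_zero b ?_
      rw [Function.update_of_ne (Ne.symm hmb), hYb, hω.alt]
    · refine hQ.polar_ne fun i => ?_
      by_cases hi : i = m
      · rw [hi, Function.update_of_ne hmb, Function.update_self, hYm, hz]; exact one_ne_zero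
      · by_cases hi' : i = b
        · rw [hi', Function.update_self, Function.update_of_ne (Ne.symm hmb), hω.skew, hz']
          exact neg_ne_zero.2 one_ne_zero
        · rw [Function.update_of_ne hi', Function.update_of_ne hi, hω.skew]
          exact neg_ne_zero.2 (hYi i hi hi')
  refine tp_span (SS (hpure X) (Im M)) _ main Y fun i => ?_
  by_cases hi' : i = b
  · rw [hi', Function.update_self, hYb]
    exact Submodule.subset_span rfl
  · by_cases hi : i = m
    · rw [Function.update_of_ne hi', hi, Function.update_self, hYm]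
      exact Submodule.subset_span rfl
    · rw [Function.update_of_ne hi', Function.update_of_ne hi, span_nonperp hω (hX i)]
      trivial

/-- `Y m = X m`, at least four slots. -/
theorem stepB2 (hQ : QForm hω Q c₀) (hn : 3 ≤ n) (hA : ∀ j, Adj ω Q (Im M) j)
    {X : Fin (n + 1) → (Fin k → F)} (hX : ∀ m, X m ≠ 0) (m : Fin (n + 1))
    {Y : Fin (n + 1) → (Fin k → F)} (hYm : Y m = X m) :
    HasS Q (Im M) (tp X) (tp Y) := by
  classical
  have hpure := hQ.pure
  -- three more slots
  obtain ⟨b, hbm⟩ : ∃ b : Fin (n + 1), b ≠ m := by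
    have : Nontrivial (Fin (n + 1)) := Fin.nontrivial_iff_two_le.2 (by omega)
    exact exists_ne m
  obtain ⟨c₁, c₂, hc₁m, hc₁b, hc₂m, hc₂b, hcc⟩ : ∃ c₁ c₂ : Fin (n + 1), c₁ ≠ m ∧ c₁ ≠ b ∧ c₂ ≠ m ∧ c₂ ≠ b ∧ c₁ ≠ c₂ := by
    have h1 : 2 ≤ (Finset.univ \ {m, b} : Finset (Fin (n + 1))).card := by
      rw [Finset.card_sdiff_of_subset (Finset.subset_univ _), Finset.card_univ, Fintype.card_fin]
      have : ({m, b} : Finset (Fin (n + 1))).card ≤ 2 := Finset.card_le_two
      omega
    obtain ⟨c₁, hc₁, c₂, hc₂, hne⟩ := Finset.one_lt_card.1 (by omega : 1 < (Finset.univ \ {m, b} : Finset (Fin (n + 1))).card)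
    simp only [Finset.mem_sdiff, Finset.mem_univ, true_and, Finset.mem_insert, Finset.mem_singleton, not_or] at hc₁ hc₂
    exact ⟨c₁, c₂, hc₁.1, hc₁.2, hc₂.1, hc₂.2, hne⟩
  obtain ⟨z, hz⟩ := hω.exists_pair (hX m)
  have main : ∀ Y : Fin (n + 1) → (Fin k → F), (∀ i, Y i ∈ (Function.update
      (fun i => {y | ω (X i) y ≠ 0}) m {X m} : Fin (n + 1) → Set (Fin k → F)) i) →
      tp Y ∈ SS (hpure X) (Im M) := by
    intro Y hY
    have hYm : Y m = X m := by
      have := hY m
      rw [Function.update_self] at this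
      exact this
    have hYi : ∀ i, i ≠ m → ω (X i) (Y i) ≠ 0 := by
      intro i hi
      have := hY i
      rw [Function.update_of_ne hi] at this
      exact this
    have hYne : ∀ i, Y i ≠ 0 := by
      intro i h
      by_cases hi : i = m
      · rw [hi, hYm] at h; exact hX m h
      · exact hYi i hi (by rw [h, map_zero])
    obtain ⟨z', hz'⟩ := hω.exists_pair (hYne b)
    rw [mem_SS]
    have b1 : HasS Q (Im M) (tp X) (tp (Function.update (Function.update X m z) b (Y b))) :=
      stepA2 hQ hA hX hcc (by rw [Function.update_of_ne hc₁b, Function.update_of_ne hc₁m])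
        (by rw [Function.update_of_ne hc₂b, Function.update_of_ne hc₂m])
    have b2 := hA b Y hYne z' 1
    rw [one_smul] at b2
    refine HasS.comm b1 b2 (hpure _) ?_ ?_ ?_ ?_
    · refine hQ.polar_zero m ?_
      rw [Function.update_of_ne (Ne.symm hbm), hYm, hω.alt]
    · refine hQ.polar_zero m ?_
      rw [hYm, hω.alt]
    · refine hQ.polar_zero b ?_
      rw [Function.update_self, hω.alt]
    · refine hQ.polar_ne fun i => ?_
      by_cases hi : i = m
      · rw [hi, Function.update_of_ne (Ne.symm hbm), Function.update_of_ne (Ne.symm hbm), Function.update_self, hYm, hz]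
        exact one_ne_zero
      · by_cases hi' : i = b
        · rw [hi', Function.update_self, Function.update_self, hω.skew, hz']
          exact neg_ne_zero.2 one_ne_zero
        · rw [Function.update_of_ne hi', Function.update_of_ne hi', Function.update_of_ne hi, hω.skew]
          exact neg_ne_zero.2 (hYi i hi)
  refine tp_span (SS (hpure X) (Im M)) _ main Y fun i => ?_
  by_cases hi : i = m
  · rw [hi, Function.update_self, hYm]
    exact Submodule.subset_span rfl
  · rw [Function.update_of_ne hi, span_nonperp hω (hX i)]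
    trivial

/-- Moving adjacency by even permutations. -/
theorem adj_perm (hQ : QForm hω Q c₀) (hn : 2 ≤ n) (hM : SlotsM ω M) {j : Fin (n + 1)}
    (hA : Adj ω Q (Im M) j) (i : Fin (n + 1)) : Adj ω Q (Im M) i := by
  classical
  by_cases hij : i = j
  · rw [hij]; exact hA
  obtain ⟨l, hli, hlj⟩ : ∃ l : Fin (n + 1), l ≠ i ∧ l ≠ j := by
    by_contra hcon
    push Not at hcon
    have h1 : (Finset.univ : Finset (Fin (n + 1))) ⊆ {i, j} := by
      intro l _
      by_cases h2 : l = i
      · simp [h2]
      · simp [hcon l h2]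
    have h2 := Finset.card_le_card h1
    rw [Finset.card_univ, Fintype.card_fin] at h2
    have h3 : ({i, j} : Finset (Fin (n + 1))).card ≤ 2 := Finset.card_le_two
    omega
  set π : Equiv.Perm (Fin (n + 1)) := Equiv.swap j l * Equiv.swap j i with hπ
  have hsign : Equiv.Perm.sign π = 1 := by
    rw [hπ, Equiv.Perm.sign_mul, Equiv.Perm.sign_swap (Ne.symm hlj), Equiv.Perm.sign_swap (Ne.symm hij)]
    decide
  have hπj : π j = i := by
    rw [hπ, Equiv.Perm.mul_apply, Equiv.swap_apply_left, Equiv.swap_apply_of_ne_of_ne hij (Ne.symm hli)]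
  intro X hX v c
  have h1 := hA (fun m => X (π m)) (fun m => hX _) v c
  have h2 := perm_map hQ hM h1 hsign
  have e1 : (fun i => X (π (π.symm i))) = X := by
    funext m
    rw [Equiv.apply_symm_apply]
  have e2 : (fun i' => Function.update (fun m => X (π m)) j v (π.symm i')) = Function.update X i v := by
    funext m
    by_cases h : m = i
    · rw [h, Function.update_self]
      have : π.symm i = j := by rw [Equiv.symm_apply_eq, hπj]
      rw [this, Function.update_self]
    · rw [Function.update_of_ne h, Function.update_of_ne, Equiv.apply_symm_apply]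
      intro h'
      apply h
      rw [Equiv.symm_apply_eq, hπj] at h'
      exact h'
  rw [e2] at h2
  have e3 : tp (fun i => (fun m => X (π m)) (π.symm i)) = tp X := congrArg tp e1
  rwa [e3] at h2

/-- **Generation.** -/
theorem E_le_of_hasLong (hk : 4 ≤ k ∧ 1 ≤ n ∨ k = 2 ∧ 3 ≤ n) (hQ : QForm hω Q c₀) (hG : Good Q)
    (hsq : ∀ c : F, ∃ d e, c = d * d + e * e) (hM : SlotsM ω M) (hL : HasLong ω M) : E Q ≤ Im M := by
  have hperp : ∀ X : Fin (n + 1) → (Fin k → F), (∀ m, X m ≠ 0) → ∀ (m : Fin (n + 1)) (Y : Fin (n + 1) → (Fin k → F)),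
      ω (X m) (Y m) = 0 → HasS Q (Im M) (tp X) (tp Y) := by
    rcases hk with ⟨hk, hn⟩ | ⟨hk, hn⟩
    · obtain ⟨j, hA0, -⟩ := exists_adj hQ (by omega) hsq hM hL
      have hAdj : ∀ j, Adj0 ω Q (Im M) j → ∀ i, i ≠ j → Adj ω Q (Im M) i := by
        intro j hj i hij X hX v
        exact stepA hQ hk (by omega) hj hX (by rw [Function.update_of_ne (Ne.symm hij)])
      have hall : ∀ i, Adj ω Q (Im M) i := by
        intro i
        by_cases hij : i = j
        · obtain ⟨l, hlj⟩ : ∃ l : Fin (n + 1), l ≠ j := by
            have : Nontrivial (Fin (n + 1)) := Fin.nontrivial_iff_two_le.2 (by omega)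
            exact exists_ne j
          have h1 := hAdj j hA0 l hlj
          rw [hij]
          exact hAdj l (fun X hX v _ => h1 X hX v) j (Ne.symm hlj)
        · exact hAdj j hA0 i hij
      exact fun X hX m Y hY => stepB hQ hk hall hX m hY
    · obtain ⟨j, -, hA⟩ := exists_adj hQ (by omega) hsq hM hL
      have hall : ∀ i, Adj ω Q (Im M) i := adj_perm hQ (by omega) hM (hA hk)
      intro X hX m Y hY
      obtain ⟨c, hc⟩ := perp_two hω hk (hX m) hY
      have h1 := stepB2 hQ hn hall hX m (Y := Function.update Y m (X m)) (by rw [Function.update_self])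
      have e : tp Y = c • tp (Function.update Y m (X m)) := by
        rw [← tp_update_smul, ← hc, Function.update_eq_self]
      rw [e]
      intro c'
      rw [smul_smul]
      exact h1 _
  have hfull : ∀ X : Fin (n + 1) → (Fin k → F), (∀ m, X m ≠ 0) → Full Q (Im M) (tp X) :=
    fun X hX => full_of_perp hQ hX (hperp X hX)
  obtain ⟨P, -, -, hP, -⟩ := hL
  have hf : ∀ i, ∃ f, ω (P i) f = 1 := fun i => hω.exists_pair (hP i)
  choose f hf using hf
  have hf0 : ∀ i, f i ≠ 0 := by
    intro i h
    have := hf i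
    rw [h, map_zero] at this
    exact zero_ne_one this
  exact E_le_of_full_pair hG (hfull P hP) (hfull f hf0) (hQ.polar_ne fun i => by rw [hf]; exact one_ne_zero)

end

end Cfsg.Agent.H889.C7
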