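import Mathlib
import Cfsg.Agent.H889.C7.Fix

/-!
The slot theorem: every element of `M` is decomposable or conjugates `End W ⊗ 1` into its centraliser.
-/

set_option autoImplicit false
set_option linter.unusedSectionVars false
set_option linter.unusedVariables false
set_option linter.unusedSimpArgs false

namespace Cfsg.Agent.H889.C7

open Module

variable {F : Type*} [Field F] {k : ℕ} {ω : LinearMap.BilinForm F (Fin k → F)} {B V : Type*}
  [AddCommGroup B] [Module F B] [AddCommGroup V] [Module F V]
  {D : TD ω B V} {fB : LinearMap.BilinForm F B} {fV : LinearMap.BilinForm F V}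
  {M : Subgroup (Module.End F V)ˣ} {hω : Symp ω}

/-- The decomposable elements of `M`. -/
def DM (hω : Symp ω) (D : TD ω B V) (M : Subgroup (Module.End F V)ˣ) : Subgroup M := (Dec hω D).subgroupOf M

theorem mem_DM {g : M} : g ∈ DM hω D M ↔ g.1 ∈ Dec hω D := Subgroup.mem_subgroupOf

section

variable [Nontrivial B] (h : Ctx hω D fB fV M)
include h

theorem TA_dec {g : (Module.End F V)ˣ} (hgM : g ∈ M) (hgD : g ∈ Dec hω D) (z : Module.End F V) :
    D.TA hω (cj g z) = cj g (D.TA hω z) := by
  obtain ⟨α, β, hg⟩ := hgD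
  have hiso := h.hM.isom g hgM
  rw [hg] at hiso
  obtain ⟨μ, hμ, hα⟩ := sim_of_iso hω h.hf h.hk0 hiso
  rw [hg, cj_apply, cj_apply]
  exact D.TA_conj hω hμ hα z

/-- The summand. -/
noncomputable def phi (h : Ctx hω D fB fV M) (z : Module.End F V) : M ⧸ DM hω D M → Module.End F V :=
  Quotient.lift (fun g : M => cj g.1 (D.TA hω (cj g.1⁻¹ z))) (by
    intro a b hab
    have h1 : a⁻¹ * b ∈ DM hω D M := QuotientGroup.leftRel_apply.1 hab
    set x : M := a⁻¹ * b with hx
    have hb : b = a * x := by rw [hx, mul_inv_cancel_left]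
    have h2 : x.1 ∈ Dec hω D := mem_DM.1 h1
    change cj a.1 (D.TA hω (cj a.1⁻¹ z)) = cj b.1 (D.TA hω (cj b.1⁻¹ z))
    have e1 : b.1 = a.1 * x.1 := by rw [hb]; rfl
    rw [e1, mul_inv_rev, cj_mul', cj_mul', TA_dec h (M.inv_mem x.2) ((Dec hω D).inv_mem h2), cj_inv_self])

theorem phi_mk (z : Module.End F V) (g : M) :
    phi h z (g : M ⧸ DM hω D M) = cj g.1 (D.TA hω (cj g.1⁻¹ z)) := rfl

theorem phi_smul (z : Module.End F V) (g : M) (q : M ⧸ DM hω D M) :
    phi h (cj g.1 z) (g • q) = cj g.1 (phi h z q) := by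
  obtain ⟨a, rfl⟩ := QuotientGroup.mk_surjective q
  have e1 : g • ((a : M) : M ⧸ DM hω D M) = ((g * a : M) : M ⧸ DM hω D M) := rfl
  rw [e1, phi_mk, phi_mk]
  have e2 : (g * a : M).1 = g.1 * a.1 := rfl
  rw [e2, mul_inv_rev, cj_mul', cj_mul', cj_inv_self']

theorem phi_add (z z' : Module.End F V) (q : M ⧸ DM hω D M) :
    phi h (z + z') q = phi h z q + phi h z' q := by
  obtain ⟨a, rfl⟩ := QuotientGroup.mk_surjective q
  rw [phi_mk, phi_mk, phi_mk, map_add, D.TA_add, map_add]

/-- Fixed cosets. -/
def FixC (h : Ctx hω D fB fV M) (q : M ⧸ DM hω D M) : Prop :=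
  ∃ g : M, (g : M ⧸ DM hω D M) = q ∧ (g.1 ∈ Dec hω D ∨ PC D g.1)

/-- The root element of `M`. -/
noncomputable def rM (h : Ctx hω D fB fV M) (w : Fin k → F) (c : F) : M := ⟨rU hω D w c, h.mem_rU w c⟩

theorem fixC_iff [FiniteDimensional F V] [FiniteDimensional F B] {w : Fin k → F} (hw : w ≠ 0) {c : F}
    (hc : c ≠ 0) (q : M ⧸ DM hω D M) : rM h w c • q = q ↔ FixC h q := by
  have key : ∀ a : M, rM h w c • ((a : M) : M ⧸ DM hω D M) = ((a : M) : M ⧸ DM hω D M) ↔
      (a.1 ∈ Dec hω D ∨ PC D a.1) := by
    intro a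
    have e1 : rM h w c • ((a : M) : M ⧸ DM hω D M) = ((rM h w c * a : M) : M ⧸ DM hω D M) := rfl
    rw [e1, eq_comm, QuotientGroup.eq, mem_DM, ← fix_iff h hw hc a.2]
    have e2 : (a⁻¹ * (rM h w c * a) : M).1 = a.1⁻¹ * rU hω D w c * a.1 := by
      change a.1⁻¹ * (rU hω D w c * a.1) = _
      rw [mul_assoc]
    rw [e2]
  constructor
  · intro hq
    obtain ⟨a, rfl⟩ := QuotientGroup.mk_surjective q
    exact ⟨a, rfl, (key a).1 hq⟩
  · rintro ⟨a, rfl, ha⟩
    exact (key a).2 ha

open scoped Classical in
/-- The moved cosets. -/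
noncomputable def SM [Fintype (M ⧸ DM hω D M)] (h : Ctx hω D fB fV M) : Finset (M ⧸ DM hω D M) :=
  Finset.univ.filter fun q => ¬ FixC h q

open scoped Classical in
theorem mem_SM [Fintype (M ⧸ DM hω D M)] (q : M ⧸ DM hω D M) : q ∈ SM h ↔ ¬ FixC h q := by
  rw [SM, Finset.mem_filter]
  simp

open scoped Classical in
/-- The sum over the moved cosets is a trace. -/
theorem exists_trace [Fintype F] [Fintype (M ⧸ DM hω D M)] [FiniteDimensional F V] [FiniteDimensional F B]
    {w : Fin k → F} (hw : w ≠ 0) {z : Module.End F V} (hz : z * D.cs w 1 = D.cs w 1 * z) :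
    ∃ Y : Module.End F V, ∑ q ∈ SM h, phi h z q = ∑ c : F, cj (rU hω D w c) Y := by
  have hfixz : ∀ c, cj (rU hω D w c) z = z := by
    intro c
    rw [cj_eq_iff, rU_val, add_mul, mul_add, one_mul, mul_one, smul_mul_assoc, mul_smul_comm, hz]
  have hact : ∀ c d : F, rM h w (c + d) = rM h w c * rM h w d := fun c d =>
    Subtype.ext (rU_add hω D w c d)
  have h0 : rM h w 0 = 1 := Subtype.ext (rU_zero hω D w)
  refine free_sum (fun c q => rM h w c • q) (fun q => by rw [h0, one_smul])
    (fun c d q => by rw [hact, mul_smul]) (fun c => cj (rU hω D w c)) (phi h z) ?_ (SM h) ?_ ?_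
  · intro c q
    have h1 := phi_smul h z (rM h w c) q
    have h2 : cj (rM h w c).1 z = z := hfixz c
    rw [h2] at h1
    exact h1
  · intro c q hq
    rw [mem_SM, ← fixC_iff h hw one_ne_zero] at hq ⊢
    intro h1
    apply hq
    have h2 : rM h w 1 * rM h w c = rM h w c * rM h w 1 := by rw [← hact, ← hact, add_comm]
    rw [← mul_smul, h2, mul_smul] at h1
    exact (MulAction.injective (rM h w c)) h1
  · intro c q hq hcq
    by_contra hc
    rw [mem_SM] at hq
    exact hq ((fixC_iff h hw hc q).1 hcq)

theorem cj_rU (w : Fin k → F) (c : F) (Y : Module.End F V) :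
    cj (rU hω D w c) Y = Y + c • (D.cs w 1 * Y - Y * D.cs w 1) - c ^ 2 • (D.cs w 1 * Y * D.cs w 1) := by
  rw [cj_apply, rU_neg, rU_val, rU_val, add_mul, mul_add, one_mul, mul_one, smul_mul_assoc, add_mul, mul_smul_comm,
    mul_smul_comm, smul_mul_assoc, smul_sub, neg_smul, neg_smul, smul_smul, pow_two]
  abel

theorem sum_cj [Fintype F] (w : Fin k → F) (Y : Module.End F V) :
    ∑ c : F, cj (rU hω D w c) Y = (∑ c : F, c) • (D.cs w 1 * Y - Y * D.cs w 1) -
      (∑ c : F, c ^ 2) • (D.cs w 1 * Y * D.cs w 1) := by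
  simp only [cj_rU h]
  rw [Finset.sum_sub_distrib, Finset.sum_add_distrib, ← Finset.sum_smul, ← Finset.sum_smul, Finset.sum_const,
    Finset.card_univ]
  have : Fintype.card F • Y = 0 := by
    have h1 : Fintype.card F • Y = ((Fintype.card F : ℕ) : F) • Y := (Nat.cast_smul_eq_nsmul F _ _).symm
    rw [h1, FiniteField.cast_card_eq_zero, zero_smul]
  rw [this, zero_add]

/-- The condition on `k` and `|F|`. -/
def KOK (F : Type*) [Field F] [Fintype F] (k : ℕ) : Prop :=
  (k = 2 ∧ (2 : F) ≠ 0 ∧ 3 < Fintype.card F) ∨ (4 ≤ k ∧ (2 : F) ≠ 0) ∨ 6 ≤ k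

omit h [Nontrivial B] in
theorem plucker (hω : Symp ω) (hk : k = 2) (x y w : Fin k → F) : ω x w • y - ω y w • x = ω x y • w := by
  subst hk
  have hexp : ∀ u v : Fin 2 → F, ω u v = (u 0 * v 1 - u 1 * v 0) * ω (Pi.single 0 1) (Pi.single 1 1) := by
    intro u v
    have hu : u = u 0 • Pi.single 0 1 + u 1 • Pi.single 1 1 := by
      funext i
      fin_cases i <;> simp [Pi.single_apply]
    have hv : v = v 0 • Pi.single 0 1 + v 1 • Pi.single 1 1 := by
      funext i
      fin_cases i <;> simp [Pi.single_apply]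
    conv_lhs => rw [hu, hv]
    simp only [map_add, map_smul, LinearMap.add_apply, LinearMap.smul_apply, smul_eq_mul, hω.alt]
    rw [hω.skew (Pi.single 1 1) (Pi.single 0 1)]
    ring
  rw [hexp x w, hexp y w, hexp x y]
  funext i
  fin_cases i <;> simp <;> ring

omit h [Nontrivial B] in
theorem el_comm (hω : Symp ω) {w x y : Fin k → F} (hx : ω x w = 0) (hy : ω w y = 0) (β : Module.End F B) :
    D.el y β x * D.cs w 1 = D.cs w 1 * D.el y β x := by
  refine LinearMap.ext fun v => ?_
  rw [Module.End.mul_apply, Module.End.mul_apply, D.el_apply, TD.cs_apply, TD.cs_apply, D.el_apply, D.κι, D.κι, hx, hy,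
    zero_smul, zero_smul]
  simp

open scoped Classical in
/-- The sum over the moved cosets vanishes. -/
theorem moved_zero [Fintype F] [Fintype (M ⧸ DM hω D M)] [FiniteDimensional F V] [FiniteDimensional F B]
    (hK : KOK F k) (z : Module.End F V) : ∑ q ∈ SM h, phi h z q = 0 := by
  let e : Module.End F V →+ Module.End F V :=
    { toFun := fun z => ∑ q ∈ SM h, phi h z q
      map_zero' := by
        have : ∀ q, phi h 0 q = 0 := fun q => by
          have := phi_add h 0 0 q
          rw [add_zero] at this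
          exact left_eq_add.1 this
        simp only [this, Finset.sum_const_zero]
      map_add' := fun z z' => by simp only [phi_add, Finset.sum_add_distrib] }
  have hsum : (2 : F) ≠ 0 → ∑ c : F, c = 0 := by
    intro h2
    have h3 : 2 < Fintype.card F := by
      by_contra hcon
      have h1 : 1 < Fintype.card F := Fintype.one_lt_card
      have h4 : Fintype.card F = 2 := by omega
      apply h2
      have := FiniteField.cast_card_eq_zero F
      rw [h4] at this
      exact_mod_cast this
    have := FiniteField.sum_pow_lt_card_sub_one (K := F) 1 (by omega)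
    simpa using this
  have he : e = 0 := by
    rcases hK with ⟨hk, h2, hcard⟩ | ⟨hk, h2⟩ | hk
    · -- `k = 2`
      have hs1 := hsum h2
      have hs2 : ∑ c : F, c ^ 2 = 0 := FiniteField.sum_pow_lt_card_sub_one (K := F) 2 (by
        have h5 : Fintype.card F ≠ 4 := by
          intro h4
          apply h2
          have := FiniteField.cast_card_eq_zero F
          rw [h4] at this
          have h6 : (2 : F) * 2 = 0 := by
            have : ((4 : ℕ) : F) = 0 := this
            push_cast at this
            rw [← this]; norm_num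
          exact mul_self_eq_zero.1 h6
        omega)
      have hz : ∀ w, w ≠ 0 → ∀ z : Module.End F V, z * D.cs w 1 = D.cs w 1 * z → e z = 0 := by
        intro w hw z hz
        obtain ⟨Y, hY⟩ := exists_trace h hw hz
        change ∑ q ∈ SM h, phi h z q = 0
        rw [hY, sum_cj h, hs1, hs2, zero_smul, zero_smul, sub_zero]
      have hdiag : ∀ u β, e (D.el u β u) = 0 := by
        intro u β
        by_cases hu : u = 0
        · have : D.el u β u = 0 := by
            refine LinearMap.ext fun v => ?_
            rw [D.el_apply, hu]; simp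
          rw [this, map_zero]
        · exact hz u hu _ (el_comm hω (hω.alt u) (hω.alt u) β)
      obtain ⟨a₀, ha₀⟩ := exists_ne_vec (F := F) h.hk0
      have hone : ∀ β, e (D.map hω 1 β) = 0 := fun β => hz a₀ ha₀ _ (by
        rw [cs_eq_map (hω := hω), map_comm_map])
      apply D.end_ext hω
      intro y β x
      rw [AddMonoidHom.zero_apply]
      have e1 : D.el y β x + D.el x β y = D.el (x + y) β (x + y) - D.el x β x - D.el y β y := by
        refine LinearMap.ext fun v => ?_
        simp only [LinearMap.add_apply, LinearMap.sub_apply, TD.el_apply, map_add]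
        abel
      have e2 : D.el y β x - D.el x β y = D.map hω 1 (ω x y • β) := by
        refine D.ext hω fun w b => ?_
        have h3 := congrArg (fun v => D.ι v (β b)) (plucker hω hk x y w)
        simp only [map_sub, map_smul, LinearMap.sub_apply, LinearMap.smul_apply] at h3
        rw [LinearMap.sub_apply, D.el_apply, D.el_apply, D.κι, D.κι, D.map_ι, Module.End.one_apply,
          LinearMap.smul_apply]
        simp only [map_smul]
        exact h3
      have e3 : e (D.el y β x) + e (D.el x β y) = 0 := by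
        rw [← map_add, e1, map_sub, map_sub, hdiag, hdiag, hdiag, sub_zero, sub_zero]
      have e4 : e (D.el y β x) - e (D.el x β y) = 0 := by
        rw [← map_sub, e2, hone]
      have e5 : (2 : F) • e (D.el y β x) = 0 := by
        rw [two_smul]
        have : e (D.el y β x) + e (D.el y β x) = (e (D.el y β x) + e (D.el x β y)) +
          (e (D.el y β x) - e (D.el x β y)) := by abel
        rw [this, e3, e4, add_zero]
      exact (smul_eq_zero.1 e5).resolve_left h2
    · -- `4 ≤ k`, odd
      have hs1 := hsum h2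
      apply D.end_ext hω
      intro y β x
      rw [AddMonoidHom.zero_apply]
      have key : ∀ w, w ≠ 0 → ω x w = 0 → ω y w = 0 → ∀ v, ∃ b, e (D.el y β x) v = D.ι w b := by
        intro w hw hxw hyw v
        obtain ⟨Y, hY⟩ := exists_trace h hw (el_comm (D := D) hω hxw (by rw [hω.skew, hyw, neg_zero]) β)
        have h1 : e (D.el y β x) = _ := hY
        rw [h1, sum_cj h, hs1, zero_smul, zero_sub, LinearMap.neg_apply, LinearMap.smul_apply,
          Module.End.mul_apply, Module.End.mul_apply, TD.cs_apply, ← map_smul, ← map_neg]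
        exact ⟨_, rfl⟩
      obtain ⟨w, hw, hw0⟩ := exists_perp_avoid hω ![x, y] 0 (by omega)
      obtain ⟨w', hw', hww'⟩ := exists_perp_avoid hω ![x, y] w (by omega)
      have a0 := hw 0
      have a1 := hw 1
      have b0 := hw' 0
      have b1 := hw' 1
      simp only [Matrix.cons_val_zero, Matrix.cons_val_one, Matrix.cons_val_fin_one] at a0 a1 b0 b1
      have hwne : w ≠ 0 := by simpa using hw0 0
      have hw'ne : w' ≠ 0 := by
        intro h0
        exact hww' 0 (by rw [h0, zero_smul])
      refine LinearMap.ext fun v => ?_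
      obtain ⟨b, hb⟩ := key w hwne a0 a1 v
      obtain ⟨b', hb'⟩ := key w' hw'ne b0 b1 v
      have h3 := D.indep hω hww' (b := b') (b' := -b) (by rw [map_neg, ← hb, ← hb']; abel)
      rw [hb', h3, map_zero]; rfl
    · -- `6 ≤ k`
      apply D.end_ext hω
      intro y β x
      rw [AddMonoidHom.zero_apply]
      have key : ∀ w, w ≠ 0 → ω x w = 0 → ω y w = 0 → ∀ v, D.κ w v = 0 → ∃ b, e (D.el y β x) v = D.ι w b := by
        intro w hw hxw hyw v hv
        obtain ⟨Y, hY⟩ := exists_trace h hw (el_comm (D := D) hω hxw (by rw [hω.skew, hyw, neg_zero]) β)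
        have h1 : e (D.el y β x) = _ := hY
        have h2 : D.cs w 1 v = 0 := by rw [TD.cs_apply, hv]; simp
        rw [h1, sum_cj h, LinearMap.sub_apply, LinearMap.smul_apply, LinearMap.smul_apply, LinearMap.sub_apply,
          Module.End.mul_apply, Module.End.mul_apply, Module.End.mul_apply, h2, map_zero, map_zero, smul_zero,
          sub_zero, sub_zero, TD.cs_apply, ← map_smul]
        exact ⟨_, rfl⟩
      refine D.ext hω fun u b => ?_
      obtain ⟨w, hw, hw0⟩ := exists_perp_avoid hω ![x, y, u] 0 (by omega)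
      obtain ⟨w', hw', hww'⟩ := exists_perp_avoid hω ![x, y, u] w (by omega)
      have a0 := hw 0
      have a1 := hw 1
      have a2 := hw 2
      have b0 := hw' 0
      have b1 := hw' 1
      have b2 := hw' 2
      simp only [Matrix.cons_val_zero, Matrix.cons_val_one, Matrix.cons_val_fin_one, Matrix.cons_val] at a0 a1 a2 b0 b1 b2
      have hwne : w ≠ 0 := by simpa using hw0 0
      have hw'ne : w' ≠ 0 := by
        intro h0
        exact hww' 0 (by rw [h0, zero_smul])
      obtain ⟨c, hc⟩ := key w hwne a0 a1 (D.ι u b) (by rw [D.κι, hω.skew, a2, neg_zero, zero_smul])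
      obtain ⟨c', hc'⟩ := key w' hw'ne b0 b1 (D.ι u b) (by rw [D.κι, hω.skew, b2, neg_zero, zero_smul])
      have h3 := D.indep hω hww' (b := c') (b' := -c) (by rw [map_neg, ← hc, ← hc']; abel)
      rw [hc', h3, map_zero]; rfl
  have := DFunLike.congr_fun he z
  exact this

end

end Cfsg.Agent.H889.C7
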