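import Mathlib
import Cfsg.Agent.H889.C7.SlotThm

/-!
The slot theorem, conclusion.
-/

set_option autoImplicit false
set_option linter.unusedSectionVars false
set_option linter.unusedVariables false
set_option linter.unusedSimpArgs false

namespace Cfsg.Agent.H889.C7

open Module

variable {F : Type*} [Field F] {k : ℕ} {ω : LinearMap.BilinForm F (Fin k → F)} {B V : Type*}
  [AddCommGroup B] [Module F B] [AddCommGroup V] [Module F V]
  {D : TD ω B V} {fB : LinearMap.BilinForm F B} {fV : LinearMap.BilinForm F V}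
  {M : Subgroup (Module.End F V)ˣ} {hω : Symp ω}

theorem exists_trace_one (B : Type*) [AddCommGroup B] [Module F B] [FiniteDimensional F B] [Nontrivial B] :
    ∃ β : Module.End F B, LinearMap.trace F B β = 1 := by
  obtain ⟨b₀, hb₀⟩ := exists_ne (0 : B)
  obtain ⟨ψ, hψ⟩ : ∃ ψ : B →ₗ[F] F, ψ b₀ = 1 := by
    obtain ⟨ψ, hψ⟩ : ∃ ψ : B →ₗ[F] F, ψ b₀ ≠ 0 := by
      by_contra hcon
      push Not at hcon
      exact hb₀ ((Module.forall_dual_apply_eq_zero_iff F b₀).1 hcon)
    exact ⟨(ψ b₀)⁻¹ • ψ, by rw [LinearMap.smul_apply, smul_eq_mul, inv_mul_cancel₀ hψ]⟩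
  exact ⟨ψ.smulRight b₀, by rw [LinearMap.trace_smulRight, hψ]⟩

section

variable [Nontrivial B] [FiniteDimensional F V] [FiniteDimensional F B] (h : Ctx hω D fB fV M)
include h

theorem phi_comm {g : M} (hg : PC D g.1) (z : Module.End F V) (u : Fin k → F) :
    phi h z (g : M ⧸ DM hω D M) * D.cs u 1 = D.cs u 1 * phi h z (g : M ⧸ DM hω D M) := by
  rw [phi_mk, TD.TA, cs_eq_map (hω := hω), hg.full h]

theorem phi_zero {g : M} (hg : PC D g.1) (w : Fin k → F) (β : Module.End F B) :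
    phi h (D.el w β w) (g : M ⧸ DM hω D M) = 0 := by
  rw [phi_mk]
  have h1 : D.TA hω (cj g.1⁻¹ (D.el w β w)) = 0 := by
    apply D.TA_eq_zero hω
    intro v u
    obtain ⟨a₀, ha₀⟩ := exists_ne_vec (F := F) h.hk0
    obtain ⟨s, hs⟩ := one_map_of_comm D hω ha₀ (s := cj g.1 (D.map hω (rk ω v u) 1)) (fun x => by
      rw [cs_eq_map (hω := hω), hg.full h])
    have e1 : cj g.1⁻¹ (D.el w β w) * D.el v 1 u = cj g.1⁻¹ (D.el w β w * D.map hω 1 s) := by
      rw [cj_prod, ← hs, cj_inv_self', D.el_eq_map hω v]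
    have e2 : LinearMap.trace F V (cj g.1⁻¹ (D.el w β w * D.map hω 1 s)) =
        LinearMap.trace F V (D.el w β w * D.map hω 1 s) := by
      have e3 : ∀ X : Module.End F V, LinearMap.trace F V (cj g.1⁻¹ X) = LinearMap.trace F V X := by
        intro X
        rw [cj_apply, inv_inv, LinearMap.trace_mul_comm, ← mul_assoc, ← Units.val_mul, mul_inv_cancel,
          Units.val_one, one_mul]
      exact e3 _
    rw [e1, e2]
    have e4 : D.el w β w * D.map hω 1 s = D.ι w ∘ₗ ((β * s) ∘ₗ D.κ w) := by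
      refine D.ext hω fun x b => ?_
      rw [Module.End.mul_apply, D.map_ι, D.el_apply, D.κι, Module.End.one_apply, LinearMap.comp_apply,
        LinearMap.comp_apply, D.κι, Module.End.mul_apply]
      simp only [map_smul]
    rw [e4, LinearMap.trace_comp_comm']
    have e5 : ((β * s) ∘ₗ D.κ w) ∘ₗ D.ι w = 0 := by
      refine LinearMap.ext fun b => ?_
      rw [LinearMap.comp_apply, LinearMap.comp_apply, D.κι, hω.alt, zero_smul, map_zero]; rfl
    rw [e5, map_zero]
  rw [h1, map_zero]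

/-- **The slot theorem.** -/
theorem slot_dich [Fintype F] (hK : KOK F k) {g : (Module.End F V)ˣ} (hg : g ∈ M) :
    g ∈ Dec hω D ∨ ∀ w v, cj g (D.cs w 1) * D.cs v 1 = D.cs v 1 * cj g (D.cs w 1) := by
  classical
  have : Finite (Module.End F V) := Module.finite_of_finite F
  have : Finite (Module.End F V)ˣ := inferInstance
  have := Fintype.ofFinite (M ⧸ DM hω D M)
  by_cases hgD : g ∈ Dec hω D
  · exact Or.inl hgD
  right
  intro w v
  by_cases hw : w = 0
  · have h0 : D.cs (0 : Fin k → F) 1 = 0 := by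
      refine LinearMap.ext fun x => ?_
      rw [TD.cs_apply]; simp
    rw [hw, h0, map_zero, zero_mul, mul_zero]
  -- the equivariant operator
  set Φ : Module.End F V → Module.End F V := fun z => ∑ q : M ⧸ DM hω D M, phi h z q with hΦ
  have hΦM : ∀ z, Φ (cj g z) = cj g (Φ z) := by
    intro z
    rw [hΦ]
    simp only
    rw [map_sum, ← Equiv.sum_comp (MulAction.toPerm (⟨g, hg⟩ : M))]
    refine Finset.sum_congr rfl fun q _ => ?_
    exact phi_smul h z ⟨g, hg⟩ q
  have hsplit : ∀ z, Φ z = ∑ q ∈ (SM h)ᶜ, phi h z q := by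
    intro z
    rw [hΦ]
    simp only
    rw [← Finset.sum_add_sum_compl (SM h), moved_zero h hK, zero_add]
  have hone : ((1 : M) : M ⧸ DM hω D M) ∈ (SM h)ᶜ := by
    rw [Finset.mem_compl, mem_SM, not_not]
    exact ⟨1, rfl, Or.inl (Dec hω D).one_mem⟩
  have hTA : ∀ z, phi h z ((1 : M) : M ⧸ DM hω D M) = D.TA hω z := by
    intro z
    rw [phi_mk]
    change cj 1 (D.TA hω (cj (1 : (Module.End F V)ˣ)⁻¹ z)) = _
    rw [inv_one, cj_one', cj_one']
  have hother : ∀ q ∈ (SM h)ᶜ.erase ((1 : M) : M ⧸ DM hω D M), ∃ a : M, (a : M ⧸ DM hω D M) = q ∧ PC D a.1 := by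
    intro q hq
    obtain ⟨h1, h2⟩ := Finset.mem_erase.1 hq
    rw [Finset.mem_compl, mem_SM, not_not] at h2
    obtain ⟨a, rfl, ha⟩ := h2
    rcases ha with ha | ha
    · exfalso
      apply h1
      rw [eq_comm, QuotientGroup.eq, mem_DM]
      change (1 : (Module.End F V)ˣ)⁻¹ * a.1 ∈ _
      rw [inv_one, one_mul]
      exact ha
    · exact ⟨a, rfl, ha⟩
  obtain ⟨β, hβ⟩ := exists_trace_one (F := F) B
  have h1 : Φ (D.el w β w) = D.cs w 1 := by
    rw [hsplit, ← Finset.add_sum_erase _ _ hone, hTA, D.TA_el, hβ, one_smul]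
    rw [Finset.sum_eq_zero, add_zero]
    · rfl
    · intro q hq
      obtain ⟨a, rfl, ha⟩ := hother q hq
      exact phi_zero h ha w β
  have h2 : ∃ R : Module.End F V, (∀ u, R * D.cs u 1 = D.cs u 1 * R) ∧
      Φ (cj g (D.el w β w)) = D.TA hω (cj g (D.el w β w)) + R := by
    refine ⟨∑ q ∈ (SM h)ᶜ.erase ((1 : M) : M ⧸ DM hω D M), phi h (cj g (D.el w β w)) q, fun u => ?_, ?_⟩
    · rw [Finset.sum_mul, Finset.mul_sum]
      refine Finset.sum_congr rfl fun q hq => ?_
      obtain ⟨a, rfl, ha⟩ := hother q hq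
      exact phi_comm h ha _ u
    · rw [hsplit, ← Finset.add_sum_erase _ _ hone, hTA]
  obtain ⟨R, hR, hR'⟩ := h2
  rw [hΦM, h1] at hR'
  obtain ⟨a₀, ha₀⟩ := exists_ne_vec (F := F) h.hk0
  obtain ⟨s, hs⟩ := one_map_of_comm D hω ha₀ hR
  rw [hs, TD.TA] at hR'
  set x := D.ptr hω (cj g (D.el w β w)) with hx
  have hRL : RL B fV (D.map hω x 1 + D.map hω 1 s) := by
    rw [← hR']
    exact (rl_cs hω h.hf hw).conj (h.hM.isom _ hg)
  rcases sum_scalar hω h.hk x s hRL.sq hRL.rank with ⟨c, hc⟩ | ⟨c, hc⟩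
  · rw [hR', hc, D.map_smul_left, ← D.map_smul_right, ← D.map_add_right, cs_eq_map (hω := hω) v,
      map_comm_map]
  · exfalso
    rw [hc, D.map_smul_right, ← D.map_smul_left, ← D.map_add_left] at hRL hR'
    obtain ⟨u', c', hu', hc', huc⟩ := rl_left hω h.hf hRL
    apply hgD
    exact same_slot hω h.hf h.hM h.hL h.hF hw hu' hc' hg (by
      rw [huc] at hR'
      have := (cj_eq_iff g _ _).1 hR'
      rw [this, smul_mul_assoc])

end

end Cfsg.Agent.H889.C7
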