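import Mathlib
import Cfsg.Agent.H889.TensorPow
import Cfsg.Agent.H889.GammaNonmax
import Cfsg.Agent.H889.C7.Layer

/-!
The concrete tensor power `T n = (Fin n → Fin k) → F` with its `n` slots.
-/

set_option autoImplicit false
set_option linter.unusedSectionVars false
set_option linter.unusedVariables false
set_option linter.unusedSimpArgs false

namespace Cfsg.Agent.H889.C7

open Module Cfsg.Agent.H889

variable {F : Type*} [Field F] {k : ℕ}

/-- The tensor power. -/
abbrev T (F : Type*) (k n : ℕ) := (Fin n → Fin k) → F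

theorem tp_ext {n : ℕ} {V' : Type*} [AddCommGroup V'] [Module F V'] {A A' : T F k n →ₗ[F] V'}
    (h : ∀ xs, A (tp xs) = A' (tp xs)) : A = A' := by
  refine (Pi.basisFun F (Fin n → Fin k)).ext fun a => ?_
  rw [Pi.basisFun_apply, single_eq_tp, h]

theorem tp_insertNth {n : ℕ} (i : Fin (n + 1)) (w : Fin k → F) (xs : Fin n → (Fin k → F))
    (a : Fin (n + 1) → Fin k) :
    tp (i.insertNth w xs : Fin (n + 1) → (Fin k → F)) a = w (a i) * tp xs (i.removeNth a) := by
  rw [tp_apply, Fin.prod_univ_succAbove _ i, tp_apply]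
  congr 1
  · rw [Fin.insertNth_apply_same]
  · refine Finset.prod_congr rfl fun j _ => ?_
    rw [Fin.insertNth_apply_succAbove]
    rfl

/-- `ι w b = w ⊗ b`, with `w` in slot `i`. -/
def ιT {n : ℕ} (i : Fin (n + 1)) : (Fin k → F) →ₗ[F] T F k n →ₗ[F] T F k (n + 1) :=
  LinearMap.mk₂ F (fun w b a => w (a i) * b (i.removeNth a))
    (fun w w' b => by funext a; simp only [Pi.add_apply, add_mul])
    (fun c w b => by funext a; simp only [Pi.smul_apply, smul_eq_mul, mul_assoc])
    (fun w b b' => by funext a; simp only [Pi.add_apply, mul_add])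
    (fun c w b => by funext a; simp only [Pi.smul_apply, smul_eq_mul]; ring)

theorem ιT_apply {n : ℕ} (i : Fin (n + 1)) (w : Fin k → F) (b : T F k n) (a : Fin (n + 1) → Fin k) :
    ιT i w b a = w (a i) * b (i.removeNth a) := rfl

theorem ιT_tp {n : ℕ} (i : Fin (n + 1)) (w : Fin k → F) (xs : Fin n → (Fin k → F)) :
    ιT i w (tp xs) = tp (i.insertNth w xs : Fin (n + 1) → (Fin k → F)) := by
  funext a
  rw [ιT_apply, tp_insertNth]

/-- The contraction of slot `i` with `ω u`. -/
def κT (ω : LinearMap.BilinForm F (Fin k → F)) {n : ℕ} (i : Fin (n + 1)) :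
    (Fin k → F) →ₗ[F] T F k (n + 1) →ₗ[F] T F k n :=
  LinearMap.mk₂ F (fun u v a => ∑ x, ω u (Pi.single x 1) * v (i.insertNth x a : Fin (n + 1) → Fin k))
    (fun u u' v => by
      funext a
      simp only [map_add, LinearMap.add_apply, Pi.add_apply, add_mul, Finset.sum_add_distrib])
    (fun c u v => by
      funext a
      simp only [map_smul, LinearMap.smul_apply, smul_eq_mul, Pi.smul_apply, Finset.mul_sum, mul_assoc])
    (fun u v v' => by funext a; simp only [Pi.add_apply, mul_add, Finset.sum_add_distrib])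
    (fun c u v => by
      funext a
      simp only [Pi.smul_apply, smul_eq_mul, Finset.mul_sum]
      exact Finset.sum_congr rfl fun x _ => by ring)

theorem κT_apply (ω : LinearMap.BilinForm F (Fin k → F)) {n : ℕ} (i : Fin (n + 1)) (u : Fin k → F)
    (v : T F k (n + 1)) (a : Fin n → Fin k) :
    κT ω i u v a = ∑ x, ω u (Pi.single x 1) * v (i.insertNth x a : Fin (n + 1) → Fin k) := rfl

theorem ω_expand (ω : LinearMap.BilinForm F (Fin k → F)) (u w : Fin k → F) :
    ∑ x, ω u (Pi.single x 1) * w x = ω u w := by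
  conv_rhs => rw [← TD.sum_single w]
  rw [map_sum]
  exact Finset.sum_congr rfl fun x _ => by rw [map_smul, smul_eq_mul, mul_comm]

/-- The decomposition with respect to slot `i`. -/
def DT {ω : LinearMap.BilinForm F (Fin k → F)} (hω : Symp ω) {n : ℕ} (i : Fin (n + 1)) :
    TD ω (T F k n) (T F k (n + 1)) where
  ι := ιT i
  κ := κT ω i
  κι := by
    intro u w b
    funext a
    rw [κT_apply, Pi.smul_apply, smul_eq_mul, ← ω_expand, Finset.sum_mul]
    refine Finset.sum_congr rfl fun x _ => ?_
    rw [ιT_apply, Fin.insertNth_apply_same, Fin.removeNth_insertNth]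
    ring
  inj := by
    intro v hv
    funext a
    have h1 := congrFun (hv (TD.dualv hω (a i))) (i.removeNth a)
    rw [κT_apply] at h1
    simp only [TD.ω_dualv] at h1
    rw [Finset.sum_eq_single (a i)] at h1
    · rw [Pi.single_eq_same, one_mul, Fin.insertNth_self_removeNth] at h1
      exact h1
    · intro x _ hx
      rw [Pi.single_eq_of_ne (Ne.symm hx), zero_mul]
    · intro h
      exact absurd (Finset.mem_univ _) h

section

variable {ω : LinearMap.BilinForm F (Fin k → F)} (hω : Symp ω)

theorem DT_ι {n : ℕ} (i : Fin (n + 1)) : (DT hω i).ι = ιT i := rfl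

theorem DT_κ {n : ℕ} (i : Fin (n + 1)) : (DT hω i).κ = κT ω i := rfl

theorem κT_tp {n : ℕ} (i : Fin (n + 1)) (u : Fin k → F) (xs : Fin (n + 1) → (Fin k → F)) :
    κT ω i u (tp xs) = ω u (xs i) • tp (i.removeNth xs) := by
  funext a
  rw [κT_apply, Pi.smul_apply, smul_eq_mul, ← ω_expand, Finset.sum_mul]
  refine Finset.sum_congr rfl fun x _ => ?_
  have h : tp xs (i.insertNth x a : Fin (n + 1) → Fin k) = xs i x * tp (i.removeNth xs) a := by
    rw [tp_apply, Fin.prod_univ_succAbove _ i, tp_apply, Fin.insertNth_apply_same]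
    congr 1
    refine Finset.prod_congr rfl fun j _ => ?_
    rw [Fin.insertNth_apply_succAbove]
    rfl
  rw [h]
  ring

/-- The tensor power of `ω`. -/
noncomputable def fT (ω : LinearMap.BilinForm F (Fin k → F)) (n : ℕ) : LinearMap.BilinForm F (T F k n) :=
  Matrix.toBilin' (Matrix.of fun a b => ∏ i, ω (Pi.single (a i) 1) (Pi.single (b i) 1))

theorem fT_tp (n : ℕ) (xs ys : Fin n → (Fin k → F)) :
    fT ω n (tp xs) (tp ys) = ∏ i, ω (xs i) (ys i) := by
  have h := tensorPowerForm_tp (fun u v => ω u v) ⟨fun x y v => by simp, fun c x v => by simp,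
    fun v x y => by simp, fun c v x => by simp⟩ xs ys
  rw [← h, fT, Matrix.toBilin'_apply]
  rfl

theorem bilin_ext {n m : ℕ} {f g : T F k n →ₗ[F] T F k m →ₗ[F] F}
    (h : ∀ xs ys, f (tp xs) (tp ys) = g (tp xs) (tp ys)) : f = g :=
  tp_ext fun xs => tp_ext fun ys => h xs ys

theorem fT_adj {n : ℕ} (i : Fin (n + 1)) (w : Fin k → F) (b : T F k n) (v : T F k (n + 1)) :
    fT ω (n + 1) (ιT i w b) v = fT ω n b (κT ω i w v) := by
  have h : (fT ω (n + 1)) ∘ₗ (ιT i w) = ((fT ω n).compl₂ (κT ω i w)) := by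
    refine bilin_ext fun xs ys => ?_
    rw [LinearMap.comp_apply, ιT_tp, fT_tp, LinearMap.compl₂_apply, κT_tp, map_smul, fT_tp,
      Fin.prod_univ_succAbove _ i, Fin.insertNth_apply_same, smul_eq_mul]
    congr 1
    refine Finset.prod_congr rfl fun j _ => ?_
    rw [Fin.insertNth_apply_succAbove]
    rfl
  exact LinearMap.congr_fun (LinearMap.congr_fun h b) v

theorem fT_adj' (hω : Symp ω) {n : ℕ} (i : Fin (n + 1)) (w : Fin k → F) (b : T F k n)
    (v : T F k (n + 1)) :
    fT ω (n + 1) v (ιT i w b) = -fT ω n (κT ω i w v) b := by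
  have h : (fT ω (n + 1)).compl₂ (ιT i w) = -((fT ω n) ∘ₗ (κT ω i w)) := by
    refine bilin_ext fun ys xs => ?_
    rw [LinearMap.compl₂_apply, ιT_tp, fT_tp, LinearMap.neg_apply, LinearMap.neg_apply, LinearMap.comp_apply,
      κT_tp, map_smul, LinearMap.smul_apply, fT_tp,
      Fin.prod_univ_succAbove _ i, Fin.insertNth_apply_same, smul_eq_mul, hω.skew, neg_mul]
    congr 2
    refine Finset.prod_congr rfl fun j _ => ?_
    rw [Fin.insertNth_apply_succAbove]
    rfl
  exact LinearMap.congr_fun (LinearMap.congr_fun h v) b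

theorem tp_zero_eq (v : T F k 0) : v = v default • tp (fun i : Fin 0 => (0 : Fin k → F)) := by
  funext a
  rw [Pi.smul_apply, tp_apply, Fin.prod_univ_zero, smul_eq_mul, mul_one, Subsingleton.elim a default]

theorem fT_ndl (hω : Symp ω) : ∀ (n : ℕ) (b : T F k n), (∀ b', fT ω n b b' = 0) → b = 0 := by
  intro n
  induction n with
  | zero =>
    intro b hb
    have h1 := hb (tp fun i => 0)
    rw [tp_zero_eq b, map_smul, LinearMap.smul_apply, fT_tp, Fin.prod_univ_zero, smul_eq_mul, mul_one] at h1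
    rw [tp_zero_eq b, h1, zero_smul]
  | succ n ih =>
    intro v hv
    apply (DT hω (0 : Fin (n + 1))).inj
    intro u
    apply ih
    intro b
    have := fT_adj' hω 0 u b v
    rw [hv] at this
    rw [← neg_eq_zero, DT_κ, ← this]

theorem fT_ndr (hω : Symp ω) : ∀ (n : ℕ) (b' : T F k n), (∀ b, fT ω n b b' = 0) → b' = 0 := by
  intro n
  induction n with
  | zero =>
    intro b hb
    have h1 := hb (tp fun i => 0)
    rw [tp_zero_eq b, map_smul, fT_tp, Fin.prod_univ_zero, smul_eq_mul, mul_one] at h1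
    rw [tp_zero_eq b, h1, zero_smul]
  | succ n ih =>
    intro v hv
    apply (DT hω (0 : Fin (n + 1))).inj
    intro u
    apply ih
    intro b
    have := fT_adj (ω := ω) 0 u b v
    rw [hv] at this
    rw [DT_κ, ← this]

theorem DT_forms {n : ℕ} (i : Fin (n + 1)) : (DT hω i).Forms (fT ω n) (fT ω (n + 1)) where
  adj := fT_adj i
  adj' := fT_adj' hω i
  ndl := fT_ndl hω n
  ndr := fT_ndr hω n

/-! ### Nested slots -/

theorem ιT_swap {n : ℕ} (i : Fin (n + 2)) (j : Fin (n + 1)) (w u : Fin k → F) (b : T F k n) :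
    ιT i w (ιT j u b) = ιT (i.succAbove j) u (ιT (j.predAbove i) w b) := by
  funext a
  rw [ιT_apply, ιT_apply, ιT_apply, ιT_apply, ← Fin.removeNth_removeNth_eq_swap]
  have h1 : i.removeNth a j = a (i.succAbove j) := rfl
  have h2 : (i.succAbove j).removeNth a (j.predAbove i) = a i := by
    rw [Fin.removeNth_apply, Fin.succAbove_succAbove_predAbove]
  rw [h1, h2]
  ring

theorem removeNth_insertNth_swap {α : Type*} {n : ℕ} (i : Fin (n + 2)) (j : Fin (n + 1)) (x : α)
    (f : Fin (n + 1) → α) :
    i.removeNth ((i.succAbove j).insertNth x f : Fin (n + 2) → α) =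
      (j.insertNth x ((j.predAbove i).removeNth f) : Fin (n + 1) → α) := by
  funext m
  rcases Fin.eq_self_or_eq_succAbove j m with rfl | ⟨m', rfl⟩
  · rw [Fin.removeNth_apply, Fin.insertNth_apply_same, Fin.insertNth_apply_same]
  · rw [Fin.removeNth_apply, ← Fin.succAbove_succAbove_succAbove_predAbove, Fin.insertNth_apply_succAbove,
      Fin.insertNth_apply_succAbove, Fin.removeNth_apply]

theorem κT_ιT_swap {n : ℕ} (i : Fin (n + 2)) (j : Fin (n + 1)) (w u : Fin k → F) (b : T F k (n + 1)) :
    κT ω i w (ιT (i.succAbove j) u b) = ιT j u (κT ω (j.predAbove i) w b) := by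
  have h : κT ω i w ∘ₗ ιT (i.succAbove j) u = ιT j u ∘ₗ κT ω (j.predAbove i) w := by
    refine tp_ext fun xs => ?_
    rw [LinearMap.comp_apply, LinearMap.comp_apply, ιT_tp, κT_tp, κT_tp, map_smul, ιT_tp,
      removeNth_insertNth_swap]
    have e : ((i.succAbove j).insertNth u xs : Fin (n + 2) → (Fin k → F)) i = xs (j.predAbove i) := by
      have e1 := Fin.insertNth_apply_succAbove (α := fun _ => Fin k → F) (i.succAbove j) u xs (j.predAbove i)
      rw [Fin.succAbove_succAbove_predAbove] at e1
      exact e1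
    rw [e]
  exact LinearMap.congr_fun h b

theorem κT_swap {n : ℕ} (i : Fin (n + 2)) (j : Fin (n + 1)) (w u : Fin k → F) (v : T F k (n + 2)) :
    κT ω j u (κT ω i w v) = κT ω (j.predAbove i) w (κT ω (i.succAbove j) u v) := by
  have h : κT ω j u ∘ₗ κT ω i w = κT ω (j.predAbove i) w ∘ₗ κT ω (i.succAbove j) u := by
    refine tp_ext fun xs => ?_
    rw [LinearMap.comp_apply, LinearMap.comp_apply, κT_tp, map_smul, κT_tp, κT_tp, map_smul, κT_tp,
      ← Fin.removeNth_removeNth_eq_swap, smul_smul, smul_smul]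
    have h1 : i.removeNth xs j = xs (i.succAbove j) := rfl
    have h2 : (i.succAbove j).removeNth xs (j.predAbove i) = xs i := by
      rw [Fin.removeNth_apply, Fin.succAbove_succAbove_predAbove]
    rw [h1, h2, mul_comm]
  exact LinearMap.congr_fun h v

/-! ### Slot operators -/

/-- The operator `x` acting on slot `j`. -/
noncomputable def sE {n : ℕ} (j : Fin n) (x : Module.End F (Fin k → F)) : Module.End F (T F k n) :=
  Matrix.toLin' (slot j (LinearMap.toMatrix' x))

theorem sE_tp {n : ℕ} (j : Fin n) (x : Module.End F (Fin k → F)) (xs : Fin n → (Fin k → F)) :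
    sE j x (tp xs) = tp (Function.update xs j (x (xs j))) := by
  rw [sE, Matrix.toLin'_apply, slot_mulVec_tp]
  congr 2
  rw [← Matrix.toLin'_apply, Matrix.toLin'_toMatrix']

theorem sE_mul {n : ℕ} (j : Fin n) (x y : Module.End F (Fin k → F)) :
    sE j (x * y) = sE j x * sE j y := by
  refine tp_ext fun xs => ?_
  rw [Module.End.mul_apply, sE_tp, sE_tp, sE_tp, Function.update_idem, Function.update_self,
    Module.End.mul_apply]

theorem sE_one {n : ℕ} (j : Fin n) : sE j (1 : Module.End F (Fin k → F)) = 1 := by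
  refine tp_ext fun xs => ?_
  rw [sE_tp, Module.End.one_apply, Function.update_eq_self, Module.End.one_apply]

theorem sE_add {n : ℕ} (j : Fin n) (x y : Module.End F (Fin k → F)) :
    sE j (x + y) = sE j x + sE j y := by
  refine tp_ext fun xs => ?_
  rw [LinearMap.add_apply, sE_tp, sE_tp, sE_tp, LinearMap.add_apply, tp_update_add]

theorem sE_smul {n : ℕ} (j : Fin n) (c : F) (x : Module.End F (Fin k → F)) :
    sE j (c • x) = c • sE j x := by
  refine tp_ext fun xs => ?_
  rw [LinearMap.smul_apply, sE_tp, sE_tp, LinearMap.smul_apply, tp_update_smul]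

theorem sE_comm {n : ℕ} {j j' : Fin n} (h : j ≠ j') (x y : Module.End F (Fin k → F)) :
    sE j x * sE j' y = sE j' y * sE j x := by
  refine tp_ext fun xs => ?_
  rw [Module.End.mul_apply, Module.End.mul_apply, sE_tp, sE_tp, sE_tp, sE_tp, Function.update_of_ne h,
    Function.update_of_ne (Ne.symm h), Function.update_comm h]

theorem update_insertNth_ne {α : Type*} {n : ℕ} (i : Fin (n + 1)) (j : Fin n) (x y : α) (f : Fin n → α) :
    Function.update (i.insertNth x f : Fin (n + 1) → α) (i.succAbove j) y =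
      (i.insertNth x (Function.update f j y) : Fin (n + 1) → α) := by
  funext m
  rcases Fin.eq_self_or_eq_succAbove i m with rfl | ⟨m', rfl⟩
  · rw [Function.update_of_ne (Fin.succAbove_ne _ _).symm, Fin.insertNth_apply_same, Fin.insertNth_apply_same]
  · rw [Fin.insertNth_apply_succAbove]
    by_cases h : m' = j
    · subst h
      rw [Function.update_self, Function.update_self]
    · rw [Function.update_of_ne (fun h' => h (Fin.succAbove_right_injective h')), Function.update_of_ne h,
        Fin.insertNth_apply_succAbove]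

theorem sE_ιT_self {n : ℕ} (i : Fin (n + 1)) (x : Module.End F (Fin k → F)) (w : Fin k → F) (b : T F k n) :
    sE i x (ιT i w b) = ιT i (x w) b := by
  have h : sE i x ∘ₗ ιT i w = ιT i (x w) := by
    refine tp_ext fun xs => ?_
    rw [LinearMap.comp_apply, ιT_tp, sE_tp, ιT_tp, Fin.insertNth_apply_same, Fin.update_insertNth]
  exact LinearMap.congr_fun h b

theorem sE_ιT_ne {n : ℕ} (i : Fin (n + 1)) (j : Fin n) (x : Module.End F (Fin k → F)) (w : Fin k → F)
    (b : T F k n) : sE (i.succAbove j) x (ιT i w b) = ιT i w (sE j x b) := by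
  have h : sE (i.succAbove j) x ∘ₗ ιT i w = ιT i w ∘ₗ sE j x := by
    refine tp_ext fun xs => ?_
    rw [LinearMap.comp_apply, ιT_tp, sE_tp, LinearMap.comp_apply, sE_tp, ιT_tp, Fin.insertNth_apply_succAbove,
      update_insertNth_ne]
  exact LinearMap.congr_fun h b

theorem map_one_sE {n : ℕ} (i : Fin (n + 1)) (j : Fin n) (x : Module.End F (Fin k → F)) :
    (DT hω i).map hω 1 (sE j x) = sE (i.succAbove j) x := by
  refine (DT hω i).ext hω fun w b => ?_
  rw [TD.map_ι, Module.End.one_apply, DT_ι, sE_ιT_ne]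

theorem map_sE {n : ℕ} (i : Fin (n + 1)) (x : Module.End F (Fin k → F)) :
    (DT hω i).map hω x 1 = sE i x := by
  refine (DT hω i).ext hω fun w b => ?_
  rw [TD.map_ι, Module.End.one_apply, DT_ι, sE_ιT_self]

/-- The slot operator as a unit. -/
noncomputable def sU {n : ℕ} (j : Fin n) (x : (Module.End F (Fin k → F))ˣ) : (Module.End F (T F k n))ˣ where
  val := sE j x.1
  inv := sE j (x⁻¹).1
  val_inv := by rw [← sE_mul, ← Units.val_mul, mul_inv_cancel, Units.val_one, sE_one]
  inv_val := by rw [← sE_mul, ← Units.val_mul, inv_mul_cancel, Units.val_one, sE_one]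

theorem sU_val {n : ℕ} (j : Fin n) (x : (Module.End F (Fin k → F))ˣ) : (sU j x).1 = sE j x.1 := rfl

theorem sU_mul {n : ℕ} (j : Fin n) (x y : (Module.End F (Fin k → F))ˣ) :
    sU j (x * y) = sU j x * sU j y := Units.ext (sE_mul j _ _)

theorem sU_inv {n : ℕ} (j : Fin n) (x : (Module.End F (Fin k → F))ˣ) : (sU j x)⁻¹ = sU j x⁻¹ := by
  rw [inv_eq_iff_mul_eq_one, ← sU_mul, mul_inv_cancel]
  exact Units.ext (sE_one j)

theorem mapU_sU {n : ℕ} (i : Fin (n + 1)) (x : (Module.End F (Fin k → F))ˣ) :
    (DT hω i).mapU hω x 1 = sU i x := Units.ext (map_sE hω i _)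

theorem mapU_one_sU {n : ℕ} (i : Fin (n + 1)) (j : Fin n) (x : (Module.End F (Fin k → F))ˣ) :
    (DT hω i).mapU hω 1 (sU j x) = sU (i.succAbove j) x := Units.ext (map_one_sE hω i j _)

/-- `c_u` in a nested slot. -/
theorem map_one_cs {n : ℕ} (i : Fin (n + 2)) (j : Fin (n + 1)) (u : Fin k → F)
    (s : Module.End F (T F k n)) :
    (DT hω i).map hω 1 ((DT hω j).cs u s) =
      (DT hω (i.succAbove j)).cs u ((DT hω (j.predAbove i)).map hω 1 s) := by
  refine (DT hω i).ext hω fun w b => ?_
  rw [TD.map_ι, Module.End.one_apply, TD.cs_apply, TD.cs_apply, DT_ι, DT_ι, DT_κ, DT_κ, DT_ι]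
  have h1 : κT ω (i.succAbove j) u (ιT i w b) = ιT (j.predAbove i) w (κT ω j u b) := by
    have h := κT_ιT_swap (ω := ω) (i.succAbove j) (j.predAbove i) u w b
    rw [Fin.succAbove_succAbove_predAbove] at h
    have h2 : (j.predAbove i).predAbove (i.succAbove j) = j := by
      have h3 := Fin.succAbove_succAbove_predAbove (i.succAbove j) (j.predAbove i)
      have h4 := Fin.succAbove_succAbove_predAbove i j
      have h5 : i.succAbove ((j.predAbove i).predAbove (i.succAbove j)) = i.succAbove j := by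
        conv_rhs => rw [← h3]
        rw [h4]
      exact Fin.succAbove_right_injective h5
    rw [h2] at h
    exact h
  rw [h1]
  have h2 : (DT hω (j.predAbove i)).map hω 1 s (ιT (j.predAbove i) w (κT ω j u b)) =
      ιT (j.predAbove i) w (s (κT ω j u b)) := by
    have := (DT hω (j.predAbove i)).map_ι hω 1 s w (κT ω j u b)
    rw [DT_ι, Module.End.one_apply] at this
    exact this
  rw [h2, ιT_swap]

end

end Cfsg.Agent.H889.C7
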